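import Groth.Agent.RDerLib.LES
import Mathlib

/-!
`R^n (G ⋙ S) ≅ G ⋙ R^n S` for `G` exact sending injectives to `S`-acyclic objects, naturally.
-/

set_option autoImplicit false
set_option linter.style.haveILetI false
set_option linter.unusedSectionVars false
set_option backward.isDefEq.respectTransparency false
set_option backward.isDefEq.respectTransparency.types false

universe v v' v'' u u' u''

open CategoryTheory Category Limits

namespace Groth.Agent.GrothSS

variable {C : Type u} [Category.{v} C] [Abelian C] [HasInjectiveResolutions C] [EnoughInjectives C]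
  {A : Type u'} [Category.{v'} A] [Abelian A] [HasInjectiveResolutions A]
  {B : Type u''} [Category.{v''} B] [Abelian B] (G : C ⥤ A) [G.Additive] [PreservesFiniteLimits G]
  [PreservesFiniteColimits G] (S : A ⥤ B) [S.Additive]

/-- the chosen short exact sequence -/
noncomputable abbrev seqOf (X : C) : ShortComplex C :=
  ShortComplex.mk (Injective.ι X) (cokernel.π _) (cokernel.condition _)

lemma seqOf_shortExact (X : C) : (seqOf X).ShortExact :=
  { exact := ShortComplex.exact_of_g_is_cokernel _ (cokernelIsCokernel _) }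

lemma map_seqOf_shortExact (X : C) : ((seqOf X).map G).ShortExact :=
  haveI := Functor.preservesHomologyOfExact G
  (seqOf_shortExact X).map_of_exact G

/-- the connecting map upstairs -/
noncomputable abbrev dC (n : ℕ) (X : C) :
    ((G ⋙ S).rightDerived n).obj (seqOf X).X₃ ⟶ ((G ⋙ S).rightDerived (n + 1)).obj X :=
  (RDerLib.res (seqOf_shortExact X)).delta (G ⋙ S) n (n + 1) rfl

/-- the connecting map downstairs -/
noncomputable abbrev dA (n : ℕ) (X : C) :
    (S.rightDerived n).obj (G.obj (seqOf X).X₃) ⟶ (S.rightDerived (n + 1)).obj (G.obj X) :=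
  (RDerLib.res (map_seqOf_shortExact G X)).delta S n (n + 1) rfl

variable (hG : ∀ Q : C, Injective Q → ∀ q : ℕ, IsZero ((S.rightDerived (q + 1)).obj (G.obj Q)))

lemma epi_dC (n : ℕ) (X : C) : Epi (dC G S n X) :=
  (RDerLib.exact₁ (G ⋙ S) (RDerLib.res (seqOf_shortExact X)) n (n + 1) rfl).epi_f
    (((G ⋙ S).isZero_rightDerived_obj_injective_succ n _).eq_of_tgt _ _)

include hG in
lemma epi_dA (n : ℕ) (X : C) : Epi (dA G S n X) :=
  (RDerLib.exact₁ S (RDerLib.res (map_seqOf_shortExact G X)) n (n + 1) rfl).epi_f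
    ((hG (Injective.under X) inferInstance n).eq_of_tgt _ _)

/-- a map between the chosen sequences -/
noncomputable def seqMap {X Y : C} (f : X ⟶ Y) : seqOf X ⟶ seqOf Y :=
  ShortComplex.homMk f (Injective.factorThru (f ≫ Injective.ι Y) (Injective.ι X))
    (cokernel.map _ _ f (Injective.factorThru (f ≫ Injective.ι Y) (Injective.ι X)) (Injective.comp_factorThru _ _))
    (Injective.comp_factorThru _ _).symm (by simp)

include hG in
theorem nonempty_rightDerived_comp_acyclic_nat [PreservesFiniteLimits S] (n : ℕ) :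
    Nonempty ((G ⋙ S).rightDerived n ≅ G ⋙ S.rightDerived n) := by
  induction n with
  | zero => exact ⟨(G ⋙ S).rightDerivedZeroIsoSelf ≪≫ Functor.isoWhiskerLeft G S.rightDerivedZeroIsoSelf.symm⟩
  | succ n ih =>
    obtain ⟨e⟩ := ih
    have key : ∀ X, ∃ h : ((G ⋙ S).rightDerived (n + 1)).obj X ⟶ (S.rightDerived (n + 1)).obj (G.obj X),
        dC G S n X ≫ h = e.hom.app _ ≫ dA G S n X ∧ IsIso h := by
      intro X
      haveI := epi_dC G S n X
      haveI := epi_dA G S hG n X
      have nat := e.hom.naturality (seqOf X).g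
      have nat' := e.inv.naturality (seqOf X).g
      have hA : (S.rightDerived n).map (G.map (seqOf X).g) ≫ dA G S n X = 0 :=
        RDerLib.g_delta S (RDerLib.res (map_seqOf_shortExact G X)) n (n + 1) rfl
      have hC : ((G ⋙ S).rightDerived n).map (seqOf X).g ≫ dC G S n X = 0 :=
        RDerLib.g_delta (G ⋙ S) (RDerLib.res (seqOf_shortExact X)) n (n + 1) rfl
      have eC := RDerLib.exact₃ (G ⋙ S) (RDerLib.res (seqOf_shortExact X)) n (n + 1) rfl
      have eA := RDerLib.exact₃ S (RDerLib.res (map_seqOf_shortExact G X)) n (n + 1) rfl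
      have h1 : ((G ⋙ S).rightDerived n).map (seqOf X).g ≫ e.hom.app _ ≫ dA G S n X = 0 := by
        rw [← assoc, nat, assoc]
        exact (congrArg (_ ≫ ·) hA).trans comp_zero
      have h2 : (S.rightDerived n).map (G.map (seqOf X).g) ≫ e.inv.app _ ≫ dC G S n X = 0 := by
        refine ((reassoc_of% nat') _).trans ?_
        exact (congrArg (_ ≫ ·) hC).trans comp_zero
      have cC := eC.gIsCokernel
      have cA := eA.gIsCokernel
      let h : _ ⟶ (S.rightDerived (n + 1)).obj (G.obj X) := eC.desc (e.hom.app _ ≫ dA G S n X) h1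
      have hh : dC G S n X ≫ h = e.hom.app _ ≫ dA G S n X := eC.g_desc _ h1
      refine ⟨h, hh, ⟨eA.desc (e.inv.app _ ≫ dC G S n X) h2, ?_, ?_⟩⟩
      · rw [← cancel_epi (dC G S n X), ← assoc, hh, assoc]
        refine (congrArg (_ ≫ ·) (eA.g_desc (e.inv.app _ ≫ dC G S n X) h2)).trans ?_
        exact (e.hom_inv_id_app_assoc _ _).trans (comp_id _).symm
      · rw [← cancel_epi (dA G S n X)]
        refine (assoc _ _ _).symm.trans ((congrArg (· ≫ h) (eA.g_desc _ h2)).trans ?_)
        rw [assoc, hh]
        exact (e.inv_hom_id_app_assoc _ _).trans (comp_id _).symm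
    choose h hh hiso using key
    refine ⟨NatIso.ofComponents (fun X => @asIso _ _ _ _ (h X) (hiso X)) fun {X Y} f => ?_⟩
    haveI := epi_dC G S n X
    show ((G ⋙ S).rightDerived (n + 1)).map f ≫ h Y = h X ≫ (S.rightDerived (n + 1)).map (G.map f)
    have nC : dC G S n X ≫ ((G ⋙ S).rightDerived (n + 1)).map f =
        ((G ⋙ S).rightDerived n).map (seqMap f).τ₃ ≫ dC G S n Y :=
      RDerLib.delta_naturality (RDerLib.res (seqOf_shortExact X)) (RDerLib.res (seqOf_shortExact Y)) (seqMap f) (G ⋙ S) n (n + 1) rfl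
    have nA : dA G S n X ≫ (S.rightDerived (n + 1)).map (G.map f) =
        (S.rightDerived n).map (G.map (seqMap f).τ₃) ≫ dA G S n Y :=
      RDerLib.delta_naturality (RDerLib.res (map_seqOf_shortExact G X)) (RDerLib.res (map_seqOf_shortExact G Y))
        ((G.mapShortComplex).map (seqMap f)) S n (n + 1) rfl
    rw [← cancel_epi (dC G S n X), ← assoc, nC, assoc, hh, ← assoc (dC G S n X), hh, assoc, nA]
    exact ((reassoc_of% (e.hom.naturality (seqMap f).τ₃)) _)

end Groth.Agent.GrothSS
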