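import Groth.Agent.GrothSS.Main
import Groth.Agent.DerExt.Coyoneda

/-!
# Variants of the Grothendieck spectral sequence: `Ext` and `ite` forms
-/

set_option autoImplicit false
set_option linter.style.haveILetI false
set_option linter.unusedSectionVars false
set_option backward.isDefEq.respectTransparency false
set_option backward.isDefEq.respectTransparency.types false

universe w v v' v'' u u' u''

open CategoryTheory Category Limits Opposite Abelian
open scoped ZeroObject

namespace Groth.Agent.GrothSS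

section Derived

variable {C : Type u} [Category.{v} C] [Abelian C] [HasInjectiveResolutions C]
  {D : Type u'} [Category.{v'} D] [Abelian D]

/-- Isomorphic functors have isomorphic right derived functors. -/
noncomputable def rightDerivedMapIso {F G : C ⥤ D} [F.Additive] [G.Additive] (e : F ≅ G) (n : ℕ) :
    F.rightDerived n ≅ G.rightDerived n where
  hom := NatTrans.rightDerived e.hom n
  inv := NatTrans.rightDerived e.inv n
  hom_inv_id := by rw [← NatTrans.rightDerived_comp, e.hom_inv_id, NatTrans.rightDerived_id]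
  inv_hom_id := by rw [← NatTrans.rightDerived_comp, e.inv_hom_id, NatTrans.rightDerived_id]

variable {E : Type u''} [Category.{v''} E] [Abelian E]

/-- Post-composition with an exact functor commutes with right derived functors (objectwise). -/
theorem nonempty_rightDerived_comp_exact (F : C ⥤ D) [F.Additive] (G : D ⥤ E) [G.Additive]
    [PreservesFiniteLimits G] [PreservesFiniteColimits G] (n : ℕ) (X : C) :
    Nonempty (((F ⋙ G).rightDerived n).obj X ≅ G.obj ((F.rightDerived n).obj X)) := by
  haveI : G.PreservesHomology := Functor.preservesHomologyOfExact G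
  let R := injectiveResolution X
  let K := (F.mapHomologicalComplex (ComplexShape.up ℕ)).obj R.cocomplex
  exact ⟨R.isoRightDerivedObj (F ⋙ G) n ≪≫
    HomologicalComplex.homologyMapIso
      ((Functor.mapHomologicalComplexCompIso (F := F) (G := G) (Iso.refl (F ⋙ G))
        (ComplexShape.up ℕ)).symm.app R.cocomplex) n ≪≫
    (K.sc n).mapHomologyIso G ≪≫ G.mapIso (R.isoRightDerivedObj F n).symm⟩

end Derived

section Ite

variable {A : Type u} [Category.{v} A] [Abelian A] [EnoughInjectives A]
  {B : Type u'} [Category.{v'} B] [Abelian B] (S : A ⥤ B) [S.Additive] [PreservesFiniteLimits S]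
  {C : Type u''} [Category.{v''} C] [Abelian C] [HasInjectiveResolutions C]
  (T : C ⥤ A) [T.Additive]

/-- The Grothendieck spectral sequence, in the form used in the statements. -/
theorem exists_grothendieck_ite
    (hT : ∀ Q : C, Injective Q → ∀ q : ℕ, 0 < q → IsZero ((S.rightDerived q).obj (T.obj Q)))
    (X : C) (Hn : ℕ → B) (En : ℕ → ℕ → B) (Z : B) (hZ : IsZero Z)
    (eH : ∀ n : ℕ, Nonempty (((T ⋙ S).rightDerived n).obj X ≅ Hn n))
    (e2 : ∀ p q : ℕ, Nonempty ((S.rightDerived p).obj ((T.rightDerived q).obj X) ≅ En p q)) :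
    ∃ (E : E₂CohomologicalSpectralSequence B)
      (a : SpSeq.Abutment E (fun n : ℤ => if 0 ≤ n then Hn n.toNat else Z)),
      (∀ n, a.IsFinite n) ∧ SpSeq.IsBounded E ∧
        ∀ p q : ℤ, Nonempty ((E.page 2 le_rfl).X (p, q) ≅
          (if 0 ≤ p ∧ 0 ≤ q then En p.toNat q.toNat else Z)) := by
  refine exists_grothendieck S T hT X _ (fun p q => if 0 ≤ p ∧ 0 ≤ q then En p.toNat q.toNat else Z)
    (fun n => ?_) (fun n hn => ?_) (fun p q => ?_) (fun p q hpq => ?_)
  · exact ⟨(eH n).some ≪≫ eqToIso ((if_pos (Int.natCast_nonneg n)).trans (by rw [Int.toNat_natCast])).symm⟩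
  · rw [if_neg (by omega)]
    exact hZ
  · exact ⟨(e2 p q).some ≪≫ eqToIso ((if_pos ⟨Int.natCast_nonneg p, Int.natCast_nonneg q⟩).trans
      (by rw [Int.toNat_natCast, Int.toNat_natCast])).symm⟩
  · rw [if_neg (by omega)]
    exact hZ

end Ite

section Hom

variable {A : Type u} [Category.{v} A] [Abelian A] [HasExt.{v} A]
  {C : Type u''} [Category.{v} C] [Abelian C] [HasExt.{v} C]
  (T : C ⥤ A) [T.Additive] (P : A) (Q : C)
  (e : ∀ F : C, (P ⟶ T.obj F) ≃+ (Q ⟶ F))
  (he : ∀ {F G : C} (f : F ⟶ G) (φ : P ⟶ T.obj F), e G (φ ≫ T.map f) = e F φ ≫ f)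

include he in
/-- `Hom(P, T -) ≅ Hom(Q, -)`. -/
noncomputable def homCompIso :
    T ⋙ preadditiveCoyoneda.obj (op P) ≅ preadditiveCoyoneda.obj (op Q) :=
  NatIso.ofComponents (fun F => (e F).toAddCommGrpIso) fun {F G} f => by
    ext φ
    exact he f φ

variable [EnoughInjectives A] [HasInjectiveResolutions C]

include e he in
/-- `Ext^p(P, R^q T X) ⇒ Ext^n(Q, X)` when `Hom(P, T -) = Hom(Q, -)` and `T` sends injectives to
`Hom(P, -)`-acyclic objects. -/
theorem exists_ext (hT : ∀ I : C, Injective I → ∀ q : ℕ, Subsingleton (Ext P (T.obj I) (q + 1)))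
    (X : C) (Hn : ℕ → AddCommGrpCat.{v}) (En : ℕ → ℕ → AddCommGrpCat.{v}) (Z : AddCommGrpCat.{v})
    (hZ : IsZero Z) (eH : ∀ n : ℕ, Nonempty (Ext Q X n ≃+ Hn n))
    (e2 : ∀ p q : ℕ, Nonempty (Ext P ((T.rightDerived q).obj X) p ≃+ En p q)) :
    ∃ (E : E₂CohomologicalSpectralSequence AddCommGrpCat.{v})
      (a : SpSeq.Abutment E (fun n : ℤ => if 0 ≤ n then Hn n.toNat else Z)),
      (∀ n, a.IsFinite n) ∧ SpSeq.IsBounded E ∧
        ∀ p q : ℤ, Nonempty ((E.page 2 le_rfl).X (p, q) ≅
          (if 0 ≤ p ∧ 0 ≤ q then En p.toNat q.toNat else Z)) := by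
  refine exists_grothendieck_ite (preadditiveCoyoneda.obj (op P)) T (fun I hI q hq => ?_) X Hn En Z hZ
    (fun n => ?_) (fun p q => ?_)
  · obtain ⟨q, rfl⟩ : ∃ r, q = r + 1 := ⟨q - 1, by omega⟩
    haveI := hT I hI q
    haveI : Subsingleton ((extFunctorObj P (q + 1)).obj (T.obj I) : AddCommGrpCat.{v}) := hT I hI q
    exact (AddCommGrpCat.isZero_of_subsingleton _).of_iso
      ((DerExt.rightDerivedIso P (q + 1)).app (T.obj I))
  · exact ⟨(rightDerivedMapIso (homCompIso T P Q e he) n ≪≫ DerExt.rightDerivedIso Q n).app X ≪≫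
      (eH n).some.toAddCommGrpIso⟩
  · exact ⟨(DerExt.rightDerivedIso P p).app ((T.rightDerived q).obj X) ≪≫
      (e2 p q).some.toAddCommGrpIso⟩

end Hom

end Groth.Agent.GrothSS
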