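import Groth.Agent.GrothSS.QuotZ

/-!
# Spectral sequences of `Ext` and cohomology with supports on a ringed site
-/

set_option autoImplicit false
set_option linter.style.haveILetI false
set_option linter.unusedSectionVars false
set_option backward.isDefEq.respectTransparency false
set_option backward.isDefEq.respectTransparency.types false
set_option maxHeartbeats 1000000

universe v v' v'' u u' u''

open CategoryTheory Category Limits Opposite Abelian MonoidalCategory
open scoped ZeroObject

namespace Groth.Agent.GrothSS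

section AcyclicComp

variable {C : Type u''} [Category.{v''} C] [Abelian C] [HasInjectiveResolutions C]
  {A : Type u} [Category.{v} A] [Abelian A] [EnoughInjectives A]
  {B : Type u'} [Category.{v'} B] [Abelian B]

/-- An exact functor sending injective objects to acyclic ones may be composed with before deriving. -/
theorem nonempty_rightDerived_comp_acyclic (G : C ⥤ A) [G.Additive] [PreservesFiniteLimits G]
    [PreservesFiniteColimits G] (S : A ⥤ B) [S.Additive] [PreservesFiniteLimits S]
    (hG : ∀ Q : C, Injective Q → ∀ q : ℕ, 0 < q → IsZero ((S.rightDerived q).obj (G.obj Q)))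
    (n : ℕ) (X : C) :
    Nonempty (((G ⋙ S).rightDerived n).obj X ≅ (S.rightDerived n).obj (G.obj X)) := by
  haveI : G.PreservesHomology := Functor.preservesHomologyOfExact G
  let R := injectiveResolution X
  let K := (G.mapHomologicalComplex (ComplexShape.up ℤ)).obj R.cochainComplex
  haveI : CochainComplex.IsStrictlyGE K 0 :=
    inferInstanceAs (CochainComplex.IsStrictlyGE ((G.mapHomologicalComplex (ComplexShape.up ℤ)).obj R.cochainComplex) 0)
  have hz : ∀ i : ℤ, i ≠ 0 → IsZero (K.homology i) := by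
    intro i hi
    rcases lt_or_ge i 0 with h | h
    · exact (exactAt_of_lt K 0 i h).isZero_homology
    · obtain ⟨q, rfl⟩ : ∃ q : ℕ, i = ((q + 1 : ℕ) : ℤ) := ⟨(i - 1).toNat, by omega⟩
      have hex : ((G.mapHomologicalComplex (ComplexShape.up ℕ)).obj R.cocomplex).ExactAt (q + 1) :=
        (HomologicalComplex.exactAt_iff _ _).mpr
          (((HomologicalComplex.exactAt_iff R.cocomplex (q + 1)).mp (R.cocomplex_exactAt_succ q)).map G)
      exact (hex.isZero_homology.of_iso (R.isoRightDerivedObj G (q + 1))).of_iso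
        (nonempty_homology_map_resolution G R (q + 1)).some
  obtain ⟨L₀, j₀, hj₀, hL₀, hge₀⟩ :=
    CochainComplex.Plus.modelCategoryQuillen.exists_quasiIso_injective K 0
  haveI := hge₀
  haveI := quasiIso_map_of_acyclic S j₀ 0
    (fun m i hi => hG (R.cochainComplex.X m) inferInstance i hi) hL₀
  obtain ⟨i₁⟩ := nonempty_homology_map_iso S L₀ 0 hL₀ 0 (fun i hi =>
    (HomologicalComplex.exactAt_iff_isZero_homology _ _).mpr ((hz i hi).of_iso (isoOfQuasiIsoAt j₀ i).symm))
    n (n : ℤ) (by omega)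
  let i₀ : L₀.homology 0 ≅ G.obj X :=
    (isoOfQuasiIsoAt j₀ 0).symm ≪≫ (nonempty_homology_map_resolution G R 0).some ≪≫
      G.rightDerivedZeroIsoSelf.app X
  exact ⟨(nonempty_homology_map_resolution (G ⋙ S) R n).some.symm ≪≫
    isoOfQuasiIsoAt ((S.mapHomologicalComplex (ComplexShape.up ℤ)).map j₀) (n : ℤ) ≪≫
    i₁ ≪≫ (S.rightDerived n).mapIso i₀⟩

end AcyclicComp

variable {C : Type u} [SmallCategory C] {J : GrothendieckTopology C} {O : Sheaf J CommRingCat.{u}}

/-- Tensoring is additive. -/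
theorem additive_tensorFlip (O : Sheaf J CommRingCat.{u}) (M : ModSite.Mod O) :
    ((ModSite.tensorBi O).flip.obj M).Additive := by
  haveI : PreservesColimitsOfSize.{u, u} ((ModSite.tensorBi O).flip.obj M) :=
    ModSiteTensor.preservesColimits_tensorBi_flip_obj O M
  haveI : PreservesColimitsOfSize.{0, 0} ((ModSite.tensorBi O).flip.obj M) :=
    preservesSmallestColimits_of_preservesColimits _
  haveI := preservesBinaryBiproducts_of_preservesBinaryCoproducts ((ModSite.tensorBi O).flip.obj M)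
  exact Functor.additive_of_preservesBinaryBiproducts _

variable (U : C) [ModSite.HasPushOver O U] (M : ModSite.Mod O) [ModSite.HasSheafHom M]

/-- A map out of `X ⊗ M` vanishes on `U` iff its transpose does. -/
theorem restr_transpose_iff {X N : ModSite.Mod O} (φ : ((ModSite.tensorBi O).flip.obj M).obj X ⟶ N) :
    (ModSite.restr O U).map ((ModSite.sheafHomAdj M).homEquiv X N φ) = 0 ↔
      (ModSite.restr O U).map φ = 0 := by
  haveI := additive_tensorFlip O M
  constructor
  · intro h
    have hq : IsZero ((ModSite.restr O U).obj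
        (((ModSite.tensorBi O).flip.obj M).obj ((ModSite.quotOn O U).obj X))) := by
      haveI := additive_tensorFlip (O.over U) ((ModSite.restr O U).obj M)
      obtain ⟨i⟩ := ModSiteExt.nonempty_restrTensorIso O U ((ModSite.quotOn O U).obj X) M
      exact (((ModSite.tensorBi (O.over U)).flip.obj ((ModSite.restr O U).obj M)).map_isZero
        (ExtSupp.isNullOn_quotOn O U X)).of_iso i
    have e : φ = ((ModSite.tensorBi O).flip.obj M).map ((ModSite.quotOnπ O U).app X) ≫
        ((ModSite.sheafHomAdj M).homEquiv _ _).symm (quotDesc _ h) := by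
      rw [← Adjunction.homEquiv_naturality_left_symm, π_quotDesc]
      exact (((ModSite.sheafHomAdj M).homEquiv X N).symm_apply_apply φ).symm
    rw [e, Functor.map_comp, hq.eq_of_tgt ((ModSite.restr O U).map _) 0, zero_comp]
  · intro h
    have h0 : ((ModSite.tensorBi O).flip.obj M).map ((ModSite.extZeroAdj O U).counit.app X) ≫ φ = 0 := by
      rw [← cancel_epi ((ModSiteExt.projectionIso O U M).app ((ModSite.restr O U).obj X)).hom, comp_zero,
        ← assoc]
      exact eq_zero_of_extZero O U _ φ h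
    have h1 : (ModSite.extZeroAdj O U).counit.app X ≫ (ModSite.sheafHomAdj M).homEquiv X N φ = 0 := by
      refine ((ModSite.sheafHomAdj M).homEquiv_naturality_left _ φ).symm.trans ?_
      refine (congrArg _ h0).trans ?_
      rw [(ModSite.sheafHomAdj M).homEquiv_unit, Functor.map_zero, comp_zero]
    have h2 := (ModSite.extZeroAdj O U).homEquiv_unit ((ModSite.restr O U).obj X) ((ModSite.sheafHom M).obj N)
      ((ModSite.extZeroAdj O U).counit.app X ≫ (ModSite.sheafHomAdj M).homEquiv X N φ)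
    rw [Functor.map_comp, ← assoc, (ModSite.extZeroAdj O U).right_triangle_components, id_comp] at h2
    rw [← h2, h1, (ModSite.extZeroAdj O U).homEquiv_unit, Functor.map_zero, comp_zero]

theorem restr_unitSheafHomEquiv_iff {N : ModSite.Mod O} (φ : M ⟶ N) :
    (ModSite.restr O U).map (unitSheafHomEquiv M N φ) = 0 ↔ (ModSite.restr O U).map φ = 0 := by
  refine (restr_transpose_iff U M ((ModSiteExt.unitTensorIso O M).hom ≫ φ)).trans ?_
  rw [Functor.map_comp]
  exact ⟨fun h => (cancel_epi ((ModSite.restr O U).map (ModSiteExt.unitTensorIso O M).hom)).1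
    (h.trans comp_zero.symm), fun h => by rw [h, comp_zero]⟩

theorem restr_symm_unitSheafHom {N : ModSite.Mod O}
    (t : ModSite.unit O ⟶ (ModSite.sectOn O U).obj ((ModSite.sheafHom M).obj N)) :
    (ModSite.restr O U).map ((unitSheafHomEquiv M N).symm
      (t ≫ (ModSite.sectOnι O U).app ((ModSite.sheafHom M).obj N))) = 0 :=
  (restr_unitSheafHomEquiv_iff U M _).mp (by rw [AddEquiv.apply_symm_apply]; exact restr_comp_ι t)

/-- `Hom(O, Γ_Z ℋom(M, N)) = Hom(M/M_U, N)`. -/
noncomputable def unitSectSheafHomEquiv (N : ModSite.Mod O) :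
    (ModSite.unit O ⟶ (ModSite.sectOn O U).obj ((ModSite.sheafHom M).obj N)) ≃+
      ((ModSite.quotOn O U).obj M ⟶ N) where
  toFun t := quotDesc _ (restr_symm_unitSheafHom U M t)
  invFun ψ := sectLift (unitSheafHomEquiv M N ((ModSite.quotOnπ O U).app M ≫ ψ))
    ((restr_unitSheafHomEquiv_iff U M _).mpr (restr_π_comp ψ))
  left_inv t := by
    rw [← cancel_mono ((ModSite.sectOnι O U).app ((ModSite.sheafHom M).obj N)), sectLift_ι, π_quotDesc,
      AddEquiv.apply_symm_apply]
  right_inv ψ := by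
    rw [← cancel_epi ((ModSite.quotOnπ O U).app M), π_quotDesc, sectLift_ι, AddEquiv.symm_apply_apply]
  map_add' a b := by
    rw [← cancel_epi ((ModSite.quotOnπ O U).app M), π_quotDesc, Preadditive.comp_add, π_quotDesc,
      π_quotDesc, Preadditive.add_comp, map_add]

theorem π_unitSectSheafHomEquiv {N : ModSite.Mod O}
    (t : ModSite.unit O ⟶ (ModSite.sectOn O U).obj ((ModSite.sheafHom M).obj N)) :
    (ModSite.quotOnπ O U).app M ≫ unitSectSheafHomEquiv U M N t =
      (unitSheafHomEquiv M N).symm (t ≫ (ModSite.sectOnι O U).app ((ModSite.sheafHom M).obj N)) :=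
  π_quotDesc _ (restr_symm_unitSheafHom U M t)

theorem unitSectSheafHomEquiv_comp {N N' : ModSite.Mod O}
    (t : ModSite.unit O ⟶ (ModSite.sectOn O U).obj ((ModSite.sheafHom M).obj N)) (g : N ⟶ N') :
    unitSectSheafHomEquiv U M N' (t ≫ (ModSite.sectOn O U).map ((ModSite.sheafHom M).map g)) =
      unitSectSheafHomEquiv U M N t ≫ g := by
  rw [← cancel_epi ((ModSite.quotOnπ O U).app M), π_unitSectSheafHomEquiv,
    ← assoc ((ModSite.quotOnπ O U).app M), π_unitSectSheafHomEquiv]
  apply (unitSheafHomEquiv M N').injective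
  rw [AddEquiv.apply_symm_apply, unitSheafHomEquiv_comp, AddEquiv.apply_symm_apply, assoc, assoc]
  exact congrArg (t ≫ ·) ((ModSite.sectOnι O U).naturality ((ModSite.sheafHom M).map g))

/-! ### Acyclicity -/

/-- A module into which maps extend along enough monomorphisms is acyclic for torsion free sheaves. -/
theorem exists_retraction_of_extension (H : ModSite.Mod O) (N : ModSiteHom.PMod O)
    (hext : ∀ {P Q : ModSiteHom.PMod O} (b : P ⟶ Q), Mono (b ▷ N) →
      ∀ a : P ⟶ (SheafOfModules.forget (ModSite.ringSh O)).obj H, ∃ a', b ≫ a' = a)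
    (S : ShortComplex (Sheaf J AddCommGrpCat.{u})) (hS : S.ShortExact)
    (h₁ : S.X₁ = ModSite.toAb H) (h₃ : ModSiteHom.TorsionFree S.X₃) :
    ∃ r : S.X₂ ⟶ S.X₁, S.f ≫ r = 𝟙 S.X₁ := by
  haveI := hS.mono_f
  let G'' : ModSiteHom.PMod O := (SheafOfModules.forget (ModSite.ringSh O)).obj H
  let i : S.X₁.obj ⟶ G''.presheaf := (eqToHom h₁).hom
  have hinj : ∀ V, Function.Injective (S.f.hom.app V) := fun V => by
    haveI : Mono ((sheafToPresheaf J AddCommGrpCat.{u}).map S.f) := inferInstance
    exact (AddCommGrpCat.mono_iff_injective _).mp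
      (inferInstanceAs (Mono (((sheafToPresheaf J AddCommGrpCat.{u}).map S.f).app V)))
  have hex : ∀ V, Function.Exact (S.f.hom.app V) (S.g.hom.app V) := fun V => by
    haveI := hS.mono_f
    let Ev := sheafToPresheaf J AddCommGrpCat.{u} ⋙ (evaluation _ _).obj V
    have : (S.map Ev).Exact := ShortComplex.exact_of_f_is_kernel _
      (KernelFork.mapIsLimit _ hS.fIsKernel Ev)
    exact (ShortComplex.ab_exact_iff_function_exact (S.map Ev)).mp this
  have hm : Mono (ModSiteHom.extMap O S.f.hom ▷ N) := by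
    have hi := ModSiteHom.mono_whiskerRight_extMap O S.f.hom S.g.hom N hinj hex (ModSiteHom.flat_obj h₃)
    exact ⟨fun a b hab => PresheafOfModules.hom_ext fun V => by
      ext x
      exact hi V (ConcreteCategory.congr_hom (congrArg (fun m => PresheafOfModules.Hom.app m V) hab) x)⟩
  obtain ⟨a', ha'⟩ := hext (ModSiteHom.extMap O S.f.hom) hm (ModSiteHom.extDesc (O := O) i)
  let r' : S.X₂.obj ⟶ G''.presheaf := ModSiteHom.extUnit ≫ (PresheafOfModules.toPresheaf _).map a'
  have hr' : S.f.hom ≫ r' = i := by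
    rw [← assoc, ModSiteHom.extUnit_naturality, assoc, ← Functor.map_comp, ha', ModSiteHom.extUnit_extDesc]
  refine ⟨(ObjectProperty.homMk r' : S.X₂ ⟶ ModSite.toAb H) ≫ eqToHom h₁.symm, ?_⟩
  rw [← assoc, ← cancel_mono (eqToHom h₁), assoc, assoc, eqToHom_trans, eqToHom_refl, comp_id, id_comp]
  exact Sheaf.hom_ext hr'

/-- Injective modules are acyclic for torsion free abelian sheaves. -/
theorem subsingleton_ext_toAb_injective (I : ModSite.Mod O) [Injective I]
    (P : Sheaf J AddCommGrpCat.{u}) (hP : ModSiteHom.TorsionFree P) (q : ℕ) :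
    Subsingleton (Ext P (ModSite.toAb I) (q + 1)) := by
  refine ModSiteHom.subsingleton_ext_of_retraction ModSiteHom.exists_epi_torsionFree (fun S hS h₁ h₃ =>
    exists_retraction_of_extension I (𝟙_ (ModSiteHom.PMod O)) (fun {P Q} b hb a => ?_) S hS h₁ h₃) q P hP
  let sadj := PresheafOfModules.sheafificationAdjunction.{u} (R := ModSite.ringSh O)
    (𝟙 (ModSite.ringSh O).obj)
  let L : ModSiteHom.PMod O ⥤ ModSite.Mod O := ModSite.sheafify O
  haveI := hb
  haveI : Mono b := by
    have e : b = (ρ_ P).inv ≫ (b ▷ 𝟙_ (ModSiteHom.PMod O)) ≫ (ρ_ Q).hom := by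
      rw [MonoidalCategory.rightUnitor_naturality, Iso.inv_hom_id_assoc]
    rw [e]
    infer_instance
  haveI : PreservesFiniteLimits L := inferInstanceAs
    (PreservesFiniteLimits (PresheafOfModules.sheafification.{u} (𝟙 (ModSite.ringSh O).obj)))
  haveI : Mono (L.map b) := L.map_mono _
  let a₁ : L.obj P ⟶ I := (sadj.homEquiv P I).symm a
  refine ⟨sadj.homEquiv Q I (Injective.factorThru a₁ (L.map b)), ?_⟩
  rw [← Adjunction.homEquiv_naturality_left]
  erw [Injective.comp_factorThru]
  exact (sadj.homEquiv P I).apply_symm_apply a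

/-- `b ▷ M` mono makes `L b ⊗ M` mono. -/
theorem mono_tensor_sheafify {P Q : ModSiteHom.PMod O} (b : P ⟶ Q)
    (hb : Mono (b ▷ (SheafOfModules.forget (ModSite.ringSh O)).obj M)) :
    Mono (((ModSite.tensorBi O).flip.obj M).map ((ModSite.sheafify O).map b)) := by
  let sadj := PresheafOfModules.sheafificationAdjunction.{u} (R := ModSite.ringSh O)
    (𝟙 (ModSite.ringSh O).obj)
  let F' : ModSiteHom.PMod O := (SheafOfModules.forget (ModSite.ringSh O)).obj M
  let L : ModSiteHom.PMod O ⥤ ModSite.Mod O := ModSite.sheafify O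
  let T := (ModSite.tensorBi O).flip.obj M
  let u : ∀ X : ModSiteHom.PMod O, L.obj (X ⊗ F') ⟶ T.obj (L.obj X) :=
    fun X => L.map (ModSiteTensor.η O X ▷ F')
  have hu : ∀ X, IsIso (u X) := fun X =>
    @ModSiteTensor.isIso_sheafify_map_whiskerRight _ _ _ _ _ _ (ModSiteTensor.η O X)
      (ModSiteTensor.unit_locallyInjective O X) (ModSiteTensor.unit_locallySurjective O X) F'
  let fP : ModSiteHom.PMod O := (SheafOfModules.forget (ModSite.ringSh O)).obj (L.obj P)
  let fQ : ModSiteHom.PMod O := (SheafOfModules.forget (ModSite.ringSh O)).obj (L.obj Q)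
  let fb : fP ⟶ fQ := (SheafOfModules.forget (ModSite.ringSh O)).map (L.map b)
  have hnat : u P ≫ T.map (L.map b) = L.map (b ▷ F') ≫ u Q := by
    change L.map ((show P ⟶ fP from ModSiteTensor.η O P) ▷ F') ≫ L.map (fb ▷ F') =
      L.map (b ▷ F') ≫ L.map ((show Q ⟶ fQ from ModSiteTensor.η O Q) ▷ F')
    rw [← L.map_comp, ← L.map_comp, ← comp_whiskerRight, ← comp_whiskerRight]
    congr 2
    exact (sadj.unit.naturality b).symm
  haveI : PreservesFiniteLimits L := inferInstanceAs
    (PreservesFiniteLimits (PresheafOfModules.sheafification.{u} (𝟙 (ModSite.ringSh O).obj)))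
  haveI := hb
  haveI : Mono (L.map (b ▷ F')) := L.map_mono _
  haveI := hu P
  haveI := hu Q
  have : T.map (L.map b) = inv (u P) ≫ L.map (b ▷ F') ≫ u Q := by rw [← hnat, IsIso.inv_hom_id_assoc]
  change Mono (T.map (L.map b))
  rw [this]
  infer_instance

/-- `Γ_Z ℋom(M, I)` is acyclic for torsion free abelian sheaves when `I` is injective. -/
theorem subsingleton_ext_toAb_sectOn_sheafHom (I : ModSite.Mod O) [Injective I]
    (P : Sheaf J AddCommGrpCat.{u}) (hP : ModSiteHom.TorsionFree P) (q : ℕ) :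
    Subsingleton (Ext P (ModSite.toAb ((ModSite.sectOn O U).obj ((ModSite.sheafHom M).obj I))) (q + 1)) := by
  refine ModSiteHom.subsingleton_ext_of_retraction ModSiteHom.exists_epi_torsionFree (fun S hS h₁ h₃ =>
    exists_retraction_of_extension _ ((SheafOfModules.forget (ModSite.ringSh O)).obj M)
      (fun {P Q} b hb a => ?_) S hS h₁ h₃) q P hP
  let sadj := PresheafOfModules.sheafificationAdjunction.{u} (R := ModSite.ringSh O)
    (𝟙 (ModSite.ringSh O).obj)
  let L : ModSiteHom.PMod O ⥤ ModSite.Mod O := ModSite.sheafify O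
  let T := (ModSite.tensorBi O).flip.obj M
  let tadj := ModSite.sheafHomAdj M
  let H : ModSite.Mod O := (ModSite.sectOn O U).obj ((ModSite.sheafHom M).obj I)
  let ι := (ModSite.sectOnι O U).app ((ModSite.sheafHom M).obj I)
  let a₁ : L.obj P ⟶ H := (sadj.homEquiv P H).symm a
  let a₂ : T.obj (L.obj P) ⟶ I := (tadj.homEquiv (L.obj P) I).symm (a₁ ≫ ι)
  have ha₂ : (ModSite.restr O U).map a₂ = 0 :=
    (restr_transpose_iff U M a₂).mp (by rw [Equiv.apply_symm_apply]; exact restr_comp_ι a₁)
  haveI : Mono (T.map (L.map b)) := mono_tensor_sheafify M b hb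
  haveI := mono_quotOn_map O U (T.map (L.map b))
  let c : (ModSite.quotOn O U).obj (T.obj (L.obj Q)) ⟶ I :=
    Injective.factorThru (quotDesc a₂ ha₂) ((ModSite.quotOn O U).map (T.map (L.map b)))
  let c₁ : L.obj Q ⟶ H := sectLift (tadj.homEquiv (L.obj Q) I ((ModSite.quotOnπ O U).app _ ≫ c))
    ((restr_transpose_iff U M _).mpr (restr_π_comp c))
  have hc₁ : L.map b ≫ c₁ = a₁ := by
    rw [← cancel_mono ι, assoc, sectLift_ι, ← Adjunction.homEquiv_naturality_left]
    have : T.map (L.map b) ≫ (ModSite.quotOnπ O U).app _ ≫ c = a₂ := by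
      rw [← assoc]
      refine (congrArg (fun m => m ≫ c) ((ModSite.quotOnπ O U).naturality (T.map (L.map b)))).trans ?_
      exact (assoc _ _ _).trans ((congrArg (_ ≫ ·) (Injective.comp_factorThru _ _)).trans (π_quotDesc a₂ ha₂))
    refine (congrArg _ this).trans ?_
    exact (tadj.homEquiv _ _).apply_symm_apply _
  refine ⟨sadj.homEquiv Q H c₁, ?_⟩
  rw [← Adjunction.homEquiv_naturality_left]
  erw [hc₁]
  exact (sadj.homEquiv P H).apply_symm_apply a

/-! ### The spectral sequences -/

variable [HasInjectiveResolutions (ModSite.Mod O)]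

/-- `H^p(C, ℋ^q_Z M) ⇒ H^n_Z(M)`. -/
theorem exists_HC_HZsh (M : ModSite.Mod O) :
    ∃ (E : E₂CohomologicalSpectralSequence AddCommGrpCat.{u})
      (a : SpSeq.Abutment E (fun n : ℤ => if 0 ≤ n then AddCommGrpCat.of (ModSite.HZ U M n.toNat)
        else AddCommGrpCat.of PUnit.{u + 1})),
      (∀ n : ℤ, a.IsFinite n) ∧ SpSeq.IsBounded E ∧
      ∀ p q : ℤ, Nonempty ((E.page 2 le_rfl).X (p, q) ≅
        (if 0 ≤ p ∧ 0 ≤ q then AddCommGrpCat.of (ModSite.HC O ((ModSite.HZsh O U q.toNat).obj M) p.toNat)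
          else AddCommGrpCat.of PUnit.{u + 1})) := by
  haveI : PreservesFiniteColimits (SheafOfModules.toSheaf (ModSite.ringSh O)) :=
    CohQC.toSheaf_preservesFiniteColimits _
  let P := ToposFin.quotZ (ToposFin.eps J U)
  let S := preadditiveCoyoneda.obj (op (SiteCoh.constZ J))
  let S' := preadditiveCoyoneda.obj (op P)
  let α : (ModSite.sectOn O U ⋙ SheafOfModules.toSheaf (ModSite.ringSh O)) ⋙ S ≅
      SheafOfModules.toSheaf (ModSite.ringSh O) ⋙ S' :=
    NatIso.ofComponents (fun G => ((constZHomEquiv ((ModSite.sectOn O U).obj G)).trans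
      (quotZHomEquiv U G).symm).toAddCommGrpIso) fun {G G'} g => by
        ext φ
        change (quotZHomEquiv U G').symm (constZHomEquiv _ (φ ≫ _)) = (quotZHomEquiv U G).symm _ ≫ _
        apply (quotZHomEquiv U G').injective
        refine ((quotZHomEquiv U G').apply_symm_apply _).trans (Eq.trans ?_ (quotZHomEquiv_comp U _ g).symm)
        refine (constZHomEquiv_comp φ ((ModSite.sectOn O U).map g)).trans ?_
        exact congrArg (fun t => t ≫ (ModSite.sectOn O U).map g) ((quotZHomEquiv U G).apply_symm_apply _).symm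
  haveI : PreservesFiniteLimits S' := inferInstance
  refine exists_grothendieck_ite S (ModSite.sectOn O U ⋙ SheafOfModules.toSheaf (ModSite.ringSh O))
    (fun I hI q hq => ?_) M (fun n => AddCommGrpCat.of (ModSite.HZ U M n))
    (fun p q => AddCommGrpCat.of (ModSite.HC O ((ModSite.HZsh O U q).obj M) p)) _
    (AddCommGrpCat.isZero_of_subsingleton _) (fun n => ?_) (fun p q => ?_)
  · obtain ⟨q, rfl⟩ : ∃ r, q = r + 1 := ⟨q - 1, by omega⟩
    haveI := injective_sectOn O U I
    haveI : Subsingleton ((extFunctorObj (SiteCoh.constZ J) (q + 1)).obj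
        (ModSite.toAb ((ModSite.sectOn O U).obj I)) : AddCommGrpCat.{u}) :=
      subsingleton_ext_toAb_injective _ _ (torsionFree_constZ J) q
    exact (@AddCommGrpCat.isZero_of_subsingleton ((extFunctorObj (SiteCoh.constZ J) (q + 1)).obj
      (ModSite.toAb ((ModSite.sectOn O U).obj I))) this).of_iso ((DerExt.rightDerivedIso _ (q + 1)).app _)
  · obtain ⟨i⟩ := nonempty_rightDerived_comp_acyclic (SheafOfModules.toSheaf (ModSite.ringSh O)) S'
      (fun I hI q hq => by
        obtain ⟨q, rfl⟩ : ∃ r, q = r + 1 := ⟨q - 1, by omega⟩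
        haveI : Subsingleton ((extFunctorObj P (q + 1)).obj (ModSite.toAb I) : AddCommGrpCat.{u}) :=
          subsingleton_ext_toAb_injective _ _ (torsionFree_quotZ J U) q
        exact (AddCommGrpCat.isZero_of_subsingleton _).of_iso ((DerExt.rightDerivedIso _ (q + 1)).app _)) n M
    exact ⟨(rightDerivedMapIso α n).app M ≪≫ i ≪≫ (DerExt.rightDerivedIso P n).app (ModSite.toAb M)⟩
  · obtain ⟨i⟩ := nonempty_rightDerived_comp_exact (ModSite.sectOn O U)
      (SheafOfModules.toSheaf (ModSite.ringSh O)) q M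
    exact ⟨(DerExt.rightDerivedIso (SiteCoh.constZ J) p).app _ ≪≫
      (extFunctorObj (SiteCoh.constZ J) p).mapIso i⟩

variable [HasExt.{u} (ModSite.Mod O)]

/-- `H^p_Z(ℰxt^q(M, N)) ⇒ Ext^n_Z(M, N)`. -/
theorem exists_HZ_extSh (N : ModSite.Mod O) :
    ∃ (E : E₂CohomologicalSpectralSequence AddCommGrpCat.{u})
      (a : SpSeq.Abutment E (fun n : ℤ => if 0 ≤ n then AddCommGrpCat.of (ExtSupp.ExtZ U M N n.toNat)
        else AddCommGrpCat.of PUnit.{u + 1})),
      (∀ n, a.IsFinite n) ∧ SpSeq.IsBounded E ∧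
      ∀ p q : ℤ, Nonempty ((E.page 2 le_rfl).X (p, q) ≅
        (if 0 ≤ p ∧ 0 ≤ q then AddCommGrpCat.of (ModSite.HZ U ((ModSite.extSh M q.toNat).obj N) p.toNat)
          else AddCommGrpCat.of PUnit.{u + 1})) := by
  haveI : PreservesFiniteColimits (SheafOfModules.toSheaf (ModSite.ringSh O)) :=
    CohQC.toSheaf_preservesFiniteColimits _
  refine exists_ext (ModSite.sheafHom M ⋙ SheafOfModules.toSheaf (ModSite.ringSh O))
    (ToposFin.quotZ (ToposFin.eps J U)) ((ModSite.quotOn O U).obj M)
    (fun G => (quotZHomEquiv U ((ModSite.sheafHom M).obj G)).trans (unitSectSheafHomEquiv U M G))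
    (fun {G G'} g φ => ?_) (fun I hI q => ?_) N (fun n => AddCommGrpCat.of (ExtSupp.ExtZ U M N n))
    (fun p q => AddCommGrpCat.of (ModSite.HZ U ((ModSite.extSh M q).obj N) p)) _
    (AddCommGrpCat.isZero_of_subsingleton _) (fun n => ⟨AddEquiv.refl _⟩) (fun p q => ?_)
  · exact (congrArg (unitSectSheafHomEquiv U M G') (quotZHomEquiv_comp U φ ((ModSite.sheafHom M).map g))).trans
      (unitSectSheafHomEquiv_comp U M _ g)
  · exact ModSiteHom.subsingleton_ext_of_retraction ModSiteHom.exists_epi_torsionFree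
      (fun S hS h₁ h₃ => ModSiteHom.exists_retraction M I S hS h₁ h₃) q _ (torsionFree_quotZ J U)
  · obtain ⟨i⟩ := nonempty_rightDerived_comp_exact (ModSite.sheafHom M)
      (SheafOfModules.toSheaf (ModSite.ringSh O)) q N
    exact ⟨(((extFunctorObj (ToposFin.quotZ (ToposFin.eps J U)) p).mapIso i).addCommGroupIsoToAddEquiv :)⟩

/-- `H^p(C, ℰxt^q_Z(M, N)) ⇒ Ext^n_Z(M, N)`. -/
theorem exists_HC_extZSh (N : ModSite.Mod O) :
    ∃ (E : E₂CohomologicalSpectralSequence AddCommGrpCat.{u})
      (a : SpSeq.Abutment E (fun n : ℤ => if 0 ≤ n then AddCommGrpCat.of (ExtSupp.ExtZ U M N n.toNat)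
        else AddCommGrpCat.of PUnit.{u + 1})),
      (∀ n, a.IsFinite n) ∧ SpSeq.IsBounded E ∧
      ∀ p q : ℤ, Nonempty ((E.page 2 le_rfl).X (p, q) ≅
        (if 0 ≤ p ∧ 0 ≤ q then AddCommGrpCat.of (ModSite.HC O ((ModSite.extZSh U M q.toNat).obj N) p.toNat)
          else AddCommGrpCat.of PUnit.{u + 1})) := by
  haveI : PreservesFiniteColimits (SheafOfModules.toSheaf (ModSite.ringSh O)) :=
    CohQC.toSheaf_preservesFiniteColimits _
  refine exists_ext ((ModSite.sheafHom M ⋙ ModSite.sectOn O U) ⋙ SheafOfModules.toSheaf (ModSite.ringSh O))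
    (SiteCoh.constZ J) ((ModSite.quotOn O U).obj M)
    (fun G => (constZHomEquiv ((ModSite.sectOn O U).obj ((ModSite.sheafHom M).obj G))).trans
      (unitSectSheafHomEquiv U M G))
    (fun {G G'} g φ => ?_) (fun I hI q => ?_) N (fun n => AddCommGrpCat.of (ExtSupp.ExtZ U M N n))
    (fun p q => AddCommGrpCat.of (ModSite.HC O ((ModSite.extZSh U M q).obj N) p)) _
    (AddCommGrpCat.isZero_of_subsingleton _) (fun n => ⟨AddEquiv.refl _⟩) (fun p q => ?_)
  · exact (congrArg (unitSectSheafHomEquiv U M G')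
      (constZHomEquiv_comp φ ((ModSite.sectOn O U).map ((ModSite.sheafHom M).map g)))).trans
      (unitSectSheafHomEquiv_comp U M _ g)
  · exact subsingleton_ext_toAb_sectOn_sheafHom U M I _ (torsionFree_constZ J) q
  · obtain ⟨i⟩ := nonempty_rightDerived_comp_exact (ModSite.sheafHom M ⋙ ModSite.sectOn O U)
      (SheafOfModules.toSheaf (ModSite.ringSh O)) q N
    exact ⟨(((extFunctorObj (SiteCoh.constZ J) p).mapIso i).addCommGroupIsoToAddEquiv :)⟩

/-- `Ext^p(M, ℋ^q_Z N) ⇒ Ext^n_Z(M, N)`. -/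
theorem exists_ext_HZsh (M N : ModSite.Mod O) :
    ∃ (E : E₂CohomologicalSpectralSequence AddCommGrpCat.{u})
      (a : SpSeq.Abutment E (fun n : ℤ => if 0 ≤ n then AddCommGrpCat.of (ExtSupp.ExtZ U M N n.toNat)
        else AddCommGrpCat.of PUnit.{u + 1})),
      (∀ n, a.IsFinite n) ∧ SpSeq.IsBounded E ∧
      ∀ p q : ℤ, Nonempty ((E.page 2 le_rfl).X (p, q) ≅
        (if 0 ≤ p ∧ 0 ≤ q then AddCommGrpCat.of (Ext.{u} M ((ModSite.HZsh O U q.toNat).obj N) p.toNat)
          else AddCommGrpCat.of PUnit.{u + 1})) := by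
  haveI := enoughInjectives_of_resolutions (ModSite.Mod O)
  refine exists_ext (ModSite.sectOn O U) M ((ModSite.quotOn O U).obj M)
    (fun G => quotSectEquiv M G) (fun {G G'} g φ => quotSectEquiv_comp φ g) (fun I hI q => ?_) N
    (fun n => AddCommGrpCat.of (ExtSupp.ExtZ U M N n))
    (fun p q => AddCommGrpCat.of (Ext.{u} M ((ModSite.HZsh O U q).obj N) p)) _
    (AddCommGrpCat.isZero_of_subsingleton _) (fun n => ⟨AddEquiv.refl _⟩) (fun p q => ⟨AddEquiv.refl _⟩)
  haveI := injective_sectOn O U I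
  exact SiteCoh.subsingleton_ext_injective M _ q

end Groth.Agent.GrothSS
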