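import Groth.Agent.GrothSS.Global
import Groth.Agent.KFlat.ClosedImm
import Groth.Agent.DerPush.Basic
import Groth.Agent.DerPerf.Local

/-!
# Change of rings along a closed immersion: the spectral sequences of `Ext`
-/

set_option autoImplicit false
set_option linter.style.haveILetI false
set_option linter.unusedSectionVars false
set_option backward.isDefEq.respectTransparency false
set_option backward.isDefEq.respectTransparency.types false
set_option maxHeartbeats 1000000

universe u

open CategoryTheory Category Limits Opposite TopologicalSpace MonoidalCategory AlgebraicGeometry Abelian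
open Groth.Agent.KFlat
open scoped ZeroObject

namespace Groth.Agent.GrothSS

section Site

variable {C : Type u} [SmallCategory C] {J : GrothendieckTopology C} (O : Sheaf J CommRingCat.{u})

/-- `E ⊗ (Y ⊗ F) ≅ Y ⊗ (E ⊗ F)`, naturally in `Y`. -/
noncomputable def tensorShuffleIso (E F : ModSite.Mod O) :
    (ModSite.tensorBi O).flip.obj F ⋙ (ModSite.tensorBi O).obj E ≅
      (ModSite.tensorBi O).flip.obj (((ModSite.tensorBi O).obj E).obj F) :=
  let fo : ModSite.Mod O ⥤ ModSiteHom.PMod O := SheafOfModules.forget (ModSite.ringSh O)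
  let Sh : ModSiteHom.PMod O ⥤ ModSite.Mod O := ModSite.sheafify O
  let E' := fo.obj E
  let F' := fo.obj F
  let mid : tensorRight F' ⋙ tensorLeft E' ≅ tensorRight (E' ⊗ F') :=
    NatIso.ofComponents
      (fun Y => (α_ E' Y F').symm ≪≫ whiskerRightIso (β_ E' Y) F' ≪≫ α_ Y E' F')
      (fun {Y Y'} g => by
        change E' ◁ (g ▷ F') ≫ (α_ E' Y' F').inv ≫ (β_ E' Y').hom ▷ F' ≫ (α_ Y' E' F').hom =
          ((α_ E' Y F').inv ≫ (β_ E' Y).hom ▷ F' ≫ (α_ Y E' F').hom) ≫ g ▷ (E' ⊗ F')
        rw [associator_inv_naturality_middle_assoc, assoc, assoc, ← associator_naturality_left,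
          ← comp_whiskerRight_assoc, ← comp_whiskerRight_assoc, BraidedCategory.braiding_naturality_right])
  let e₁ : (ModSite.tensorBi O).flip.obj F ⋙ (ModSite.tensorBi O).obj E ≅
      fo ⋙ (tensorRight F' ⋙ tensorLeft E') ⋙ Sh :=
    (show fo ⋙ (tensorRight F' ⋙ tensorLeft E') ⋙ Sh ≅
        (ModSite.tensorBi O).flip.obj F ⋙ (ModSite.tensorBi O).obj E from
      NatIso.ofComponents (fun Y => @asIso _ _ _ _ (Sh.map (E' ◁ ModSiteTensor.η O (fo.obj Y ⊗ F')))
      (@ModSiteTensor.isIso_sheafify_map_whiskerLeft _ _ _ _ _ _ (ModSiteTensor.η O (fo.obj Y ⊗ F'))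
        (ModSiteTensor.unit_locallyInjective O _) (ModSiteTensor.unit_locallySurjective O _) E'))
      (fun {Y Y'} g => by
        refine (Sh.map_comp _ _).symm.trans (Eq.trans ?_ (Sh.map_comp _ _))
        refine congrArg _ ((MonoidalCategory.whiskerLeft_comp _ _ _).symm.trans
          ((congrArg (E' ◁ ·) ?_).trans (MonoidalCategory.whiskerLeft_comp _ _ _)))
        exact (PresheafOfModules.sheafificationAdjunction.{u} (R := ModSite.ringSh O)
          (𝟙 (ModSite.ringSh O).obj)).unit.naturality (fo.map g ▷ F'))).symm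
  let e₂ : fo ⋙ tensorRight (E' ⊗ F') ⋙ Sh ≅
      (ModSite.tensorBi O).flip.obj (((ModSite.tensorBi O).obj E).obj F) :=
    NatIso.ofComponents (fun Y => @asIso _ _ _ _ (Sh.map (fo.obj Y ◁ ModSiteTensor.η O (E' ⊗ F')))
      (@ModSiteTensor.isIso_sheafify_map_whiskerLeft _ _ _ _ _ _ (ModSiteTensor.η O (E' ⊗ F'))
        (ModSiteTensor.unit_locallyInjective O _) (ModSiteTensor.unit_locallySurjective O _) (fo.obj Y)))
      (fun {Y Y'} g => by
        refine (Sh.map_comp _ _).symm.trans (Eq.trans ?_ (Sh.map_comp _ _))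
        exact congrArg _ (whisker_exchange (fo.map g) (ModSiteTensor.η O (E' ⊗ F'))).symm)
  e₁ ≪≫ Functor.isoWhiskerLeft fo (Functor.isoWhiskerRight mid Sh) ≪≫ e₂

end Site

variable {X P : Scheme.{u}} (ι : X ⟶ P)

section Push

variable [IsClosedImmersion ι]

/-- The pushforward along a closed immersion preserves all small colimits. -/
theorem preservesColimits_push : PreservesColimitsOfSize.{u, u} (Scheme.Modules.pushforward ι) := by
  refine ⟨fun {J} _ => ⟨fun {K} => ⟨fun {c} hc => ⟨?_⟩⟩⟩⟩
  let G := Scheme.Modules.pushforward ι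
  let m : colimit (K ⋙ G) ⟶ G.obj c.pt := colimit.desc (K ⋙ G) (G.mapCocone c)
  have hm : IsIso m := by
    refine isIso_of_stalks _ fun y => ?_
    let Sy := DerSch.stalkFunctor P y
    have hd := isColimitOfPreserves Sy (colimit.isColimit (K ⋙ G))
    by_cases hy : y ∈ Set.range ι.base
    · obtain ⟨x, rfl⟩ := hy
      let φ := (ι.stalkMap x).hom
      let e : G ⋙ Sy ≅ DerSch.stalkFunctor X x ⋙ ModuleCat.restrictScalars φ :=
        NatIso.ofComponents (fun A => (LinearEquiv.ofBijective
          ({ toFun := fun m => (show (ModuleCat.restrictScalars φ).obj ((DerSch.stalkFunctor X x).obj A) from pushStalk ι x A m)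
             map_add' := fun a b => map_add (pushStalk ι x A) a b
             map_smul' := fun r a => pushStalk_smul ι x A r a } :
            (Sy.obj (G.obj A)) →ₗ[P.presheaf.stalk (ι.base x)]
              (ModuleCat.restrictScalars φ).obj ((DerSch.stalkFunctor X x).obj A))
            (pushStalk_bijective ι x A)).toModuleIso)
          fun {A B} g => ModuleCat.hom_ext (LinearMap.ext fun m => pushStalk_natural ι x g m)
      have : PreservesColimitsOfSize.{u, u} (ModuleCat.restrictScalars.{u} φ) :=
        have : (ModuleCat.restrictScalars.{u} φ).IsLeftAdjoint :=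
          (ModuleCat.restrictCoextendScalarsAdj.{u} φ).isLeftAdjoint
        inferInstance
      have : PreservesColimit K (G ⋙ Sy) := preservesColimit_of_natIso K e.symm
      have hS := isColimitOfPreserves (G ⋙ Sy) hc
      have : Sy.map m = (hd.coconePointUniqueUpToIso hS).hom := hd.hom_ext fun j => by
        rw [IsColimit.comp_coconePointUniqueUpToIso_hom]
        exact (Sy.map_comp _ _).symm.trans (congrArg Sy.map (colimit.ι_desc _ j))
      rw [this]; infer_instance
    · have hz : ∀ A, IsZero (Sy.obj (G.obj A)) := fun A =>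
        @ModuleCat.isZero_of_subsingleton _ _ (Sy.obj (G.obj A)) (subsingleton_stalk_push ι A hy)
      have hz' : IsZero (Sy.obj (colimit (K ⋙ G))) := (IsZero.iff_id_eq_zero _).2
        (hd.hom_ext fun j => (hz (K.obj j)).eq_of_src _ _)
      exact ⟨0, hz'.eq_of_src _ _, (hz c.pt).eq_of_src _ _⟩
  exact @IsColimit.ofPointIso _ _ _ _ _ _ (G.mapCocone c) (colimit.isColimit (K ⋙ G)) hm

theorem preservesFiniteLimits_push : PreservesFiniteLimits (Scheme.Modules.pushforward ι) := by
  haveI : PreservesLimitsOfSize.{0, 0} (Scheme.Modules.pushforward ι) :=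
    (Scheme.Modules.pullbackPushforwardAdjunction ι).rightAdjoint_preservesLimits
  infer_instance

theorem preservesFiniteColimits_push : PreservesFiniteColimits (Scheme.Modules.pushforward ι) := by
  haveI := preservesColimits_pushforward ι
  infer_instance

theorem kap_surjective (x : X) (G : P.Modules) : Function.Surjective (kap ι x G) := by
  have hφ : Function.Surjective (ι.stalkMap x).hom := ι.stalkMap_surjective x
  let W := (DerSch.stalkFunctor X x).obj ((Scheme.Modules.pullback ι).obj G)
  let N : Submodule (X.presheaf.stalk x) W :=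
    { carrier := Set.range (kap ι x G)
      add_mem' := by
        rintro _ _ ⟨a, rfl⟩ ⟨b, rfl⟩
        exact ⟨a + b, map_add _ a b⟩
      zero_mem' := ⟨0, map_zero _⟩
      smul_mem' := by
        rintro r _ ⟨a, rfl⟩
        obtain ⟨r', rfl⟩ := hφ r
        exact ⟨r' • a, kap_smul ι x G r' a⟩ }
  have h : ModuleCat.ofHom N.mkQ = (0 : W ⟶ ModuleCat.of (X.presheaf.stalk x) (W ⧸ N)) :=
    pull_stalk_ext ι x G fun m => (Submodule.Quotient.mk_eq_zero N).mpr ⟨m, rfl⟩
  intro z
  have hz : Submodule.Quotient.mk (p := N) z = 0 := congrArg (fun g : W ⟶ _ => g.hom z) h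
  exact (Submodule.Quotient.mk_eq_zero N).mp hz

theorem isIso_counit_push : IsIso (Scheme.Modules.pullbackPushforwardAdjunction ι).counit := by
  haveI : ∀ A, IsIso ((Scheme.Modules.pullbackPushforwardAdjunction ι).counit.app A) := fun A => by
    refine isIso_of_stalks _ fun x => ?_
    rw [ConcreteCategory.isIso_iff_bijective]
    refine ⟨fun a b hab => ?_, fun z => ?_⟩
    · obtain ⟨a, rfl⟩ := kap_surjective ι x _ a
      obtain ⟨b, rfl⟩ := kap_surjective ι x _ b
      exact congrArg _ ((pushStalk_bijective ι x A).1 hab)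
    · obtain ⟨m, hm⟩ := (pushStalk_bijective ι x A).2 z
      exact ⟨kap ι x _ m, hm⟩
  exact NatIso.isIso_of_isIso_app _

theorem nonempty_iso_of_push {A B : X.Modules}
    (i : (Scheme.Modules.pushforward ι).obj A ≅ (Scheme.Modules.pushforward ι).obj B) : Nonempty (A ≅ B) := by
  haveI := isIso_counit_push ι
  exact ⟨((asIso (Scheme.Modules.pullbackPushforwardAdjunction ι).counit).app A).symm ≪≫
    (Scheme.Modules.pullback ι).mapIso i ≪≫
    (asIso (Scheme.Modules.pullbackPushforwardAdjunction ι).counit).app B⟩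

/-- `ι_*(A ⊗ ι^* Y) ≅ Y ⊗ ι_* A`, naturally in `Y`. -/
noncomputable def pullTensorPushIso (A : X.Modules) :
    Scheme.Modules.pullback ι ⋙ (schB X).obj A ⋙ Scheme.Modules.pushforward ι ≅
      (ModSite.tensorBi P.sheaf).flip.obj ((Scheme.Modules.pushforward ι).obj A) :=
  (NatIso.ofComponents (fun Y => projFormulaIso ι A Y) fun {Y Y'} g =>
    projHom_natural_right ι A g).symm ≪≫ (KFlat.braid P.sheaf).app _

end Push

section Main

variable [IsClosedImmersion ι] (E : X.Modules)

/-- `F ↦ ι_*(E ⊗ F)` -/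
noncomputable abbrev pushTensor : X.Modules ⥤ P.Modules :=
  (schB X).obj E ⋙ Scheme.Modules.pushforward ι

theorem isLeftAdjoint_pushTensor : (pushTensor ι E).IsLeftAdjoint := by
  haveI := preservesColimits_push ι
  haveI : PreservesColimitsOfSize.{u, u} ((schB X).obj E) :=
    ModSiteTensor.preservesColimits_tensorBi_obj X.sheaf E
  haveI : PreservesColimitsOfSize.{u, u} (pushTensor ι E) := comp_preservesColimits _ _
  haveI : WellPowered.{u} (X.Modules)ᵒᵖ := CategoryTheory.Abelian.wellPowered_opposite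
  exact isLeftAdjoint_of_preservesColimits_of_isSeparating (isSeparator_separator X.Modules) _

theorem preservesFiniteLimits_pushTensor (hE : FlatMod.IsFlat E) :
    PreservesFiniteLimits (pushTensor ι E) := by
  haveI := preservesFiniteLimits_push ι
  haveI : PreservesFiniteLimits ((schB X).flip.obj E) :=
    (((((schB X).flip.obj E).exact_tfae.out 1 3 rfl rfl).1 ((isFlat_iff_flatObj E).1 hE))).1
  haveI : PreservesFiniteLimits ((ModSite.tensorBi X.sheaf).flip.obj E) :=
    ‹PreservesFiniteLimits ((schB X).flip.obj E)›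
  haveI : PreservesFiniteLimits ((schB X).obj E) :=
    preservesFiniteLimits_of_natIso ((KFlat.braid X.sheaf).app E).symm
  exact comp_preservesFiniteLimits _ _

variable (hE : FlatMod.IsFlat E) (F : X.Modules) (G : P.Modules)

include hE in
/-- The right adjoint of `F ↦ ι_*(E ⊗ F)` and its derived functors. -/
theorem exists_adjoint_derived [ModSite.HasSheafHom (O := P.sheaf) ((Scheme.Modules.pushforward ι).obj E)]
    [HasInjectiveResolutions (ModSite.Mod P.sheaf)] :
    ∃ (T : P.Modules ⥤ X.Modules) (_ : T.Additive) (_ : pushTensor ι E ⊣ T),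
      (∀ I : P.Modules, Injective I → Injective (T.obj I)) ∧
      ∀ (_ : HasInjectiveResolutions P.Modules) (q : ℕ),
        Nonempty ((Scheme.Modules.pushforward ι).obj ((T.rightDerived q).obj G) ≅
          (ModSite.extSh (O := P.sheaf) ((Scheme.Modules.pushforward ι).obj E) q).obj G) := by
  haveI := isLeftAdjoint_pushTensor ι E
  let adj := Adjunction.ofIsLeftAdjoint (pushTensor ι E)
  let T := (pushTensor ι E).rightAdjoint
  haveI : T.Additive :=
    haveI : T.IsRightAdjoint := adj.isRightAdjoint
    haveI := preservesBinaryBiproducts_of_preservesBinaryProducts T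
    Functor.additive_of_preservesBinaryBiproducts _
  haveI := preservesFiniteLimits_pushTensor ι E hE
  refine ⟨T, inferInstance, adj, fun I _ => Injective.injective_of_adjoint adj I, fun _ q => ?_⟩
  haveI := preservesFiniteLimits_push ι
  haveI := preservesFiniteColimits_push ι
  let α : T ⋙ Scheme.Modules.pushforward ι ≅
      ModSite.sheafHom (O := P.sheaf) ((Scheme.Modules.pushforward ι).obj E) :=
    Adjunction.rightAdjointUniq
      (((Scheme.Modules.pullbackPushforwardAdjunction ι).comp adj).ofNatIsoLeft (pullTensorPushIso ι E))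
      (ModSite.sheafHomAdj (O := P.sheaf) ((Scheme.Modules.pushforward ι).obj E))
  haveI : (ModSite.sheafHom (O := P.sheaf) ((Scheme.Modules.pushforward ι).obj E)).Additive :=
    ModSite.sheafHom_additive P.sheaf _
  obtain ⟨i⟩ := nonempty_rightDerived_comp_exact T (Scheme.Modules.pushforward ι) q G
  exact ⟨i.symm ≪≫ (rightDerivedMapIso α q).app G⟩

include hE in
/-- `Ext^p_X(F, M_q) ⇒ Ext^n_P(ι_*(E ⊗ F), G)`. -/
theorem exists_changeRings_ext [ModSite.HasSheafHom (O := P.sheaf) ((Scheme.Modules.pushforward ι).obj E)]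
    [HasInjectiveResolutions (ModSite.Mod P.sheaf)] [HasExt.{u} X.Modules] [HasExt.{u} P.Modules]
    (M : ℕ → X.Modules)
    (hM : ∀ q : ℕ, Nonempty (((Scheme.Modules.pushforward ι).obj (M q)) ≅
      (ModSite.extSh (O := P.sheaf) ((Scheme.Modules.pushforward ι).obj E) q).obj G)) :
    ∃ (ES : E₂CohomologicalSpectralSequence AddCommGrpCat.{u})
      (a : SpSeq.Abutment ES (fun n : ℤ =>
        if 0 ≤ n then AddCommGrpCat.of (Ext ((pushTensor ι E).obj F) G n.toNat) else 0)),
      (∀ n, a.IsFinite n) ∧ SpSeq.IsBounded ES ∧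
      ∀ p q : ℤ, Nonempty ((ES.page 2 le_rfl).X (p, q) ≅
        (if 0 ≤ p ∧ 0 ≤ q then AddCommGrpCat.of (Ext F (M q.toNat) p.toNat) else 0)) := by
  haveI : HasInjectiveResolutions P.Modules := ‹HasInjectiveResolutions (ModSite.Mod P.sheaf)›
  obtain ⟨T, hTadd, adj, hinj, hder⟩ := exists_adjoint_derived ι E hE G
  haveI := hTadd
  haveI : (pushTensor ι E).Additive := adj.left_adjoint_additive
  refine exists_ext T F ((pushTensor ι E).obj F) (fun Y => (adj.homAddEquiv F Y).symm)
    (fun {Y Y'} g φ => adj.homEquiv_naturality_right_symm φ g) (fun I hI q => ?_) G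
    (fun n => AddCommGrpCat.of (Ext ((pushTensor ι E).obj F) G n))
    (fun p q => AddCommGrpCat.of (Ext F (M q) p)) 0 (isZero_zero _) (fun n => ⟨AddEquiv.refl _⟩)
    (fun p q => ?_)
  · haveI := hinj I hI
    exact SiteCoh.subsingleton_ext_injective F _ q
  · obtain ⟨i⟩ := nonempty_iso_of_push ι ((hder inferInstance q).some ≪≫ (hM q).some.symm)
    exact ⟨(((extFunctorObj F p).mapIso i).addCommGroupIsoToAddEquiv :)⟩

include hE in
/-- `ι_* ℰxt^p_X(F, M_q) ⇒ ℰxt^n_P(ι_*(E ⊗ F), G)`. -/
theorem exists_changeRings_extSh [ModSite.HasSheafHom (O := P.sheaf) ((Scheme.Modules.pushforward ι).obj E)]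
    [ModSite.HasSheafHom (O := P.sheaf) ((pushTensor ι E).obj F)]
    [HasInjectiveResolutions (ModSite.Mod P.sheaf)] [ModSite.HasSheafHom (O := X.sheaf) F]
    [HasInjectiveResolutions (ModSite.Mod X.sheaf)]
    (M : ℕ → X.Modules)
    (hM : ∀ q : ℕ, Nonempty (((Scheme.Modules.pushforward ι).obj (M q)) ≅
      (ModSite.extSh (O := P.sheaf) ((Scheme.Modules.pushforward ι).obj E) q).obj G)) :
    ∃ (ES : E₂CohomologicalSpectralSequence P.Modules)
      (a : SpSeq.Abutment ES (fun n : ℤ =>
        if 0 ≤ n then (ModSite.extSh (O := P.sheaf) ((pushTensor ι E).obj F) n.toNat).obj G else 0)),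
      (∀ n, a.IsFinite n) ∧ SpSeq.IsBounded ES ∧
      ∀ p q : ℤ, Nonempty ((ES.page 2 le_rfl).X (p, q) ≅
        (if 0 ≤ p ∧ 0 ≤ q then ((Scheme.Modules.pushforward ι).obj
          ((ModSite.extSh (O := X.sheaf) F p.toNat).obj (M q.toNat))) else 0)) := by
  haveI : HasInjectiveResolutions P.Modules := ‹HasInjectiveResolutions (ModSite.Mod P.sheaf)›
  haveI : HasInjectiveResolutions X.Modules := ‹HasInjectiveResolutions (ModSite.Mod X.sheaf)›
  obtain ⟨T, hTadd, adj, hinj, hder⟩ := exists_adjoint_derived ι E hE G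
  haveI := hTadd
  haveI := preservesFiniteLimits_push ι
  haveI := preservesFiniteColimits_push ι
  haveI := enoughInjectives_of_resolutions X.Modules
  let H : X.Modules ⥤ X.Modules := ModSite.sheafHom (O := X.sheaf) F
  haveI : H.IsRightAdjoint := (ModSite.sheafHomAdj (O := X.sheaf) F).isRightAdjoint
  haveI : H.Additive := ModSite.sheafHom_additive X.sheaf F
  haveI : PreservesLimitsOfSize.{0, 0} H :=
    (ModSite.sheafHomAdj (O := X.sheaf) F).rightAdjoint_preservesLimits
  let S : X.Modules ⥤ P.Modules := H ⋙ Scheme.Modules.pushforward ι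
  haveI : PreservesFiniteLimits S := comp_preservesFiniteLimits _ _
  let β : Scheme.Modules.pullback ι ⋙ ((ModSite.tensorBi X.sheaf).flip.obj F ⋙ pushTensor ι E) ≅
      (ModSite.tensorBi P.sheaf).flip.obj ((pushTensor ι E).obj F) :=
    Functor.isoWhiskerLeft (Scheme.Modules.pullback ι)
      ((Functor.associator _ _ _).symm ≪≫ Functor.isoWhiskerRight
        (tensorShuffleIso X.sheaf E F ≪≫ ((KFlat.braid X.sheaf).app _).symm)
        (Scheme.Modules.pushforward ι)) ≪≫
      pullTensorPushIso ι (((schB X).obj E).obj F)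
  let adjTS : Scheme.Modules.pullback ι ⋙ ((ModSite.tensorBi X.sheaf).flip.obj F ⋙ pushTensor ι E) ⊣ T ⋙ S :=
    (((Scheme.Modules.pullbackPushforwardAdjunction ι).comp (ModSite.sheafHomAdj (O := X.sheaf) F)).comp
      adj).ofNatIsoLeft (Functor.associator _ _ _)
  let α : T ⋙ S ≅ ModSite.sheafHom (O := P.sheaf) ((pushTensor ι E).obj F) :=
    Adjunction.rightAdjointUniq (adjTS.ofNatIsoLeft β)
      (ModSite.sheafHomAdj (O := P.sheaf) ((pushTensor ι E).obj F))
  haveI : (ModSite.sheafHom (O := P.sheaf) ((pushTensor ι E).obj F)).Additive :=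
    ModSite.sheafHom_additive P.sheaf _
  refine exists_grothendieck_ite S T (fun I hI q hq => ?_) G
    (fun n => (ModSite.extSh (O := P.sheaf) ((pushTensor ι E).obj F) n).obj G)
    (fun p q => (Scheme.Modules.pushforward ι).obj ((ModSite.extSh (O := X.sheaf) F p).obj (M q)))
    0 (isZero_zero _) (fun n => ⟨(rightDerivedMapIso α n).app G⟩) (fun p q => ?_)
  · obtain ⟨q, rfl⟩ : ∃ r, q = r + 1 := ⟨q - 1, by omega⟩
    haveI := hinj I hI
    exact S.isZero_rightDerived_obj_injective_succ q (T.obj I)
  · obtain ⟨i⟩ := nonempty_iso_of_push ι ((hder inferInstance q).some ≪≫ (hM q).some.symm)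
    obtain ⟨j⟩ := nonempty_rightDerived_comp_exact H (Scheme.Modules.pushforward ι) p (M q)
    exact ⟨(S.rightDerived p).mapIso i ≪≫ j⟩

end Main

end Groth.Agent.GrothSS
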