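import Groth.Agent.GrothSS.Ext
import Groth.Agent.ModSiteHom.Acyclic
import Groth.Agent.ModSiteExt.Consequences
import Groth.Agent.SiteCoh.Terminal
import Groth.Prelude.Def_ModSite2
import Groth.Agent.CohQC.ToSheafExact

/-!
# Global sections of sheaves of modules as maps out of the constant sheaf, and the local-to-global
`Ext` spectral sequence
-/

set_option autoImplicit false
set_option linter.style.haveILetI false
set_option linter.unusedSectionVars false
set_option backward.isDefEq.respectTransparency false
set_option backward.isDefEq.respectTransparency.types false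

universe w u

open CategoryTheory Category Limits Opposite Abelian
open scoped ZeroObject

namespace Groth.Agent.GrothSS

variable {C : Type u} [SmallCategory C] (J : GrothendieckTopology C)

/-- The constant presheaf on the integers. -/
abbrev constPre (C : Type u) [SmallCategory C] : Cᵒᵖ ⥤ AddCommGrpCat.{u} :=
  (Functor.const Cᵒᵖ).obj (AddCommGrpCat.of (ULift.{u} ℤ))

/-- The constant presheaf on the integers is torsion free, hence so is the constant sheaf. -/
theorem torsionFree_constZ : ModSiteHom.TorsionFree (SiteCoh.constZ J) := by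
  refine ModSiteHom.TorsionFree.map (presheafToSheaf J AddCommGrpCat.{u}) (P := constPre C) fun n hn => ?_
  haveI : ∀ U : Cᵒᵖ, Mono ((n • 𝟙 (constPre C)).app U) := fun U => by
    rw [AddCommGrpCat.mono_iff_injective]
    intro (a : ULift.{u} ℤ) (b : ULift.{u} ℤ) hab
    change n • a = n • b at hab
    refine ULift.ext _ _ ?_
    have h : n • a.down = n • b.down := congrArg ULift.down hab
    exact nsmul_right_injective hn h
  exact NatTrans.mono_of_mono_app _

variable {J} {O : Sheaf J CommRingCat.{u}}

/-- A map out of the constant presheaf is a compatible family of sections. -/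
theorem constPre_hom_apply {P : Cᵒᵖ ⥤ AddCommGrpCat.{u}} (φ : constPre C ⟶ P) (U : Cᵒᵖ) (z : ULift.{u} ℤ) :
    φ.app U z = z.down • φ.app U (ULift.up 1) := by
  rw [← map_zsmul]
  congr 1
  refine ULift.ext _ _ ?_
  change z.down = z.down • (1 : ℤ)
  rw [smul_eq_mul, mul_one]

/-- Global sections of a sheaf of modules as maps out of the constant presheaf. -/
noncomputable def constPreHomEquiv (G : ModSite.Mod O) :
    (ModSite.unit O ⟶ G) ≃+ (constPre C ⟶ (ModSite.toAb G).obj) where
  toFun f :=
    { app := fun U => AddCommGrpCat.ofHom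
        ((zmultiplesHom _ ((SheafOfModules.unitHomEquiv G f).val U)).comp AddEquiv.ulift.toAddMonoidHom)
      naturality := fun U V i => by
        ext z
        change z.down • (SheafOfModules.unitHomEquiv G f).val V =
          ((ModSite.toAb G).obj.map i).hom (z.down • (SheafOfModules.unitHomEquiv G f).val U)
        rw [map_zsmul]
        exact congrArg _ ((SheafOfModules.unitHomEquiv G f).property i).symm }
  invFun φ := (SheafOfModules.unitHomEquiv G).symm
    ⟨fun U => φ.app U (ULift.up 1), fun {U V} i =>
      (NatTrans.naturality_apply φ i (ULift.up 1)).symm⟩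
  left_inv f := by
    apply (SheafOfModules.unitHomEquiv G).injective
    rw [Equiv.apply_symm_apply]
    exact Subtype.ext (funext fun U => one_zsmul _)
  right_inv φ := by
    ext U z
    refine Eq.trans ?_ (constPre_hom_apply φ U z).symm
    exact congrArg (fun s : G.sections => z.down • (s.val U : (ModSite.toAb G).obj.obj U))
      ((SheafOfModules.unitHomEquiv G).apply_symm_apply _)
  map_add' f g := by
    ext U z
    change z.down • ((f + g).val.app U (1 : (ModSite.ringSh O).obj.obj U)) =
      z.down • (f.val.app U (1 : (ModSite.ringSh O).obj.obj U)) +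
        z.down • (g.val.app U (1 : (ModSite.ringSh O).obj.obj U))
    rw [← smul_add]
    rfl

/-- Global sections of a sheaf of modules as maps out of the constant sheaf. -/
noncomputable def constZHomEquiv (G : ModSite.Mod O) :
    (SiteCoh.constZ J ⟶ ModSite.toAb G) ≃+ (ModSite.unit O ⟶ G) :=
  haveI : (presheafToSheaf J AddCommGrpCat.{u}).Additive := inferInstance
  ((sheafificationAdjunction J AddCommGrpCat.{u}).homAddEquiv (constPre C) (ModSite.toAb G)).trans
    (constPreHomEquiv G).symm

theorem constZHomEquiv_comp {G G' : ModSite.Mod O} (φ : SiteCoh.constZ J ⟶ ModSite.toAb G) (g : G ⟶ G') :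
    constZHomEquiv G' (φ ≫ (SheafOfModules.toSheaf (ModSite.ringSh O)).map g) =
      constZHomEquiv G φ ≫ g := by
  apply (constPreHomEquiv G').injective
  refine (AddEquiv.apply_symm_apply (constPreHomEquiv G') _).trans ?_
  let ψ := ((sheafificationAdjunction J AddCommGrpCat.{u}).homEquiv (constPre C) (ModSite.toAb G)) φ
  have h₁ : ψ = constPreHomEquiv G (constZHomEquiv G φ) := ((constPreHomEquiv G).apply_symm_apply _).symm
  refine ((sheafificationAdjunction J AddCommGrpCat.{u}).homEquiv_naturality_right φ
    ((SheafOfModules.toSheaf (ModSite.ringSh O)).map g)).trans ?_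
  change ψ ≫ ((SheafOfModules.toSheaf (ModSite.ringSh O)).map g).hom = _
  rw [h₁]
  ext U z
  change (g.val.app U).hom (z.down • (constZHomEquiv G φ).val.app U (1 : (ModSite.ringSh O).obj.obj U)) =
    z.down • (g.val.app U).hom ((constZHomEquiv G φ).val.app U (1 : (ModSite.ringSh O).obj.obj U))
  exact map_zsmul _ _ _

variable (M : ModSite.Mod O) [ModSite.HasSheafHom M]

/-- `Hom(M, N)` as global sections of `ℋom(M, N)`. -/
noncomputable def unitSheafHomEquiv (N : ModSite.Mod O) :
    (M ⟶ N) ≃+ (ModSite.unit O ⟶ (ModSite.sheafHom M).obj N) where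
  toEquiv := ((ModSiteExt.unitTensorIso O M).homFromEquiv (Z := N)).symm.trans
    ((ModSite.sheafHomAdj M).homEquiv (ModSite.unit O) N)
  map_add' a b := by
    simp only [Equiv.toFun_as_coe, Equiv.trans_apply, Iso.homFromEquiv_symm_apply, Preadditive.comp_add]
    refine ((ModSite.sheafHomAdj M).homEquiv_unit (ModSite.unit O) N _).trans ?_
    refine Eq.trans ?_ (congrArg₂ (· + ·) ((ModSite.sheafHomAdj M).homEquiv_unit (ModSite.unit O) N _).symm
      ((ModSite.sheafHomAdj M).homEquiv_unit (ModSite.unit O) N _).symm)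
    rw [Functor.map_add]
    exact Preadditive.comp_add _ _ _ _ _ _

theorem unitSheafHomEquiv_comp {N N' : ModSite.Mod O} (φ : M ⟶ N) (g : N ⟶ N') :
    unitSheafHomEquiv M N' (φ ≫ g) = unitSheafHomEquiv M N φ ≫ (ModSite.sheafHom M).map g := by
  change (ModSite.sheafHomAdj M).homEquiv _ _ _ = (ModSite.sheafHomAdj M).homEquiv _ _ _ ≫ _
  simp only [Iso.homFromEquiv_symm_apply, ← assoc]
  exact (ModSite.sheafHomAdj M).homEquiv_naturality_right _ _

/-- `Hom(ℤ, ℋom(M, N)) = Hom(M, N)`. -/
noncomputable def constZSheafHomEquiv (N : ModSite.Mod O) :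
    (SiteCoh.constZ J ⟶ (ModSite.sheafHom M ⋙ SheafOfModules.toSheaf (ModSite.ringSh O)).obj N) ≃+ (M ⟶ N) :=
  (constZHomEquiv ((ModSite.sheafHom M).obj N)).trans (unitSheafHomEquiv M N).symm

theorem constZSheafHomEquiv_comp {N N' : ModSite.Mod O} (g : N ⟶ N')
    (φ : SiteCoh.constZ J ⟶ (ModSite.sheafHom M ⋙ SheafOfModules.toSheaf (ModSite.ringSh O)).obj N) :
    constZSheafHomEquiv M N' (φ ≫ (ModSite.sheafHom M ⋙ SheafOfModules.toSheaf (ModSite.ringSh O)).map g) =
      constZSheafHomEquiv M N φ ≫ g := by
  apply (unitSheafHomEquiv M N').injective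
  refine ((unitSheafHomEquiv M N').apply_symm_apply _).trans ?_
  refine (constZHomEquiv_comp φ ((ModSite.sheafHom M).map g)).trans ?_
  rw [unitSheafHomEquiv_comp]
  exact congrArg (fun t => t ≫ (ModSite.sheafHom M).map g) ((unitSheafHomEquiv M N).apply_symm_apply _).symm

/-- The cohomology of `ℋom(M, I)` vanishes in positive degrees for injective `I`. -/
theorem subsingleton_ext_constZ_sheafHom (I : ModSite.Mod O) [Injective I] (q : ℕ) :
    Subsingleton (Ext (SiteCoh.constZ J) (ModSite.toAb ((ModSite.sheafHom M).obj I)) (q + 1)) :=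
  ModSiteHom.subsingleton_ext_of_retraction ModSiteHom.exists_epi_torsionFree
    (fun S hS h₁ h₃ => ModSiteHom.exists_retraction M I S hS h₁ h₃) q _ (torsionFree_constZ J)

variable [HasExt.{u} (ModSite.Mod O)] [HasInjectiveResolutions (ModSite.Mod O)]

/-- The local-to-global `Ext` spectral sequence. -/
theorem exists_localToGlobal (N : ModSite.Mod O) (Z : AddCommGrpCat.{u}) (hZ : IsZero Z) :
    ∃ (E : E₂CohomologicalSpectralSequence AddCommGrpCat.{u})
      (a : SpSeq.Abutment E (fun n : ℤ => if 0 ≤ n then AddCommGrpCat.of (Ext M N n.toNat) else Z)),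
      (∀ n, a.IsFinite n) ∧ SpSeq.IsBounded E ∧
        ∀ p q : ℤ, Nonempty ((E.page 2 le_rfl).X (p, q) ≅
          (if 0 ≤ p ∧ 0 ≤ q then AddCommGrpCat.of (ModSite.HC O ((ModSite.extSh M q.toNat).obj N) p.toNat)
            else Z)) := by
  haveI : PreservesFiniteColimits (SheafOfModules.toSheaf (ModSite.ringSh O)) :=
    CohQC.toSheaf_preservesFiniteColimits _
  refine exists_ext (ModSite.sheafHom M ⋙ SheafOfModules.toSheaf (ModSite.ringSh O)) (SiteCoh.constZ J) M
    (constZSheafHomEquiv M) (fun {F G} g φ => constZSheafHomEquiv_comp M g φ)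
    (fun I _ q => subsingleton_ext_constZ_sheafHom M I q) N
    (fun n => AddCommGrpCat.of (Ext M N n))
    (fun p q => AddCommGrpCat.of (ModSite.HC O ((ModSite.extSh M q).obj N) p)) Z hZ
    (fun n => ⟨AddEquiv.refl _⟩) (fun p q => ?_)
  obtain ⟨i⟩ := nonempty_rightDerived_comp_exact (ModSite.sheafHom M)
    (SheafOfModules.toSheaf (ModSite.ringSh O)) q N
  exact ⟨(((extFunctorObj (SiteCoh.constZ J) p).mapIso i).addCommGroupIsoToAddEquiv :)⟩

end Groth.Agent.GrothSS
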