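import Groth.Agent.GrothSS.Tower
import Mathlib.Algebra.Homology.DerivedCategory.FullyFaithful
import Mathlib.Algebra.Homology.DerivedCategory.KInjective
import Mathlib.Algebra.Homology.Embedding.ExtendHomology

/-!
# The spectral sequence `R^p S (H^q K) ⇒ H^n (S K)` and the Grothendieck spectral sequence
-/

set_option autoImplicit false
set_option linter.style.haveILetI false
set_option linter.unusedSectionVars false
set_option backward.isDefEq.respectTransparency false
set_option backward.isDefEq.respectTransparency.types false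

universe w v v' v'' u u' u''

open CategoryTheory Category Limits ComposableArrows
open scoped ZeroObject

namespace Groth.Agent.GrothSS

variable {A : Type u} [Category.{v} A] [Abelian A] {B : Type u'} [Category.{v'} B] [Abelian B]
  (S : A ⥤ B) [S.Additive]

/-- Mapping commutes with extension by zero. -/
theorem nonempty_mapExtend_iso (M : CochainComplex A ℕ) :
    Nonempty ((S.mapHomologicalComplex (ComplexShape.up ℤ)).obj (M.extend ComplexShape.embeddingUpNat) ≅
      ((S.mapHomologicalComplex (ComplexShape.up ℕ)).obj M).extend ComplexShape.embeddingUpNat) := by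
  let e := ComplexShape.embeddingUpNat
  have hz : ∀ (i' : ℤ), (¬ ∃ i, e.f i = i') →
      IsZero (S.obj ((M.extend e).X i')) ∧
      IsZero ((((S.mapHomologicalComplex (ComplexShape.up ℕ)).obj M).extend e).X i') :=
    fun i' h => ⟨S.map_isZero (HomologicalComplex.isZero_extend_X M e i' fun i hi => h ⟨i, hi⟩),
      HomologicalComplex.isZero_extend_X _ e i' fun i hi => h ⟨i, hi⟩⟩
  classical
  let ψ : ∀ (i' : ℤ), S.obj ((M.extend e).X i') ≅
      (((S.mapHomologicalComplex (ComplexShape.up ℕ)).obj M).extend e).X i' := fun i' =>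
    if h : ∃ i, e.f i = i' then S.mapIso (HomologicalComplex.extendXIso M e h.choose_spec) ≪≫
      (HomologicalComplex.extendXIso ((S.mapHomologicalComplex (ComplexShape.up ℕ)).obj M) e
        h.choose_spec).symm
    else (hz i' h).1.iso (hz i' h).2
  have hψ : ∀ (i : ℕ) (i' : ℤ) (h : e.f i = i'), (ψ i').hom =
      S.map (HomologicalComplex.extendXIso M e h).hom ≫
        (HomologicalComplex.extendXIso ((S.mapHomologicalComplex (ComplexShape.up ℕ)).obj M) e h).inv :=
      fun i i' h => by
    have h' : ∃ i, e.f i = i' := ⟨i, h⟩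
    obtain rfl : h'.choose = i := e.injective_f (h'.choose_spec.trans h.symm)
    simp only [ψ, dif_pos h', Iso.trans_hom, Functor.mapIso_hom, Iso.symm_hom]
  refine ⟨HomologicalComplex.Hom.isoOfComponents ψ fun i' j' _ => ?_⟩
  by_cases hi : ∃ i, e.f i = i'
  · by_cases hj : ∃ j, e.f j = j'
    · obtain ⟨i, hi⟩ := hi
      obtain ⟨j, hj⟩ := hj
      rw [hψ i i' hi, hψ j j' hj]
      change (S.map (HomologicalComplex.extendXIso M e hi).hom ≫ _) ≫ _ =
        S.map ((M.extend e).d i' j') ≫ _
      rw [HomologicalComplex.extend_d_eq _ e hi hj, HomologicalComplex.extend_d_eq _ e hi hj]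
      simp
    · exact (hz j' hj).2.eq_of_tgt _ _
  · exact (hz i' hi).1.eq_of_src _ _

/-- The homology of `S R` for an injective resolution `R`. -/
theorem nonempty_homology_map_resolution [HasInjectiveResolutions A] {Y : A} (R : InjectiveResolution Y) (p : ℕ) :
    Nonempty (((S.mapHomologicalComplex (ComplexShape.up ℤ)).obj R.cochainComplex).homology (p : ℤ) ≅
      (S.rightDerived p).obj Y) :=
  ⟨HomologicalComplex.homologyMapIso (nonempty_mapExtend_iso S R.cocomplex).some (p : ℤ) ≪≫
    HomologicalComplex.extendHomologyIso _ ComplexShape.embeddingUpNat (j := p) rfl ≪≫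
    (R.isoRightDerivedObj S p).symm⟩

/-- Two bounded below complexes of injectives isomorphic in the derived category have the same
homology after applying an additive functor. -/
theorem nonempty_homology_map_iso_of_Q [HasDerivedCategory.{w} A] (M N : CochainComplex A ℤ)
    [M.IsKInjective] [N.IsKInjective] (e : DerivedCategory.Q.obj M ≅ DerivedCategory.Q.obj N) (k : ℤ) :
    Nonempty (((S.mapHomologicalComplex (ComplexShape.up ℤ)).obj M).homology k ≅
      ((S.mapHomologicalComplex (ComplexShape.up ℤ)).obj N).homology k) := by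
  let q := HomotopyCategory.quotient A (ComplexShape.up ℤ)
  let e' : DerivedCategory.Qh.obj (q.obj M) ≅ DerivedCategory.Qh.obj (q.obj N) :=
    (DerivedCategory.quotientCompQhIso A).app M ≪≫ e ≪≫
      ((DerivedCategory.quotientCompQhIso A).app N).symm
  obtain ⟨f, hf⟩ := (CochainComplex.IsKInjective.Qh_map_bijective (q.obj M) N).2 e'.hom
  obtain ⟨g, hg⟩ := (CochainComplex.IsKInjective.Qh_map_bijective (q.obj N) M).2 e'.inv
  let i : q.obj M ≅ q.obj N := ⟨f, g,
    (CochainComplex.IsKInjective.Qh_map_bijective (q.obj M) M).1 (by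
      simp only [Functor.map_comp, hf, hg, Iso.hom_inv_id, CategoryTheory.Functor.map_id]),
    (CochainComplex.IsKInjective.Qh_map_bijective (q.obj N) N).1 (by
      simp only [Functor.map_comp, hf, hg, Iso.inv_hom_id, CategoryTheory.Functor.map_id])⟩
  let F := S.mapHomotopyCategoryFactors (ComplexShape.up ℤ)
  let j := (HomotopyCategory.homologyFunctor B (ComplexShape.up ℤ) k).mapIso
    ((F.app M).symm ≪≫ (S.mapHomotopyCategory (ComplexShape.up ℤ)).mapIso i ≪≫ F.app N)
  exact ⟨((HomotopyCategory.homologyFunctorFactors B (ComplexShape.up ℤ) k).app _).symm ≪≫ j ≪≫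
    (HomotopyCategory.homologyFunctorFactors B (ComplexShape.up ℤ) k).app _⟩

variable [EnoughInjectives A]

/-- A bounded below complex of injectives with one cohomology object computes derived functors. -/
theorem nonempty_homology_map_iso (M : CochainComplex A ℤ) (a : ℤ) [M.IsStrictlyGE a]
    (hinj : ∀ n, Injective (M.X n)) (m : ℤ) (hM : ∀ i, i ≠ m → M.ExactAt i) (p : ℕ) (k : ℤ)
    (hk : k = m + p) :
    Nonempty (((S.mapHomologicalComplex (ComplexShape.up ℤ)).obj M).homology k ≅
      (S.rightDerived p).obj (M.homology m)) := by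
  letI := HasDerivedCategory.standard A
  have hz : ∀ i, i ≠ m → IsZero ((DerivedCategory.homologyFunctor A i).obj (DerivedCategory.Q.obj M)) :=
    fun i hi => (hM i hi).isZero_homology.of_iso ((DerivedCategory.homologyFunctorFactors A i).app M)
  haveI : (DerivedCategory.Q.obj M).IsGE m :=
    (DerivedCategory.isGE_iff _ _).2 fun i hi => hz i (by omega)
  haveI : (DerivedCategory.Q.obj M).IsLE m :=
    (DerivedCategory.isLE_iff _ _).2 fun i hi => hz i (by omega)
  obtain ⟨Y, ⟨e⟩⟩ := DerivedCategory.exists_iso_singleFunctor_obj_of_isGE_of_isLE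
    (DerivedCategory.Q.obj M) m
  let eY : M.homology m ≅ Y :=
    ((DerivedCategory.homologyFunctorFactors A m).app M).symm ≪≫
      (DerivedCategory.homologyFunctor A m).mapIso e ≪≫
      (DerivedCategory.singleFunctorCompHomologyFunctorIso A m).app Y
  let R := injectiveResolution Y
  let J : CochainComplex A ℤ := R.cochainComplex⟦-m⟧
  haveI : ∀ n, Injective (J.X n) := fun n => inferInstanceAs (Injective (R.cochainComplex.X (n + -m)))
  haveI : J.IsStrictlyGE m := R.cochainComplex.isStrictlyGE_shift 0 (-m) m (by omega)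
  haveI : J.IsKInjective := CochainComplex.isKInjective_of_injective J m
  haveI : M.IsKInjective := CochainComplex.isKInjective_of_injective M a
  haveI : QuasiIso (R.ι'⟦-m⟧') := inferInstance
  let e₂ : (DerivedCategory.singleFunctor A m).obj Y ≅ DerivedCategory.Q.obj J :=
    DerivedCategory.Q.mapIso
        ((((CochainComplex.singleFunctors A).shiftIso (-m) m 0 (by omega)).app Y).symm) ≪≫
      asIso (DerivedCategory.Q.map (R.ι'⟦-m⟧'))
  obtain ⟨i₁⟩ := nonempty_homology_map_iso_of_Q S M J (e ≪≫ e₂) k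
  obtain ⟨i₃⟩ := nonempty_homology_map_resolution S R p
  exact ⟨i₁ ≪≫
    HomologicalComplex.homologyMapIso
      (((S.mapHomologicalComplex (ComplexShape.up ℤ)).commShiftIso (-m)).app R.cochainComplex) k ≪≫
    ((HomologicalComplex.homologyFunctor B (ComplexShape.up ℤ) 0).shiftIso (-m) k (p : ℤ) (by omega)).app
      ((S.mapHomologicalComplex (ComplexShape.up ℤ)).obj R.cochainComplex) ≪≫ i₃ ≪≫
    (S.rightDerived p).mapIso eY.symm⟩

variable [PreservesFiniteLimits S]

/-- Complexes of acyclic objects compute the right derived functors. -/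
theorem quasiIso_map_of_acyclic {K L : CochainComplex A ℤ} (f : K ⟶ L) [QuasiIso f] (a : ℤ)
    [K.IsStrictlyGE a] [L.IsStrictlyGE a]
    (hK : ∀ (m : ℤ) (i : ℕ), 0 < i → IsZero ((S.rightDerived i).obj (K.X m)))
    (hL : ∀ n, Injective (L.X n)) :
    QuasiIso ((S.mapHomologicalComplex (ComplexShape.up ℤ)).map f) := by
  letI := HasDerivedCategory.standard A
  letI := HasDerivedCategory.standard B
  haveI := CochainComplex.isStrictlyGE_mappingCone f a a (a - 1)
  have hac := DerPlus.exact_map_of_acyclic S (CochainComplex.mappingCone f) (a - 1)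
    ((DerPlus.quasiIso_iff_acyclic_mappingCone f).1 inferInstance) fun n p hp => by
      haveI : (S.rightDerived p).Additive := inferInstance
      obtain ⟨q, rfl⟩ : ∃ q, p = q + 1 := ⟨p - 1, by omega⟩
      haveI := hL n
      rw [IsZero.iff_id_eq_zero, ← (S.rightDerived (q + 1)).map_id,
        ← CochainComplex.mappingCone.id_X f n (n + 1) rfl, Functor.map_add, Functor.map_comp,
        Functor.map_comp, (hK (n + 1) (q + 1) hp).eq_of_tgt ((S.rightDerived (q + 1)).map _) 0,
        (S.isZero_rightDerived_obj_injective_succ q (L.X n)).eq_of_tgt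
          ((S.rightDerived (q + 1)).map _) 0, zero_comp, zero_comp, add_zero]
  rw [DerPlus.quasiIso_iff_acyclic_mappingCone]
  exact fun n => (hac n).of_iso (CochainComplex.mappingCone.mapHomologicalComplexIso f S)

/-- The spectral sequence of a complex of acyclic objects:
`R^p S (H^q K) ⇒ H^(p+q) (S K)`. -/
theorem exists_of_complex (K : CochainComplex A ℤ) [K.IsStrictlyGE 0]
    (hK : ∀ (m : ℤ) (i : ℕ), 0 < i → IsZero ((S.rightDerived i).obj (K.X m)))
    (H : ℤ → B) (E2 : ℤ → ℤ → B)
    (eH : ∀ n, Nonempty (((S.mapHomologicalComplex (ComplexShape.up ℤ)).obj K).homology n ≅ H n))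
    (e2 : ∀ p q : ℕ, Nonempty ((S.rightDerived p).obj (K.homology (q : ℤ)) ≅ E2 p q))
    (e0 : ∀ p q : ℤ, p < 0 ∨ q < 0 → IsZero (E2 p q)) :
    ∃ (E : E₂CohomologicalSpectralSequence B) (a : SpSeq.Abutment E H),
      (∀ n, a.IsFinite n) ∧ SpSeq.IsBounded E ∧
        ∀ p q : ℤ, Nonempty ((E.page 2 le_rfl).X (p, q) ≅ E2 p q) := by
  obtain ⟨L₀, j₀, hj₀, hL₀, hge₀⟩ :=
    CochainComplex.Plus.modelCategoryQuillen.exists_quasiIso_injective K 0
  haveI := hge₀
  let W₀ : Step A 0 := ⟨L₀, hL₀, hge₀⟩
  let G : EInt ⥤ CochainComplex B ℤ := resTower W₀ ⋙ S.mapHomologicalComplex (ComplexShape.up ℤ)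
  haveI hfq : (coneObj G).IsFirstQuadrant := isFirstQuadrant_coneObj G
    (fun i j h hj => by
      haveI := isIso_resTower_map W₀ i j h hj
      exact inferInstanceAs (IsIso ((S.mapHomologicalComplex _).map ((resTower W₀).map (homOfLE h)))))
    (fun n i hi => by
      haveI := isStrictlyGE_resTower W₀ n i hi
      exact inferInstanceAs (CochainComplex.IsStrictlyGE
        ((S.mapHomologicalComplex (ComplexShape.up ℤ)).obj ((resTower W₀).obj i)) (n + 1)))
  haveI hq₀ := quasiIso_map_of_acyclic S j₀ 0 hK hL₀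
  have hE : ∀ n, Nonempty (Hij (coneObj G) n ⊥ ⊤ bot_le ≅ H n) := fun n => by
    have hz : ∀ k, (G.obj ⊤).ExactAt k := fun k => ShortComplex.exact_of_isZero_X₂ _
      (S.map_isZero ((HomologicalComplex.eval A (ComplexShape.up ℤ) k).map_isZero
        (isZero_zero (CochainComplex A ℤ))))
    obtain ⟨i⟩ := nonempty_cone_homology_iso (G.map (homOfLE (bot_le : (⊥ : EInt) ≤ ⊤))) (n - 1)
      (hz _) (hz _)
    exact ⟨coneObjIso G n ⊥ ⊤ bot_le (n - 1) (by omega) ≪≫ i ≪≫
      eqToIso (by rw [sub_add_cancel]; rfl) ≪≫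
      (isoOfQuasiIsoAt ((S.mapHomologicalComplex (ComplexShape.up ℤ)).map j₀) n).symm ≪≫ (eH n).some⟩
  refine exists_spectralSequence (coneObj G) (fun n => (hE n).some) E2 fun p q => ?_
  by_cases hpq : p < 0 ∨ q < 0
  · refine ⟨IsZero.iso ?_ (e0 p q hpq)⟩
    rcases hpq with hp | hq
    · exact (coneObj G).isZero₂_of_isFirstQuadrant _ _ _ _
        (by simp only [WithBotTop.coe_lt_coe]; omega)
    · exact (coneObj G).isZero₁_of_isFirstQuadrant _ _ _
        (by simp only [WithBotTop.coe_le_coe]; omega) _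
  · simp only [not_or, not_lt] at hpq
    obtain ⟨p, rfl⟩ := Int.eq_ofNat_of_zero_le hpq.1
    obtain ⟨q, rfl⟩ := Int.eq_ofNat_of_zero_le hpq.2
    let W := tower W₀ q
    let W' := next W
    haveI := W.ge
    haveI := W'.ge
    let f : W.cx ⟶ W'.cx := nextMap W
    haveI := CochainComplex.isStrictlyGE_mappingCone f (q : ℤ) ((q + 1 : ℕ) : ℤ) ((q : ℤ) - 1)
    have hinj : ∀ n, Injective ((CochainComplex.mappingCone f).X n) := fun n => by
      haveI := W.inj (n + 1)
      haveI := W'.inj n
      exact Injective.of_iso (HomologicalComplex.homotopyCofiber.XIsoBiprod f n (n + 1) rfl).symm inferInstance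
    have hzero : ∀ i, i ≠ (q : ℤ) - 1 → (CochainComplex.mappingCone f).ExactAt i := by
      intro i hi
      rcases lt_or_ge i ((q : ℤ) - 1) with h | h
      · exact exactAt_of_lt _ ((q : ℤ) - 1) i h
      refine exactAt_cone f i ?_ (Or.inl (quasiIsoAt_nextMap W (i + 1) (by omega)))
      rcases lt_or_ge i ((q : ℤ) + 1) with h' | h'
      · exact Or.inr (exactAt_of_lt _ ((q + 1 : ℕ) : ℤ) i (by omega))
      · exact Or.inl (quasiIsoAt_nextMap W i h')
    obtain ⟨i₁⟩ := nonempty_homology_map_iso S (CochainComplex.mappingCone f) ((q : ℤ) - 1) hinj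
      ((q : ℤ) - 1) hzero p ((p : ℤ) + (q : ℤ) - 1) (by omega)
    obtain ⟨i₂⟩ := nonempty_cone_homology_iso f ((q : ℤ) - 1)
      (exactAt_of_lt _ ((q + 1 : ℕ) : ℤ) _ (by omega)) (exactAt_of_lt _ ((q + 1 : ℕ) : ℤ) _ (by omega))
    obtain ⟨i₃⟩ := nonempty_tower_homology_iso W₀ q (q : ℤ) le_rfl
    let i₄ : (CochainComplex.mappingCone f).homology ((q : ℤ) - 1) ≅ K.homology (q : ℤ) :=
      i₂ ≪≫ eqToIso (by rw [sub_add_cancel]) ≪≫ i₃ ≪≫ (isoOfQuasiIsoAt j₀ (q : ℤ)).symm
    have hmap : G.map (homOfLE (show ((q : ℤ) : EInt) ≤ (((q : ℤ) + 1 : ℤ) : EInt) by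
        simp only [WithBotTop.coe_le_coe]; omega)) = (S.mapHomologicalComplex (ComplexShape.up ℤ)).map f :=
      congrArg (fun g => (S.mapHomologicalComplex (ComplexShape.up ℤ)).map g) (resTower_map_succ W₀ q)
    exact ⟨coneObjIso G _ _ _ _ ((p : ℤ) + (q : ℤ) - 1) (by omega) ≪≫
      HomologicalComplex.homologyMapIso (eqToIso (congrArg (fun g => CochainComplex.mappingCone g) hmap) ≪≫
        (CochainComplex.mappingCone.mapHomologicalComplexIso f S).symm) _ ≪≫
      i₁ ≪≫ (S.rightDerived p).mapIso i₄ ≪≫ (e2 p q).some⟩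

section Grothendieck

variable {C : Type u''} [Category.{v''} C] [Abelian C] [HasInjectiveResolutions C]
  (T : C ⥤ A) [T.Additive]

/-- The Grothendieck spectral sequence, with the abutment and the `E₂` page up to isomorphism. -/
theorem exists_grothendieck
    (hT : ∀ Q : C, Injective Q → ∀ q : ℕ, 0 < q → IsZero ((S.rightDerived q).obj (T.obj Q)))
    (X : C) (H : ℤ → B) (E2 : ℤ → ℤ → B)
    (eH : ∀ n : ℕ, Nonempty (((T ⋙ S).rightDerived n).obj X ≅ H n))
    (eH0 : ∀ n : ℤ, n < 0 → IsZero (H n))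
    (e2 : ∀ p q : ℕ, Nonempty ((S.rightDerived p).obj ((T.rightDerived q).obj X) ≅ E2 p q))
    (e0 : ∀ p q : ℤ, p < 0 ∨ q < 0 → IsZero (E2 p q)) :
    ∃ (E : E₂CohomologicalSpectralSequence B) (a : SpSeq.Abutment E H),
      (∀ n, a.IsFinite n) ∧ SpSeq.IsBounded E ∧
        ∀ p q : ℤ, Nonempty ((E.page 2 le_rfl).X (p, q) ≅ E2 p q) := by
  let R := injectiveResolution X
  let K := (T.mapHomologicalComplex (ComplexShape.up ℤ)).obj R.cochainComplex
  haveI : CochainComplex.IsStrictlyGE K 0 :=
    inferInstanceAs (CochainComplex.IsStrictlyGE ((T.mapHomologicalComplex (ComplexShape.up ℤ)).obj R.cochainComplex) 0)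
  refine exists_of_complex S K (fun m i hi => hT (R.cochainComplex.X m) inferInstance i hi) H E2
    (fun n => ?_) (fun p q => ?_) e0
  · rcases lt_or_ge n 0 with hn | hn
    · exact ⟨IsZero.iso ((exactAt_of_lt _ 0 n hn).isZero_homology) (eH0 n hn)⟩
    · obtain ⟨n, rfl⟩ := Int.eq_ofNat_of_zero_le hn
      exact ⟨(nonempty_homology_map_resolution (T ⋙ S) R n).some ≪≫ (eH n).some⟩
  · exact ⟨(S.rightDerived p).mapIso (nonempty_homology_map_resolution T R q).some ≪≫ (e2 p q).some⟩

end Grothendieck

end Groth.Agent.GrothSS
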