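import Groth.Agent.RDerLib.LES
import Mathlib

/-!
# Effaceable cohomology of exact complex valued functors computes right derived functors

If `Cx : A ⥤ CochainComplex B ℕ` is exact and the positive cohomology of `Cx I` vanishes for injective `I`,
then `R^p (H⁰ ∘ Cx) = H^p ∘ Cx`.
-/

set_option autoImplicit false
set_option linter.style.haveILetI false
set_option linter.unusedSectionVars false
set_option backward.isDefEq.respectTransparency false
set_option backward.isDefEq.respectTransparency.types false

universe v v' u u'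

open CategoryTheory Category Limits

namespace Groth.Agent.GrothSS

variable {A : Type u} [Category.{v} A] [Abelian A] {B : Type u'} [Category.{v'} B] [Abelian B]

theorem isIso_homologyπ_zero (K : CochainComplex B ℕ) : IsIso (K.homologyπ 0) :=
  K.isIso_homologyπ _ 0 rfl (K.shape _ _ (by simp))

theorem mono_homologyMap_zero {K L : CochainComplex B ℕ} (f : K ⟶ L) [Mono (f.f 0)] :
    Mono (HomologicalComplex.homologyMap f 0) := by
  haveI := isIso_homologyπ_zero K
  haveI := isIso_homologyπ_zero L
  have e : HomologicalComplex.homologyMap f 0 =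
      inv (K.homologyπ 0) ≫ HomologicalComplex.cyclesMap f 0 ≫ L.homologyπ 0 := by
    rw [← HomologicalComplex.homologyπ_naturality, IsIso.inv_hom_id_assoc]
  haveI : Mono (HomologicalComplex.cyclesMap f 0) := by
    refine ⟨fun a b h => ?_⟩
    rw [← cancel_mono (K.iCycles 0), ← cancel_mono (f.f 0)]
    simp only [assoc, ← HomologicalComplex.cyclesMap_i]
    rw [← assoc, h, assoc]
  rw [e]
  infer_instance

variable (Cx : A ⥤ CochainComplex B ℕ) [Cx.PreservesZeroMorphisms] (S : A ⥤ B) [S.Additive]
  (α : S ≅ Cx ⋙ HomologicalComplex.homologyFunctor B (ComplexShape.up ℕ) 0)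
  (hex : ∀ T : ShortComplex A, T.ShortExact → (T.map Cx).ShortExact)

include α hex in
/-- `H⁰` of an exact complex valued functor is left exact. -/
theorem preservesFiniteLimits_of_complex : PreservesFiniteLimits S := by
  refine (S.preservesFiniteLimits_tfae.out 0 3 rfl rfl).1 fun T hT => ?_
  haveI := (hex T hT).mono_f
  haveI : Mono ((T.map Cx).f.f 0) := inferInstance
  haveI hm : Mono (HomologicalComplex.homologyMap (T.map Cx).f 0) := mono_homologyMap_zero _
  refine ⟨(ShortComplex.exact_iff_of_iso ?_).2 ((hex T hT).homology_exact₂ 0), ?_⟩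
  · exact ShortComplex.isoMk (α.app T.X₁) (α.app T.X₂) (α.app T.X₃)
      (α.hom.naturality T.f).symm (α.hom.naturality T.g).symm
  · have h := α.hom.naturality T.f
    have e : S.map T.f = α.hom.app T.X₁ ≫ HomologicalComplex.homologyMap (T.map Cx).f 0 ≫ α.inv.app T.X₂ := by
      rw [← assoc]
      change _ = (α.hom.app T.X₁ ≫ (Cx ⋙ HomologicalComplex.homologyFunctor B (ComplexShape.up ℕ) 0).map T.f) ≫ _
      rw [← h, assoc, Iso.hom_inv_id_app, comp_id]
    change Mono (S.map T.f)
    rw [e]
    infer_instance

variable [EnoughInjectives A]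
  (hvan : ∀ (I : A), Injective I → ∀ p : ℕ, IsZero ((Cx.obj I).homology (p + 1)))

include α hex hvan in
/-- `R^p S = H^p ∘ Cx`. -/
theorem nonempty_rightDerived_iso_homology (p : ℕ) (P : A) :
    Nonempty ((S.rightDerived p).obj P ≅ (Cx.obj P).homology p) := by
  haveI := preservesFiniteLimits_of_complex Cx S α hex
  induction p generalizing P with
  | zero => exact ⟨S.rightDerivedZeroIsoSelf.app P ≪≫ α.app P⟩
  | succ p ih =>
    let T : ShortComplex A :=
      ShortComplex.mk (Injective.ι P) (cokernel.π (Injective.ι P)) (cokernel.condition _)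
    have hT : T.ShortExact :=
      { exact := ShortComplex.exact_of_g_is_cokernel _ (cokernelIsCokernel (Injective.ι P))
        mono_f := inferInstanceAs (Mono (Injective.ι P))
        epi_g := inferInstanceAs (Epi (cokernel.π (Injective.ι P))) }
    let Tres := RDerLib.res hT
    let δ := Tres.delta S p (p + 1) rfl
    have hI₁ : IsZero ((S.rightDerived (p + 1)).obj T.X₂) :=
      S.isZero_rightDerived_obj_injective_succ p (Injective.under P)
    haveI hδ : Epi δ :=
      (RDerLib.exact₁ S Tres p (p + 1) rfl).epi_f (hI₁.eq_of_tgt _ _)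
    have hK := hex T hT
    let δ' := hK.δ p (p + 1) rfl
    haveI hδ' : Epi δ' := hK.epi_δ p (p + 1) rfl (hvan _ inferInstance p)
    let c : IsColimit (CokernelCofork.ofπ δ (RDerLib.g_delta S Tres p (p + 1) rfl)) :=
      (RDerLib.exact₃ S Tres p (p + 1) rfl).gIsCokernel
    let c' : IsColimit (CokernelCofork.ofπ δ' (hK.comp_δ p (p + 1) rfl)) :=
      (hK.homology_exact₃ p (p + 1) rfl).gIsCokernel
    rcases p with _ | p
    · let i₂ := S.rightDerivedZeroIsoSelf.app T.X₂ ≪≫ α.app T.X₂
      let i₃ := S.rightDerivedZeroIsoSelf.app T.X₃ ≪≫ α.app T.X₃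
      have hw : (S.rightDerived 0).map T.g ≫ i₃.hom =
          i₂.hom ≫ HomologicalComplex.homologyMap (T.map Cx).g 0 := by
        simp only [i₂, i₃, Iso.trans_hom, Iso.app_hom, NatTrans.naturality_assoc, assoc]
        exact congrArg (_ ≫ ·) (α.hom.naturality T.g)
      exact ⟨c.coconePointUniqueUpToIso (colimit.isColimit _) ≪≫ cokernel.mapIso _ _ i₂ i₃ hw ≪≫
        (c'.coconePointUniqueUpToIso (colimit.isColimit _)).symm⟩
    · haveI : IsIso δ := by
        haveI : Mono δ := (RDerLib.exact₃ S Tres (p + 1) (p + 1 + 1) rfl).mono_g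
          ((S.isZero_rightDerived_obj_injective_succ p (Injective.under P)).eq_of_src _ _)
        exact isIso_of_mono_of_epi δ
      haveI : IsIso δ' := hK.isIso_δ _ _ rfl (hvan _ inferInstance p) (hvan _ inferInstance (p + 1))
      obtain ⟨i⟩ := ih T.X₃
      exact ⟨(asIso δ).symm ≪≫ i ≪≫ asIso δ'⟩

end Groth.Agent.GrothSS
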