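import Groth.Agent.GrothSS.Abut

/-!
# The `E₁` spectral sequence of a spectral object indexed by the extended integers

For a spectral object with `H^n(i ≤ j) = 0` for `1 ≤ i` and `H^n(⊥ ≤ j) = 0` for `j ≤ -n`, the
`E₁` page `E₁^{p,q} = H^{p+q}(-p ≤ 1-p)` abuts to `H^n(⊥ ≤ ⊤)` with finite filtrations, provided it is
first quadrant.
-/

set_option autoImplicit false
set_option linter.style.haveILetI false
set_option linter.unusedSectionVars false
set_option backward.isDefEq.respectTransparency false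
set_option backward.isDefEq.respectTransparency.types false

universe v u

open CategoryTheory Category Limits ComposableArrows

namespace Groth.Agent.GrothSS

/-- The data of the cohomological `E₁` spectral sequence of a spectral object indexed by `EInt`. -/
def coreE₁ : Abelian.SpectralObject.SpectralSequenceDataCore EInt
    (fun r ↦ ComplexShape.up' (⟨r, 1 - r⟩ : ℤ × ℤ)) 1 where
  deg pq := pq.1 + pq.2
  i₀ r pq hr := (-pq.1 - r + 1 :)
  i₁ pq := (-pq.1 :)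
  i₂ pq := (-pq.1 + 1 :)
  i₃ r pq hr := (-pq.1 + r :)
  le₀₁ r pq hr := by simp; lia
  le₁₂ pq := by simp
  le₂₃ r pq hr := by simp; lia
  hc := by rintro r pq _ rfl _; dsimp; lia
  hc₀₂ := by rintro r pq hr rfl _; exact congrArg WithBotTop.coe (by dsimp; lia)
  hc₁₃ := by rintro r pq hr rfl _; exact congrArg WithBotTop.coe (by dsimp; lia)
  antitone_i₀ r r' pq hr hrr' := by simp; lia
  monotone_i₃ r r' pq hr hrr' := by simp; lia
  i₀_prev := by rintro r r' hr pq rfl _ _; exact congrArg WithBotTop.coe (by dsimp; lia)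
  i₃_next := by rintro r r' hr pq rfl _ _; exact congrArg WithBotTop.coe (by dsimp; lia)

instance : coreE₁.HasFirstPageComputation where
  hi₀₁ pq := by simp [coreE₁]
  hi₂₃ pq := by simp [coreE₁]

variable {C : Type u} [Category.{v} C] [Abelian C]
  (X : Abelian.SpectralObject C EInt)

instance hasSpectralSequence_coreE₁ : X.HasSpectralSequence coreE₁ where
  isZero_H_obj_mk₁_i₀_le r r' pq hpq n hn hrr' hr := absurd rfl (hpq _)
  isZero_H_obj_mk₁_i₃_le r r' pq hpq n hn hrr' hr :=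
    absurd (sub_add_cancel pq (r, 1 - r)) (hpq _)

/-- The index of the `p`th step of the filtration. -/
abbrev stepP (p : ℤ) : EInt := ((1 - p : ℤ) : EInt)

theorem step_le {p q : ℤ} (h : p ≤ q) : stepP q ≤ stepP p := by
  simp only [stepP, WithBotTop.coe_le_coe]
  omega

section Filtration₁

variable {H : ℤ → C} (e : ∀ n, Hij X n ⊥ ⊤ bot_le ≅ H n)

/-- The filtration on the abutment. -/
noncomputable def fil₁ (n p : ℤ) : Subobject (H n) := imageSubobject (toAbut X e n (stepP p))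

theorem fil₁_anti (n : ℤ) : Antitone (fil₁ X e n) := fun p q h => by
  exact (congrArg (fun g => imageSubobject g) (map_toAbut X e n (step_le h))).symm.trans_le
    (imageSubobject_comp_le _ _)

/-- The map `H^n(⊥ ≤ q+1) ⟶ gr^p`. -/
noncomputable def toGr₁ (n p : ℤ) :
    Hij X n ⊥ (stepP p) bot_le ⟶ SpSeq.grPiece (fil₁ X e n) (fil₁_anti X e n) p :=
  factorThruImageSubobject (toAbut X e n (stepP p)) ≫
    cokernel.π ((fil₁ X e n (p + 1)).ofLE (fil₁ X e n p) (fil₁_anti X e n (Int.le_add_one le_rfl)))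

instance epi_toGr₁ (n p : ℤ) : Epi (toGr₁ X e n p) := by
  unfold toGr₁
  exact epi_comp _ _

/-- `E^n(⊥ ≤ q ≤ q + 1 ≤ ⊤)` is the graded piece of the filtration. -/
theorem nonempty_gr_iso₁ (n p : ℤ) (n₀ n₂ : ℤ) (hn₁ : n₀ + 1 = n) (hn₂ : n + 1 = n₂) :
    Nonempty (X.E (homOfLE (bot_le : (⊥ : EInt) ≤ stepP (p + 1)))
      (homOfLE (step_le (Int.le_add_one le_rfl) : stepP (p + 1) ≤ stepP p))
      (homOfLE (le_top : stepP p ≤ (⊤ : EInt))) n₀ n n₂ hn₁ hn₂ ≅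
        SpSeq.grPiece (fil₁ X e n) (fil₁_anti X e n) p) := by
  set i₁ := stepP (p + 1)
  set i₂ := stepP p
  have h₁₂ : i₁ ≤ i₂ := step_le (Int.le_add_one le_rfl)
  let f₁ : (⊥ : EInt) ⟶ i₁ := homOfLE bot_le
  let f₂ : i₁ ⟶ i₂ := homOfLE h₁₂
  let f₃ : i₂ ⟶ (⊤ : EInt) := homOfLE le_top
  let f₁₂ : (⊥ : EInt) ⟶ i₂ := homOfLE bot_le
  let ftot : (⊥ : EInt) ⟶ ⊤ := homOfLE bot_le
  have w₁₂ : f₁ ≫ f₂ = f₁₂ := Subsingleton.elim _ _
  have wtot : f₁₂ ≫ f₃ = ftot := Subsingleton.elim _ _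
  let t := (X.H n).map (twoδ₂Toδ₁ f₁ f₂ f₁₂ w₁₂)
  let a' := toAbut X e n i₂
  let ι := (fil₁ X e n (p + 1)).ofLE (fil₁ X e n p) (fil₁_anti X e n (Int.le_add_one le_rfl))
  have ht : t ≫ a' = toAbut X e n i₁ := map_toAbut X e n h₁₂
  have hδ : X.δ f₁₂ f₃ n₀ n hn₁ ≫ a' = 0 := by
    show X.δ f₁₂ f₃ n₀ n hn₁ ≫ (X.H n).map (twoδ₂Toδ₁ f₁₂ f₃ ftot wtot) ≫ (e n).hom = 0
    rw [X.zero₁_assoc f₁₂ f₃ ftot wtot n₀ n hn₁, zero_comp]
  have htι : t ≫ factorThruImageSubobject a' = factorThruImageSubobject (toAbut X e n i₁) ≫ ι := by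
    rw [← cancel_mono (fil₁ X e n p).arrow, Category.assoc, Category.assoc, Subobject.ofLE_arrow]
    erw [imageSubobject_arrow_comp, imageSubobject_arrow_comp]
    exact ht
  have h0 : X.δ f₁₂ f₃ n₀ n hn₁ ≫ factorThruImageSubobject a' = 0 := by
    rw [← cancel_mono (imageSubobject a').arrow, Category.assoc, imageSubobject_arrow_comp, zero_comp, hδ]
  let S : ShortComplex C := ShortComplex.mk
    (biprod.desc t (X.δ f₁₂ f₃ n₀ n hn₁)) (toGr₁ X e n p) (by
      apply biprod.hom_ext'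
      · rw [biprod.inl_desc_assoc, comp_zero]
        show t ≫ factorThruImageSubobject a' ≫ cokernel.π ι = 0
        rw [← Category.assoc, htι, Category.assoc, cokernel.condition, comp_zero]
      · rw [biprod.inr_desc_assoc, comp_zero]
        show X.δ f₁₂ f₃ n₀ n hn₁ ≫ factorThruImageSubobject a' ≫ cokernel.π ι = 0
        rw [← Category.assoc, h0, zero_comp])
  have hS : S.Exact := by
    rw [ShortComplex.exact_iff_exact_up_to_refinements]
    intro A x hx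
    change A ⟶ Hij X n ⊥ i₂ bot_le at x
    change x ≫ factorThruImageSubobject a' ≫ cokernel.π ι = 0 at hx
    have hι : (ShortComplex.mk ι (cokernel.π ι) (cokernel.condition _)).Exact :=
      ShortComplex.exact_of_g_is_cokernel _ (cokernelIsCokernel _)
    obtain ⟨A₁, π₁, _, y, hy⟩ := hι.exact_up_to_refinements
      (x ≫ factorThruImageSubobject a') (by rw [Category.assoc]; exact hx)
    obtain ⟨A₂, π₂, _, z, hz⟩ :=
      surjective_up_to_refinements_of_epi (factorThruImageSubobject (toAbut X e n i₁)) y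
    have h' : (π₂ ≫ π₁ ≫ x - z ≫ t) ≫ a' = 0 := by
      rw [Preadditive.sub_comp, sub_eq_zero, Category.assoc, Category.assoc, Category.assoc, ht]
      have h1 := congrArg (fun k => π₂ ≫ k ≫ (fil₁ X e n p).arrow) hy
      have h2 := congrArg (fun k => k ≫ (fil₁ X e n (p + 1)).arrow) hz
      simp only [Category.assoc] at h1 h2
      erw [imageSubobject_arrow_comp, Subobject.ofLE_arrow] at h1
      erw [imageSubobject_arrow_comp] at h2
      exact h1.trans h2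
    obtain ⟨A₃, π₃, _, w, hw⟩ := (X.exact₁ f₁₂ f₃ ftot wtot n₀ n hn₁).exact_up_to_refinements
      (π₂ ≫ π₁ ≫ x - z ≫ t) (by
        change (π₂ ≫ π₁ ≫ x - z ≫ t) ≫ (X.H n).map (twoδ₂Toδ₁ f₁₂ f₃ ftot wtot) = 0
        rw [← cancel_mono (e n).hom, Category.assoc, zero_comp]
        exact h')
    refine ⟨A₃, π₃ ≫ π₂ ≫ π₁, inferInstance, biprod.lift (π₃ ≫ z) w, ?_⟩
    change (π₃ ≫ π₂ ≫ π₁) ≫ x = biprod.lift (π₃ ≫ z) w ≫ biprod.desc t (X.δ f₁₂ f₃ n₀ n hn₁)
    rw [biprod.lift_desc, Category.assoc, Category.assoc, Category.assoc]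
    change π₃ ≫ (π₂ ≫ π₁ ≫ x - z ≫ t) = w ≫ X.δ f₁₂ f₃ n₀ n hn₁ at hw
    rw [Preadditive.comp_sub, sub_eq_iff_eq_add] at hw
    rw [hw, add_comm]
  haveI : Epi S.g := inferInstanceAs (Epi (toGr₁ X e n p))
  exact ⟨(X.cokernelSequenceE_exact f₁ f₂ f₃ f₁₂ w₁₂ n₀ n n₂ hn₁ hn₂).gIsCokernel.coconePointUniqueUpToIso
    hS.gIsCokernel⟩

end Filtration₁

section Main₁

variable (htop : ∀ (n : ℤ) (i j : EInt) (h : i ≤ j), ((1 : ℤ) : EInt) ≤ i → IsZero (Hij X n i j h))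
  (hbot : ∀ (n : ℤ) (j : EInt), j ≤ ((-n : ℤ) : EInt) → IsZero (Hij X n ⊥ j bot_le))
  (hpage : ∀ p q : ℤ, p < 0 ∨ q < 0 →
    IsZero (Hij X (p + q) ((-p : ℤ) : EInt) ((-p + 1 : ℤ) : EInt)
      (by simp only [WithBotTop.coe_le_coe]; omega)))

include htop in
theorem fil₁_top {H : ℤ → C} (e : ∀ n, Hij X n ⊥ ⊤ bot_le ≅ H n) (n : ℤ) : fil₁ X e n 0 = ⊤ := by
  have h : ∀ k : ℤ, IsZero (Hij X k (stepP 0) ⊤ le_top) := fun k =>
    htop k _ _ _ (by simp [stepP])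
  let f : (⊥ : EInt) ⟶ stepP 0 := homOfLE bot_le
  let g : stepP 0 ⟶ (⊤ : EInt) := homOfLE le_top
  let fg : (⊥ : EInt) ⟶ ⊤ := homOfLE bot_le
  have w : f ≫ g = fg := Subsingleton.elim _ _
  haveI : Epi ((X.H n).map (twoδ₂Toδ₁ f g fg w)) :=
    (X.exact₂ f g fg w n).epi_f ((h n).eq_of_tgt _ _)
  haveI : Epi (toAbut X e n (stepP 0)) :=
    inferInstanceAs (Epi ((X.H n).map (twoδ₂Toδ₁ f g fg w) ≫ (e n).hom))
  haveI : Epi (fil₁ X e n 0).arrow :=
    epi_of_epi_fac (imageSubobject_arrow_comp (toAbut X e n (stepP 0)))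
  haveI : IsIso (fil₁ X e n 0).arrow := isIso_of_mono_of_epi _
  exact Subobject.eq_top_of_isIso_arrow _

include hbot in
theorem fil₁_bot {H : ℤ → C} (e : ∀ n, Hij X n ⊥ ⊤ bot_le ≅ H n) (n p : ℤ) (hp : n + 1 ≤ p) :
    fil₁ X e n p = ⊥ := by
  have h : IsZero (Hij X n ⊥ (stepP p) bot_le) :=
    hbot n _ (by simp only [stepP, WithBotTop.coe_le_coe]; omega)
  exact (congrArg (fun g => imageSubobject g) (h.eq_of_src (toAbut X e n (stepP p)) 0)).trans
    imageSubobject_zero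

/-- The page from which a position is stationary. -/
def rk₁ (pq : ℤ × ℤ) : ℤ := max 1 (max (pq.1 + 1) (pq.2 + 2))

include hpage in
theorem isZero_page₁ (r : ℤ) (hr : 1 ≤ r) (pq : ℤ × ℤ) (h : pq.1 < 0 ∨ pq.2 < 0) :
    IsZero (((X.spectralSequence coreE₁).page r hr).X pq) :=
  X.isZero_spectralSequence_page_X_of_isZero_H _ r hr pq (pq.1 + pq.2) rfl
    ((-pq.1 : ℤ) : EInt) ((-pq.1 + 1 : ℤ) : EInt) rfl rfl (hpage _ _ h)

include hpage in
theorem stationaryAt₁ (pq : ℤ × ℤ) : SpSeq.StationaryAt (X.spectralSequence coreE₁) pq (rk₁ pq) := by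
  refine ⟨le_max_left _ _, fun r hr hrk => ?_⟩
  have h1 : pq.1 < r := by unfold rk₁ at hrk; omega
  have h2 : pq.2 + 2 ≤ r := by unfold rk₁ at hrk; omega
  constructor
  · exact (isZero_page₁ X hpage r hr _ (Or.inl (by simp only [Prod.fst_sub]; omega))).eq_of_src _ _
  · exact (isZero_page₁ X hpage r hr _ (Or.inr (by simp only [Prod.snd_add]; omega))).eq_of_tgt _ _

include htop hbot hpage in
theorem nonempty_limit_iso₁ {H : ℤ → C} (e : ∀ n, Hij X n ⊥ ⊤ bot_le ≅ H n) (pq : ℤ × ℤ) :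
    Nonempty (((X.spectralSequence coreE₁).page (rk₁ pq) (stationaryAt₁ X hpage pq).1).X pq ≅
      SpSeq.grPiece (fil₁ X e (pq.1 + pq.2)) (fil₁_anti X e _) pq.1) := by
  obtain ⟨p, q⟩ := pq
  set r := rk₁ (p, q) with hrdef
  have hr : (1 : ℤ) ≤ r := le_max_left _ _
  have h1 : p < r := by simp only [hrdef, rk₁]; omega
  have h2 : q + 2 ≤ r := by simp only [hrdef, rk₁]; omega
  let j₀ : EInt := ((-p - r + 1 : ℤ) : EInt)
  let j₁ : EInt := stepP (p + 1)
  let j₂ : EInt := stepP p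
  let j₃ : EInt := ((-p + r : ℤ) : EInt)
  have e₁ : j₁ = ((-p : ℤ) : EInt) := congrArg WithBotTop.coe (by omega)
  have e₂ : j₂ = ((-p + 1 : ℤ) : EInt) := congrArg WithBotTop.coe (by omega)
  let i := X.spectralSequencePageXIso coreE₁ r hr (p, q)
    j₀ j₁ j₂ j₃ rfl e₁ e₂ rfl (p + q - 1) (p + q) (p + q + 1) rfl
  have l₀₁ : j₀ ≤ j₁ := by rw [e₁]; simp only [j₀, WithBotTop.coe_le_coe]; omega
  have l₁₂ : j₁ ≤ j₂ := step_le (Int.le_add_one le_rfl)
  have l₂₃ : j₂ ≤ j₃ := by rw [e₂]; simp only [j₃, WithBotTop.coe_le_coe]; omega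
  have z₀ : IsZero (Hij X (p + q + 1) ⊥ j₀ bot_le) :=
    hbot _ _ (by simp only [j₀, WithBotTop.coe_le_coe]; omega)
  have z₃ : IsZero (Hij X (p + q - 1) j₃ ⊤ le_top) :=
    htop _ _ _ _ (by simp only [j₃, WithBotTop.coe_le_coe]; omega)
  let α := X.isoMapFourδ₁Toδ₀' ⊥ j₀ j₁ j₂ j₃ bot_le l₀₁ l₁₂ l₂₃
    (p + q - 1) (p + q) (p + q + 1) z₀
  let β := X.isoMapFourδ₄Toδ₃' ⊥ j₁ j₂ j₃ ⊤ bot_le l₁₂ l₂₃ le_top
    (p + q - 1) (p + q) (p + q + 1) z₃
  exact ⟨i ≪≫ α.symm ≪≫ β ≪≫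
    (nonempty_gr_iso₁ X e (p + q) p (p + q - 1) (p + q + 1) (by omega) rfl).some⟩

include htop hbot hpage in
/-- A spectral object gives a bounded `E₁` spectral sequence with finite abutment. -/
theorem exists_spectralSequence₁ {H : ℤ → C} (e : ∀ n, Hij X n ⊥ ⊤ bot_le ≅ H n) (E1 : ℤ → ℤ → C)
    (e1 : ∀ p q : ℤ, Nonempty (Hij X (p + q) ((-p : ℤ) : EInt) ((-p + 1 : ℤ) : EInt)
      (by simp only [WithBotTop.coe_le_coe]; omega) ≅ E1 p q)) :
    ∃ (E : CohomologicalSpectralSequence C 1) (a : SpSeq.Abutment E H),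
      (∀ n, a.IsFinite n) ∧ SpSeq.IsBounded E ∧
        ∀ p q : ℤ, Nonempty ((E.page 1 le_rfl).X (p, q) ≅ E1 p q) := by
  refine ⟨X.spectralSequence coreE₁, ⟨fil₁ X e, fil₁_anti X e, rk₁, stationaryAt₁ X hpage,
    fun pq => (nonempty_limit_iso₁ X htop hbot hpage e pq).some⟩, fun n => ⟨⟨0, fil₁_top X htop e n⟩,
      ⟨n + 1, fil₁_bot X hbot e n (n + 1) le_rfl⟩⟩, fun n => ?_, fun p q => ⟨?_⟩⟩
  · refine (Set.finite_Icc (0 : ℤ) n).subset fun p hp => ?_
    by_contra h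
    simp only [Set.mem_Icc, not_and_or, not_le] at h
    exact hp (isZero_page₁ X hpage 1 le_rfl (p, n - p) (h.imp id (fun h => by simp only; omega)))
  · exact X.spectralSequenceFirstPageXIso coreE₁ (p, q)
      _ _ rfl rfl (p + q) rfl ≪≫ (e1 p q).some

end Main₁

end Groth.Agent.GrothSS
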