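import Groth.Agent.GrothSS.Cocone
import Groth.Agent.GrothSS.PageOneAbut

/-!
# The `E₁` spectral sequence of a resolution by complexes

A resolution `0 ⟶ K₀ ⟶ M₀ ⟶ M₁ ⟶ ⋯`, given by short exact sequences, gives a spectral sequence
`E₁^{p,q} = H^q(M_p) ⇒ H^n(K₀)`.
-/

set_option autoImplicit false
set_option linter.style.haveILetI false
set_option linter.unusedSectionVars false
set_option backward.isDefEq.respectTransparency false
set_option backward.isDefEq.respectTransparency.types false

universe v u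

open CategoryTheory Category Limits Opposite CochainComplex CochainComplex.HomComplex
open scoped ZeroObject

namespace Groth.Agent.GrothSS

variable {B : Type u} [Category.{v} B] [Abelian B]

/-- Iterated desuspension. -/
noncomputable def sh : ℕ → CochainComplex B ℤ ⥤ CochainComplex B ℤ
  | 0 => 𝟭 _
  | p + 1 => sh p ⋙ CategoryTheory.shiftFunctor (CochainComplex B ℤ) (-1 : ℤ)

theorem nonempty_homology_sh (M : CochainComplex B ℤ) :
    ∀ (p : ℕ) (n : ℤ), Nonempty (((sh p).obj M).homology n ≅ M.homology (n - p))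
  | 0, n => ⟨eqToIso (by rw [Nat.cast_zero, sub_zero]; rfl)⟩
  | p + 1, n => ⟨homShiftIso ((sh p).obj M) (-1) n (n - 1) (by omega) ≪≫
      (nonempty_homology_sh M p (n - 1)).some ≪≫
      eqToIso (congrArg (fun i => M.homology i) (by push_cast; ring))⟩

theorem isStrictlyGE_sh (M : CochainComplex B ℤ) [M.IsStrictlyGE 0] :
    ∀ p : ℕ, ((sh p).obj M).IsStrictlyGE p
  | 0 => inferInstanceAs (M.IsStrictlyGE 0)
  | p + 1 => by
      haveI := isStrictlyGE_sh M p
      exact ((sh p).obj M).isStrictlyGE_shift p (-1) ((p + 1 : ℕ) : ℤ) (by push_cast; ring)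

instance sh_preservesZero : ∀ p : ℕ, ((sh p : CochainComplex B ℤ ⥤ _)).PreservesZeroMorphisms
  | 0 => inferInstanceAs ((𝟭 (CochainComplex B ℤ)).PreservesZeroMorphisms)
  | p + 1 => by
      haveI := sh_preservesZero p
      exact inferInstanceAs ((sh p ⋙ CategoryTheory.shiftFunctor (CochainComplex B ℤ) (-1 : ℤ)).PreservesZeroMorphisms)

theorem shortExact_sh (T : ShortComplex (CochainComplex B ℤ)) (hT : T.ShortExact) :
    ∀ p : ℕ, (T.map (sh p)).ShortExact
  | 0 => hT
  | p + 1 => HomologicalComplex.shortExact_of_degreewise_shortExact _ fun n =>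
      ((shortExact_sh T hT p).map_of_exact (HomologicalComplex.eval B (ComplexShape.up ℤ) (n + -1)) :)

variable (K : ℕ → CochainComplex B ℤ) (M : ℕ → CochainComplex B ℤ)
  (ι : ∀ p, K p ⟶ M p) (π : ∀ p, M p ⟶ K (p + 1)) (w : ∀ p, ι p ≫ π p = 0)

/-- A step of the tower. -/
structure TStep (p : ℕ) where
  /-- the complex -/
  Q : CochainComplex B ℤ
  /-- the augmentation -/
  e : K 0 ⟶ Q
  /-- the map to the remainder -/
  φ : Q ⟶ (sh p).obj (K (p + 1))
  w : e ≫ φ = 0

/-- The map used to build the next step. -/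
noncomputable abbrev hMap {p : ℕ} (S : TStep K p) : S.Q ⟶ (sh p).obj (M (p + 1)) :=
  S.φ ≫ (sh p).map (ι (p + 1))

/-- The projection, as a cocycle of degree one. -/
noncomputable def βc (p : ℕ) : Cocycle ((sh p).obj (M (p + 1))) ((sh (p + 1)).obj (K (p + 2))) 1 :=
  (Cocycle.ofHom ((sh p).map (π (p + 1)))).rightShift (-1) 1 (by omega)

theorem βc_v (p : ℕ) (n m : ℤ) (h : n + 1 = m) :
    (βc K M π p).1.v n m h = ((sh p).map (π (p + 1))).f n ≫
      (HomologicalComplex.XIsoOfEq _ (show n = m + -1 by omega)).hom := by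
  simp [βc, Cochain.rightShift_v (n := 0) _ _ _ _ n m h n (by omega),
    shiftFunctorObjXIso, sh]
  rfl

include w in
theorem hMap_βc {p : ℕ} (S : TStep K p) :
    δ 0 1 (0 : Cochain S.Q ((sh (p + 1)).obj (K (p + 2))) 0) +
      (Cochain.ofHom (hMap K M ι S)).comp (βc K M π p).1 (zero_add 1) = 0 := by
  have hw : (sh p).map (ι (p + 1)) ≫ (sh p).map (π (p + 1)) = 0 := by
    rw [← Functor.map_comp, w, Functor.map_zero]
  ext n m h
  simp only [δ_zero, zero_add, Cochain.zero_cochain_comp_v, Cochain.ofHom_v, Cochain.zero_v, βc_v]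
  rw [← assoc, ← HomologicalComplex.comp_f, assoc S.φ, hw, comp_zero, HomologicalComplex.zero_f, zero_comp]

/-- The next step. -/
noncomputable def tnext {p : ℕ} (S : TStep K p) : TStep K (p + 1) where
  Q := mappingCocone (hMap K M ι S)
  e := mappingCocone.lift (hMap K M ι S) S.e 0 (by simp [reassoc_of% S.w])
  φ := mappingCocone.desc (hMap K M ι S) 0 (βc K M π p) (hMap_βc K M ι π w S)
  w := by
    refine HomologicalComplex.hom_ext _ _ fun n => ?_
    rw [HomologicalComplex.comp_f, ← id_comp ((mappingCocone.desc _ _ _ _).f n),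
      ← mappingCocone.id_X _ n (n + -1) rfl]
    simp

/-- The tower. -/
noncomputable def tstep : ∀ p : ℕ, TStep K p
  | 0 => ⟨M 0, ι 0, π 0, w 0⟩
  | p + 1 => tnext K M ι π w (tstep p)

variable (hS : ∀ p, (ShortComplex.mk (ι p) (π p) (w p)).ShortExact)

include hS in
theorem exists_ker : ∀ p : ℕ, ∃ (C : CochainComplex B ℤ) (f : K 0 ⟶ C) (g : C ⟶ (tstep K M ι π w p).Q)
    (_ : f ≫ g = (tstep K M ι π w p).e) (h : g ≫ (tstep K M ι π w p).φ = 0),
      QuasiIso f ∧ (ShortComplex.mk g (tstep K M ι π w p).φ h).ShortExact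
  | 0 => ⟨K 0, 𝟙 _, ι 0, id_comp _, w 0, inferInstance, hS 0⟩
  | p + 1 => by
      obtain ⟨C, f, g, hfg, hgφ, hf, hex⟩ := exists_ker p
      let S := tstep K M ι π w p
      let l := mappingCocone.lift S.φ g 0 (by rw [δ_zero, zero_add, hgφ, Cochain.ofHom_zero])
      haveI := hf
      haveI : QuasiIso l := quasiIso_liftShortComplex _ hex
      let c : mappingCocone S.φ ⟶ mappingCocone (hMap K M ι S) :=
        cmap S.φ (hMap K M ι S) (𝟙 _) ((sh p).map (ι (p + 1))) (id_comp _)
      let φ' := mappingCocone.desc (hMap K M ι S) 0 (βc K M π p) (hMap_βc K M ι π w S)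
      have hn : ∀ n, (((ShortComplex.mk (ι (p + 1)) (π (p + 1)) (w (p + 1))).map (sh p)).map
          (HomologicalComplex.eval B (ComplexShape.up ℤ) n)).ShortExact := fun n =>
        (shortExact_sh _ (hS (p + 1)) p).map_of_exact _
      have i0 : ∀ n, (mappingCocone.inl (hMap K M ι S)).v n n (add_zero n) ≫ φ'.f n = 0 := fun n => by
        simp [φ']
      have i1 : ∀ n, (mappingCocone.inr (hMap K M ι S)).1.v (n + -1) n (by omega) ≫ φ'.f n =
          ((sh p).map (π (p + 1))).f (n + -1) := fun n => by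
        simp only [φ', mappingCocone.inr_v_desc_f, βc_v, HomologicalComplex.XIsoOfEq_rfl,
          Iso.refl_hom, comp_id]
      have hφ : ∀ n, φ'.f n = (mappingCocone.snd (hMap K M ι S)).v n (n + -1) rfl ≫
          ((sh p).map (π (p + 1))).f (n + -1) := fun n => by
        refine cocone_ext_from (φ := hMap K M ι S) ?_ ?_
        · rw [i0, ← assoc, mappingCocone.inl_v_snd_v, zero_comp]
        · rw [i1, ← assoc, mappingCocone.inr_v_snd_v, id_comp]
      have hc : c ≫ φ' = 0 := HomologicalComplex.hom_ext _ _ fun n => by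
        rw [HomologicalComplex.comp_f, hφ, ← assoc]
        simp only [c, cmap_f_snd, assoc]
        have := (hn (n + -1)).1.1
        change _ ≫ ((sh p).map (ι (p + 1))).f (n + -1) ≫ ((sh p).map (π (p + 1))).f (n + -1) = _
        rw [← HomologicalComplex.comp_f, ← Functor.map_comp, w, Functor.map_zero,
          HomologicalComplex.zero_f, comp_zero]
        rfl
      refine ⟨mappingCocone S.φ, f ≫ l, c, ?_, hc, inferInstance, ?_⟩
      · refine HomologicalComplex.hom_ext _ _ fun n => cocone_ext_to (φ := hMap K M ι S) ?_ ?_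
        · change (_ ≫ _) ≫ _ = (tnext K M ι π w S).e.f n ≫ _
          simp only [tnext, assoc, c, cmap_f_fst, HomologicalComplex.id_f, comp_id, HomologicalComplex.comp_f,
            l, mappingCocone.lift_f_fst_f]
          exact congrArg (fun k => k.f n) hfg
        · change (_ ≫ _) ≫ _ = (tnext K M ι π w S).e.f n ≫ _
          simp [tnext, c, cmap_f_snd, l]
      · change (ShortComplex.mk c φ' hc).ShortExact
        refine HomologicalComplex.shortExact_of_degreewise_shortExact _ fun n => ?_
        haveI hm : Mono (((sh p).map (ι (p + 1))).f (n + -1)) := (hn (n + -1)).mono_f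
        haveI he : Epi (((sh p).map (π (p + 1))).f (n + -1)) := (hn (n + -1)).epi_g
        refine @ShortComplex.ShortExact.mk _ _ _ _ ?_ ?_ ?_
        · rw [ShortComplex.exact_iff_exact_up_to_refinements]
          intro T x hx
          change x ≫ φ'.f n = 0 at hx
          rw [hφ, ← assoc] at hx
          refine ⟨T, 𝟙 T, inferInstance,
            x ≫ (mappingCocone.fst (hMap K M ι S)).f n ≫ (mappingCocone.inl S.φ).v n n (add_zero n) +
              (haveI := (hn (n + -1)).mono_f
               (hn (n + -1)).exact.lift (x ≫ (mappingCocone.snd (hMap K M ι S)).v n (n + -1) rfl) hx) ≫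
              (mappingCocone.inr S.φ).1.v (n + -1) n (by omega), ?_⟩
          change 𝟙 T ≫ x = _ ≫ c.f n
          rw [id_comp]
          refine cocone_ext_to ?_ ?_
          · simp [c, cmap_f_fst]
          · simp only [c, assoc, cmap_f_snd, Preadditive.add_comp, mappingCocone.inl_v_snd_v_assoc,
              zero_comp, comp_zero, mappingCocone.inr_v_snd_v_assoc, zero_add]
            haveI := (hn (n + -1)).mono_f
            exact ((hn (n + -1)).exact.lift_f _ hx).symm
        · refine ⟨fun a b h => ?_⟩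
          change a ≫ c.f n = b ≫ c.f n at h
          refine cocone_ext_to (φ := S.φ) ?_ ?_
          · have h1 := congrArg (· ≫ (mappingCocone.fst (hMap K M ι S)).f n) h
            simpa only [assoc, c, cmap_f_fst, HomologicalComplex.id_f, comp_id] using h1
          · have h1 := congrArg (· ≫ (mappingCocone.snd (hMap K M ι S)).v n (n + -1) rfl) h
            simp only [assoc, c, cmap_f_snd] at h1
            simp only [← assoc] at h1
            exact (cancel_mono (((sh p).map (ι (p + 1))).f (n + -1))).1 h1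
        · refine ⟨fun a b h => ?_⟩
          change φ'.f n ≫ a = φ'.f n ≫ b at h
          have h1 := congrArg ((mappingCocone.inr (hMap K M ι S)).1.v (n + -1) n (by omega) ≫ ·) h
          simp only [← assoc, i1] at h1
          exact (cancel_epi (((sh p).map (π (p + 1))).f (n + -1))).1 h1

variable [∀ p, (K p).IsStrictlyGE 0]

include hS in
theorem exactAt_cone_e (p : ℕ) (m : ℤ) (hm : m < p) :
    (mappingCone (tstep K M ι π w p).e).ExactAt m := by
  obtain ⟨C, f, g, hfg, hgφ, hf, hex⟩ := exists_ker K M ι π w hS p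
  haveI := isStrictlyGE_sh (K (p + 1)) p
  have hz : ∀ i : ℤ, i < p → IsZero (((sh p).obj (K (p + 1))).homology i) := fun i hi =>
    (exactAt_of_lt _ (p : ℤ) i hi).isZero_homology
  haveI : Epi (HomologicalComplex.homologyMap g m) :=
    (hex.homology_exact₂ m).epi_f ((hz m hm).eq_of_tgt _ _)
  haveI : Mono (HomologicalComplex.homologyMap g (m + 1)) :=
    (hex.homology_exact₁ m (m + 1) (by simp)).mono_g ((hz m hm).eq_of_src _ _)
  haveI : Epi (HomologicalComplex.homologyMap (tstep K M ι π w p).e m) := by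
    rw [← hfg, HomologicalComplex.homologyMap_comp]
    infer_instance
  haveI : Mono (HomologicalComplex.homologyMap (tstep K M ι π w p).e (m + 1)) := by
    rw [← hfg, HomologicalComplex.homologyMap_comp]
    infer_instance
  exact exactAt_cone_of_epi_mono _ m

/-- The tower with a zero term added. -/
noncomputable def nObj : ℕ → CochainComplex B ℤ
  | 0 => 0
  | k + 1 => (tstep K M ι π w k).Q

/-- The projections. -/
noncomputable def nMap : ∀ k : ℕ, nObj K M ι π w (k + 1) ⟶ nObj K M ι π w k
  | 0 => 0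
  | k + 1 => mappingCocone.fst (hMap K M ι (tstep K M ι π w k))

/-- The augmentations. -/
noncomputable def eMap : ∀ k : ℕ, K 0 ⟶ nObj K M ι π w k
  | 0 => 0
  | k + 1 => (tstep K M ι π w k).e

/-- The tower as a functor. -/
noncomputable abbrev nFun : ℕᵒᵖ ⥤ CochainComplex B ℤ := Functor.ofOpSequence (nMap K M ι π w)

theorem eMap_comp : ∀ k : ℕ, eMap K M ι π w (k + 1) ≫ nMap K M ι π w k = eMap K M ι π w k
  | 0 => comp_zero
  | k + 1 => mappingCocone.lift_fst (hMap K M ι (tstep K M ι π w k)) _ _
      (by simp [reassoc_of% (tstep K M ι π w k).w])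

/-- The augmentation as a natural transformation. -/
noncomputable def eNat : (Functor.const ℕᵒᵖ).obj (K 0) ⟶ nFun K M ι π w :=
  NatTrans.ofOpSequence (fun k => eMap K M ι π w k) fun k => by
    change 𝟙 _ ≫ eMap K M ι π w k = eMap K M ι π w (k + 1) ≫ _
    rw [id_comp, Functor.ofOpSequence_map_homOfLE_succ]
    exact (eMap_comp K M ι π w k).symm

/-- objects of the extended tower -/
noncomputable def xObj : (WithTop ℕ)ᵒᵖ → CochainComplex B ℤ
  | ⟨(n : ℕ)⟩ => (nFun K M ι π w).obj ⟨n⟩
  | ⟨⊤⟩ => K 0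

/-- maps of the extended tower -/
noncomputable def xMap : ∀ {a b : WithTop ℕ}, a ≤ b → (xObj K M ι π w ⟨b⟩ ⟶ xObj K M ι π w ⟨a⟩)
  | (a : ℕ), (b : ℕ), h => (nFun K M ι π w).map (homOfLE (WithTop.coe_le_coe.1 h)).op
  | (a : ℕ), ⊤, _ => (eNat K M ι π w).app ⟨a⟩
  | ⊤, ⊤, _ => 𝟙 _
  | ⊤, (b : ℕ), h => absurd h (not_le.2 (WithTop.coe_lt_top b))

/-- The extended tower. -/
noncomputable def xFun : (WithTop ℕ)ᵒᵖ ⥤ CochainComplex B ℤ where
  obj := xObj K M ι π w
  map f := xMap K M ι π w (leOfHom f.unop)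
  map_id a := by
    obtain ⟨a⟩ := a
    cases a with
    | top => rfl
    | coe a => exact (nFun K M ι π w).map_id ⟨a⟩
  map_comp {a b c} f g := by
    obtain ⟨a⟩ := a
    obtain ⟨b⟩ := b
    obtain ⟨c⟩ := c
    cases c with
    | top =>
      cases b with
      | coe b => exact absurd (leOfHom g.unop) (not_le.2 (WithTop.coe_lt_top b))
      | top =>
        cases a with
        | coe a => exact absurd (leOfHom f.unop) (not_le.2 (WithTop.coe_lt_top a))
        | top => exact (id_comp _).symm
    | coe c =>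
      cases b with
      | top =>
        cases a with
        | coe a => exact absurd (leOfHom f.unop) (not_le.2 (WithTop.coe_lt_top a))
        | top => exact (id_comp _).symm
      | coe b =>
        cases a with
        | top =>
          have := (eNat K M ι π w).naturality (homOfLE (WithTop.coe_le_coe.1 (leOfHom g.unop))).op
          exact (this.symm.trans (id_comp _)).symm
        | coe a =>
          exact (nFun K M ι π w).map_comp (homOfLE (WithTop.coe_le_coe.1 (leOfHom f.unop))).op
            (homOfLE (WithTop.coe_le_coe.1 (leOfHom g.unop))).op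

/-- The index map. -/
def ix₁ : EInt → (WithTop ℕ)ᵒᵖ :=
  WithBotTop.rec (motive := fun _ => (WithTop ℕ)ᵒᵖ) (op (⊤ : WithTop ℕ))
    (fun q : ℤ => op (((1 - q).toNat : ℕ) : WithTop ℕ)) (op ((0 : ℕ) : WithTop ℕ))

theorem ix₁_anti {i j : EInt} (h : i ≤ j) : (ix₁ j).unop ≤ (ix₁ i).unop := by
  induction i using WithBotTop.rec with
  | bot => exact le_top.trans_eq rfl
  | coe i =>
    induction j using WithBotTop.rec with
    | bot => exact absurd h (by simp)
    | coe j =>
      simp only [WithBotTop.coe_le_coe] at h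
      exact WithTop.coe_le_coe.2 (Int.toNat_le_toNat (by omega))
    | top => exact WithTop.coe_le_coe.2 (Nat.zero_le _)
  | top =>
    induction j using WithBotTop.rec with
    | bot => exact absurd h (by simp)
    | coe j => exact absurd h (by simp)
    | top => exact le_rfl

/-- The functor on the extended integers. -/
noncomputable def GT : EInt ⥤ CochainComplex B ℤ where
  obj i := xObj K M ι π w (ix₁ i)
  map f := xMap K M ι π w (ix₁_anti (leOfHom f))
  map_id i := (xFun K M ι π w).map_id (ix₁ i)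
  map_comp f g := (xFun K M ι π w).map_comp (homOfLE (ix₁_anti (leOfHom f))).op
    (homOfLE (ix₁_anti (leOfHom g))).op

theorem GT_map_coe (q : ℤ) (k : ℕ) (hk : (1 - q).toNat = k + 1) (hk' : (1 - (q + 1)).toNat = k)
    (m : ℤ) :
    Nonempty ((mappingCone ((GT K M ι π w).map (homOfLE (show ((q : ℤ) : EInt) ≤ ((q + 1 : ℤ) : EInt) by
      simp only [WithBotTop.coe_le_coe]; omega)))).homology m ≅
      (mappingCone (nMap K M ι π w k)).homology m) := by
  suffices h : ∀ (a b : ℕ) (hb : b = k + 1) (ha : a = k) (h : a ≤ b),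
      Nonempty ((mappingCone ((nFun K M ι π w).map (homOfLE h).op)).homology m ≅
        (mappingCone (nMap K M ι π w k)).homology m) from
    h _ _ hk hk' _
  rintro a b rfl rfl h
  exact ⟨eqToIso (congrArg (fun t : nObj K M ι π w (a + 1) ⟶ nObj K M ι π w a =>
    (mappingCone t).homology m) (Functor.ofOpSequence_map_homOfLE_succ (nMap K M ι π w) a))⟩

variable [∀ p, (M p).IsStrictlyGE 0]

include hS in
/-- The spectral sequence of a resolution by complexes. -/
theorem exists_pageOne (H : ℤ → B) (eH : ∀ n, Nonempty ((K 0).homology n ≅ H n))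
    (E1 : ℤ → ℤ → B) (e1 : ∀ p q : ℕ, Nonempty ((M p).homology (q : ℤ) ≅ E1 p q))
    (e0 : ∀ p q : ℤ, p < 0 ∨ q < 0 → IsZero (E1 p q)) :
    ∃ (E : CohomologicalSpectralSequence B 1) (a : SpSeq.Abutment E H),
      (∀ n, a.IsFinite n) ∧ SpSeq.IsBounded E ∧
        ∀ p q : ℤ, Nonempty ((E.page 1 le_rfl).X (p, q) ≅ E1 p q) := by
  let G := GT K M ι π w
  have hiso : ∀ (i j : EInt) (h : i ≤ j) (n : ℤ), (ix₁ i = op ((0 : ℕ) : WithTop ℕ)) →
      IsZero (Hij (coneObj G) n i j h) := fun i j h n hi => by
    have hz : ∀ l : (WithTop ℕ)ᵒᵖ, l = op ((0 : ℕ) : WithTop ℕ) → IsZero (xObj K M ι π w l) := by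
      rintro l rfl
      exact isZero_zero _
    have hj : ix₁ j = op ((0 : ℕ) : WithTop ℕ) :=
      congrArg op (le_antisymm ((ix₁_anti h).trans_eq (congrArg unop hi)) (bot_le))
    haveI : IsIso (G.map (homOfLE h)) :=
      ⟨0, (hz _ hi).eq_of_src _ _, (hz _ hj).eq_of_src _ _⟩
    exact (exactAt_mappingCone_of_isIso (G.map (homOfLE h)) (n - 1)).isZero_homology.of_iso
      (coneObjIso G n i j h (n - 1) (by omega))
  have htop : ∀ (n : ℤ) (i j : EInt) (h : i ≤ j), ((1 : ℤ) : EInt) ≤ i → IsZero (Hij (coneObj G) n i j h) :=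
    fun n i j h hi => hiso i j h n (congrArg op (le_antisymm ((ix₁_anti hi).trans_eq rfl) bot_le))
  have hbot : ∀ (n : ℤ) (j : EInt), j ≤ ((-n : ℤ) : EInt) → IsZero (Hij (coneObj G) n ⊥ j bot_le) := by
    intro n j hj
    refine IsZero.of_iso ?_ (coneObjIso G n ⊥ j bot_le (n - 1) (by omega))
    induction j using WithBotTop.rec with
    | bot =>
      haveI : IsIso (G.map (homOfLE (bot_le : (⊥ : EInt) ≤ ⊥))) := inferInstanceAs (IsIso (G.map (𝟙 _)))
      exact (exactAt_mappingCone_of_isIso _ _).isZero_homology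
    | coe j =>
      simp only [WithBotTop.coe_le_coe] at hj
      suffices h : ∀ k : ℕ, n ≤ (k : ℤ) - 1 → IsZero ((mappingCone (eMap K M ι π w k)).homology (n - 1)) from
        h (1 - j).toNat (by omega)
      intro k hk
      cases k with
      | zero =>
        haveI : (nObj K M ι π w 0).IsStrictlyGE 0 := by
          rw [CochainComplex.isStrictlyGE_iff]
          exact fun i _ => (HomologicalComplex.eval B _ i).map_isZero (isZero_zero (CochainComplex B ℤ))
        haveI := CochainComplex.isStrictlyGE_mappingCone (eMap K M ι π w 0) 0 0 (-1)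
        exact (exactAt_of_lt _ (-1) _ (by omega)).isZero_homology
      | succ k => exact (exactAt_cone_e K M ι π w hS k (n - 1) (by omega)).isZero_homology
    | top => exact absurd hj (by simp)
  have he1 : ∀ p q : ℤ, Nonempty (Hij (coneObj G) (p + q) ((-p : ℤ) : EInt) ((-p + 1 : ℤ) : EInt)
      (by simp only [WithBotTop.coe_le_coe]; omega) ≅ E1 p q) := by
    intro p q
    rcases lt_or_ge p 0 with hp | hp
    · refine ⟨(hiso _ _ _ _ ?_).iso (e0 p q (Or.inl hp))⟩
      exact congrArg (fun a : ℕ => op (a : WithTop ℕ)) (Int.toNat_eq_zero.2 (by omega))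
    obtain ⟨k, rfl⟩ := Int.eq_ofNat_of_zero_le hp
    obtain ⟨i⟩ := GT_map_coe K M ι π w (-(k : ℤ)) k (by omega) (by omega) ((k : ℤ) + q - 1)
    have hk : Nonempty ((mappingCone (nMap K M ι π w k)).homology ((k : ℤ) + q - 1) ≅ (M k).homology q) := by
      cases k with
      | zero =>
        obtain ⟨j⟩ := nonempty_cone_homology_iso (nMap K M ι π w 0) (((0 : ℕ) : ℤ) + q - 1)
          (HomologicalComplex.exactAt_iff_isZero_homology _ _ |>.2
            ((HomologicalComplex.homologyFunctor B (ComplexShape.up ℤ) _).map_isZero (isZero_zero _)))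
          (HomologicalComplex.exactAt_iff_isZero_homology _ _ |>.2
            ((HomologicalComplex.homologyFunctor B (ComplexShape.up ℤ) _).map_isZero (isZero_zero _)))
        exact ⟨j ≪≫ eqToIso (congrArg (fun i => (M 0).homology i) (by push_cast; ring))⟩
      | succ k =>
        obtain ⟨w', hw'⟩ := shortExact_coconeKer (hMap K M ι (tstep K M ι π w k))
        obtain ⟨j⟩ := nonempty_cone_iso_of_shortExact _ hw' (((k + 1 : ℕ) : ℤ) + q - 1)
        exact ⟨j ≪≫ homShiftIso ((sh k).obj (M (k + 1))) (-1) _ ((k : ℤ) + q) (by push_cast; ring) ≪≫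
          (nonempty_homology_sh (M (k + 1)) k _).some ≪≫
          eqToIso (congrArg (fun i => (M (k + 1)).homology i) (by push_cast; ring))⟩
    rcases lt_or_ge q 0 with hq | hq
    · refine ⟨IsZero.iso ?_ (e0 _ _ (Or.inr hq))⟩
      exact (exactAt_of_lt (M k) 0 q hq).isZero_homology.of_iso
        (coneObjIso G _ _ _ _ ((k : ℤ) + q - 1) (by omega) ≪≫ i ≪≫ hk.some)
    obtain ⟨l, rfl⟩ := Int.eq_ofNat_of_zero_le hq
    exact ⟨coneObjIso G _ _ _ _ ((k : ℤ) + (l : ℤ) - 1) (by omega) ≪≫ i ≪≫ hk.some ≪≫ (e1 k l).some⟩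
  have he : ∀ n, Nonempty (Hij (coneObj G) n ⊥ ⊤ bot_le ≅ H n) := fun n => by
    obtain ⟨j⟩ := nonempty_cone_homology_iso (G.map (homOfLE (bot_le : (⊥ : EInt) ≤ ⊤))) (n - 1)
      (HomologicalComplex.exactAt_iff_isZero_homology _ _ |>.2
        ((HomologicalComplex.homologyFunctor B (ComplexShape.up ℤ) _).map_isZero (isZero_zero _)))
      (HomologicalComplex.exactAt_iff_isZero_homology _ _ |>.2
        ((HomologicalComplex.homologyFunctor B (ComplexShape.up ℤ) _).map_isZero (isZero_zero _)))
    exact ⟨coneObjIso G n ⊥ ⊤ bot_le (n - 1) (by omega) ≪≫ j ≪≫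
      eqToIso (congrArg (fun i => (K 0).homology i) (sub_add_cancel n 1)) ≪≫ (eH n).some⟩
  exact exists_spectralSequence₁ (coneObj G) htop hbot
    (fun p q h => (e0 p q h).of_iso (he1 p q).some) (fun n => (he n).some) E1 he1

end Groth.Agent.GrothSS
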