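import Groth.Agent.GrothSS.SupportSS
import Groth.Agent.KFlat.Site

/-!
`Γ_Z ℋom(M, N) = ℋom(M, Γ_Z N) = ℋom(M_Z, N)`.
-/

set_option autoImplicit false
set_option linter.style.haveILetI false
set_option linter.unusedSectionVars false
set_option backward.isDefEq.respectTransparency false
set_option backward.isDefEq.respectTransparency.types false
set_option maxHeartbeats 1000000
set_option quotPrecheck false

universe u

open CategoryTheory Category Limits Opposite

namespace Groth.Agent.GrothSS

variable {C : Type u} [SmallCategory C] {J : GrothendieckTopology C} {O : Sheaf J CommRingCat.{u}}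

variable (U : C) (M : ModSite.Mod O) [ModSite.HasPushOver O U] [ModSite.HasSheafHom M]

local notation "H" => ModSite.sheafHom M
local notation "Γ" => ModSite.sectOn O U
local notation "ι" => ModSite.sectOnι O U
local notation "adjM" => ModSite.sheafHomAdj M

lemma restr_sheafHom_map_ι (N : ModSite.Mod O) :
    (ModSite.restr O U).map ((H).map ((ι).app N)) = 0 := by
  have h : (H).map ((ι).app N) = (adjM).homEquiv _ _ ((adjM).counit.app ((Γ).obj N) ≫ (ι).app N) := by
    rw [Adjunction.homEquiv_naturality_right, Adjunction.homEquiv_unit, Adjunction.right_triangle_components, id_comp]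
  rw [h, restr_transpose_iff U M]
  exact restr_comp_ι _

lemma restr_symm_ι (N : ModSite.Mod O) :
    (ModSite.restr O U).map (((adjM).homEquiv _ _).symm ((ι).app ((H).obj N))) = 0 := by
  rw [← restr_transpose_iff U M, Equiv.apply_symm_apply]
  simpa only [id_comp] using restr_comp_ι (𝟙 ((Γ).obj ((H).obj N)))

/-- `Γ_Z ℋom(M, N) → ℋom(M, Γ_Z N)` -/
noncomputable def sectHomTo (N : ModSite.Mod O) : (Γ).obj ((H).obj N) ⟶ (H).obj ((Γ).obj N) :=
  (adjM).homEquiv _ _ (sectLift _ (restr_symm_ι U M N))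

lemma sectHomTo_ι (N : ModSite.Mod O) : sectHomTo U M N ≫ (H).map ((ι).app N) = (ι).app ((H).obj N) := by
  rw [sectHomTo, ← Adjunction.homEquiv_naturality_right, sectLift_ι]
  exact Equiv.apply_symm_apply _ _

instance mono_sheafHom_map_ι (N : ModSite.Mod O) : Mono ((H).map ((ι).app N)) :=
  haveI : (H).IsRightAdjoint := (adjM).isRightAdjoint
  inferInstance

/-- `Γ_Z ℋom(M, N) ≅ ℋom(M, Γ_Z N)` -/
noncomputable def sectHomObjIso (N : ModSite.Mod O) : (Γ).obj ((H).obj N) ≅ (H).obj ((Γ).obj N) where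
  hom := sectHomTo U M N
  inv := sectLift _ (restr_sheafHom_map_ι U M N)
  hom_inv_id := by rw [← cancel_mono ((ι).app ((H).obj N)), assoc, sectLift_ι, sectHomTo_ι, id_comp]
  inv_hom_id := by rw [← cancel_mono ((H).map ((ι).app N)), assoc, sectHomTo_ι, sectLift_ι, id_comp]

/-- `Γ_Z ∘ ℋom(M, -) ≅ ℋom(M, -) ∘ Γ_Z` -/
noncomputable def sectHomIso : H ⋙ Γ ≅ Γ ⋙ H :=
  NatIso.ofComponents (sectHomObjIso U M) fun {N N'} g => by
    show (Γ).map ((H).map g) ≫ sectHomTo U M N' = sectHomTo U M N ≫ (H).map ((Γ).map g)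
    rw [← cancel_mono ((H).map ((ι).app N')), assoc, sectHomTo_ι, assoc, ← Functor.map_comp]
    have e : (Γ).map g ≫ (ι).app N' = (ι).app N ≫ g := (ι).naturality g
    rw [e, Functor.map_comp, ← assoc, sectHomTo_ι]
    exact (ι).naturality ((H).map g)

section Quot


lemma isZero_restr_tensor_quot (X : ModSite.Mod O) :
    IsZero ((ModSite.restr O U).obj (((ModSite.tensorBi O).obj X).obj ((ModSite.quotOn O U).obj M))) := by
  obtain ⟨i⟩ := ModSiteExt.nonempty_restrTensorIso O U X ((ModSite.quotOn O U).obj M)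
  haveI := KFlat.preservesFiniteColimits_left (O.over U) ((ModSite.restr O U).obj X)
  haveI := preservesBinaryBiproducts_of_preservesBinaryCoproducts ((ModSite.tensorBi (O.over U)).obj ((ModSite.restr O U).obj X))
  haveI := Functor.additive_of_preservesBinaryBiproducts ((ModSite.tensorBi (O.over U)).obj ((ModSite.restr O U).obj X))
  exact (((ModSite.tensorBi (O.over U)).obj ((ModSite.restr O U).obj X)).map_isZero
    (ExtSupp.isNullOn_quotOn O U M)).of_iso i

/-- maps out of `X ⊗ M` vanishing on `U` are maps out of `X ⊗ M_Z` -/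
theorem exists_desc_tensor_quot {X N : ModSite.Mod O} (φ : ((ModSite.tensorBi O).obj X).obj M ⟶ N)
    (hφ : (ModSite.restr O U).map φ = 0) :
    ∃ ψ : ((ModSite.tensorBi O).obj X).obj ((ModSite.quotOn O U).obj M) ⟶ N, ((ModSite.tensorBi O).obj X).map ((ModSite.quotOnπ O U).app M) ≫ ψ = φ := by
  let T := (ModSite.tensorBi O).obj X
  haveI := KFlat.preservesFiniteColimits_left O X
  haveI := preservesBinaryBiproducts_of_preservesBinaryCoproducts T
  haveI := Functor.additive_of_preservesBinaryBiproducts T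
  let c := (ModSite.extZeroAdj O U).counit.app M
  have h0 : T.map c ≫ φ = 0 := by
    let e := ((KFlat.braid O).app X).app ((ModSite.extZero O U).obj ((ModSite.restr O U).obj M))
    let p := (ModSiteExt.projectionIso O U X).app ((ModSite.restr O U).obj M)
    rw [← cancel_epi e.inv, comp_zero, ← cancel_epi p.hom, comp_zero, ← assoc, ← assoc]
    exact eq_zero_of_extZero O U _ φ hφ
  have hl : IsColimit (CokernelCofork.ofπ (cokernel.π c) (cokernel.condition c)) := cokernelIsCokernel c
  refine ⟨(CokernelCofork.mapIsColimit _ hl T).desc (CokernelCofork.ofπ φ h0), ?_⟩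
  exact (CokernelCofork.mapIsColimit _ hl T).fac (CokernelCofork.ofπ φ h0) WalkingParallelPair.one

variable [ModSite.HasSheafHom ((ModSite.quotOn O U).obj M)]


/-- the map `ℋom(M_Z, -) → ℋom(M, -)` -/
noncomputable def quotHom : (ModSite.sheafHom ((ModSite.quotOn O U).obj M)) ⟶ H :=
  conjugateEquiv (ModSite.sheafHomAdj ((ModSite.quotOn O U).obj M)) adjM ((ModSite.tensorBi O).flip.map ((ModSite.quotOnπ O U).app M))

lemma homEquiv_quotHom {X N : ModSite.Mod O} (ψ : ((ModSite.tensorBi O).obj X).obj ((ModSite.quotOn O U).obj M) ⟶ N) :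
    (ModSite.sheafHomAdj ((ModSite.quotOn O U).obj M)).homEquiv X N ψ ≫ (quotHom U M).app N =
      (adjM).homEquiv X N (((ModSite.tensorBi O).obj X).map ((ModSite.quotOnπ O U).app M) ≫ ψ) := by
  rw [Adjunction.homEquiv_unit, Adjunction.homEquiv_unit, assoc, Functor.map_comp]
  refine (congrArg (_ ≫ ·) ((quotHom U M).naturality ψ)).trans ?_
  rw [← assoc]
  refine (congrArg (· ≫ (H).map ψ) (unit_conjugateEquiv (ModSite.sheafHomAdj ((ModSite.quotOn O U).obj M)) adjM
    ((ModSite.tensorBi O).flip.map ((ModSite.quotOnπ O U).app M)) X)).trans ?_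
  exact assoc _ _ _

instance mono_quotHom (N : ModSite.Mod O) : Mono ((quotHom U M).app N) := by
  refine ⟨fun {X} a b hab => ?_⟩
  obtain ⟨a, rfl⟩ := ((ModSite.sheafHomAdj ((ModSite.quotOn O U).obj M)).homEquiv X N).surjective a
  obtain ⟨b, rfl⟩ := ((ModSite.sheafHomAdj ((ModSite.quotOn O U).obj M)).homEquiv X N).surjective b
  rw [homEquiv_quotHom, homEquiv_quotHom] at hab
  haveI : Epi (((ModSite.tensorBi O).obj X).map ((ModSite.quotOnπ O U).app M)) :=
    haveI := KFlat.preservesFiniteColimits_left O X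
    Functor.map_epi _ _
  exact congrArg _ ((cancel_epi _).1 ((adjM).homEquiv X N |>.injective hab))

lemma restr_quotHom (N : ModSite.Mod O) : (ModSite.restr O U).map ((quotHom U M).app N) = 0 := by
  have h : (quotHom U M).app N = (adjM).homEquiv _ _
      (((ModSite.tensorBi O).obj (((ModSite.sheafHom ((ModSite.quotOn O U).obj M))).obj N)).map ((ModSite.quotOnπ O U).app M) ≫ (ModSite.sheafHomAdj ((ModSite.quotOn O U).obj M)).counit.app N) := by
    rw [← homEquiv_quotHom, Adjunction.homEquiv_unit, Adjunction.right_triangle_components, id_comp]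
    rfl
  rw [h, restr_transpose_iff U M, Functor.map_comp]
  exact (congrArg (_ ≫ ·) ((isZero_restr_tensor_quot U M
    ((ModSite.sheafHom ((ModSite.quotOn O U).obj M)).obj N)).eq_of_src _ 0)).trans comp_zero

/-- `Γ_Z ℋom(M, -) ≅ ℋom(M_Z, -)` -/
theorem nonempty_sectHomQuotIso : Nonempty (H ⋙ Γ ≅ (ModSite.sheafHom ((ModSite.quotOn O U).obj M))) := by
  have key : ∀ N, ∃ a : (Γ).obj ((H).obj N) ⟶ ((ModSite.sheafHom ((ModSite.quotOn O U).obj M))).obj N, a ≫ (quotHom U M).app N = (ι).app ((H).obj N) := by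
    intro N
    obtain ⟨ψ, hψ⟩ := exists_desc_tensor_quot U M (X := (Γ).obj ((H).obj N)) (N := N) _ (restr_symm_ι U M N)
    refine ⟨(ModSite.sheafHomAdj ((ModSite.quotOn O U).obj M)).homEquiv _ _ ψ, (homEquiv_quotHom U M ψ).trans ?_⟩
    exact (congrArg _ hψ).trans (Equiv.apply_symm_apply _ _)
  choose a ha using key
  refine ⟨NatIso.ofComponents (fun N =>
    { hom := a N
      inv := sectLift _ (restr_quotHom U M N)
      hom_inv_id := by rw [← cancel_mono ((ι).app ((H).obj N)), assoc, sectLift_ι, ha]; exact (id_comp _).symm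
      inv_hom_id := by rw [← cancel_mono ((quotHom U M).app N), assoc, ha, sectLift_ι, id_comp] })
    fun {N N'} g => ?_⟩
  show (Γ).map ((H).map g) ≫ a N' = a N ≫ ((ModSite.sheafHom ((ModSite.quotOn O U).obj M))).map g
  rw [← cancel_mono ((quotHom U M).app N'), assoc, ha, assoc, (quotHom U M).naturality g, ← assoc, ha]
  exact (ι).naturality ((H).map g)

end Quot

end Groth.Agent.GrothSS
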