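import Groth.Agent.GrothSS.SectSections
import Groth.Agent.SiteCoh.TotAcyclicPush
import Groth.Agent.W7TotAcyc.Modules
import Groth.Agent.CmpSite.Shift

/-!
Totally acyclic modules have no higher cohomology with supports.
-/

set_option autoImplicit false
set_option linter.style.haveILetI false
set_option linter.unusedSectionVars false
set_option backward.isDefEq.respectTransparency false
set_option backward.isDefEq.respectTransparency.types false
set_option maxHeartbeats 1000000

universe u

open CategoryTheory Category Limits Opposite Abelian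

namespace Groth.Agent.GrothSS

variable {C : Type u} [SmallCategory C] {J : GrothendieckTopology C}

section Ab

variable (U : C)

/-- the subterminal presheaf of objects over `U` -/
def overPre : Cᵒᵖ ⥤ Type u where
  obj V := ULift.{u} (PLift (Nonempty (V.unop ⟶ U)))
  map {V W} g := ↾fun h => ⟨⟨h.down.down.map fun a => g.unop ≫ a⟩⟩

lemma subsingleton_ext_quot_image {F : Sheaf J AddCommGrpCat.{u}} (hF : CohCx.IsTotallyAcyclic F)
    {K L : Sheaf J (Type u)} (ι : K ⟶ L) [Mono ι] (p : ℕ) :
    Subsingleton (Ext (cokernel ((SiteCoh.FR J).map ι)) F (p + 1)) := by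
  let S : ShortComplex (Sheaf J AddCommGrpCat.{u}) :=
    ShortComplex.mk ((SiteCoh.FR J).map ι) (cokernel.π _) (cokernel.condition _)
  have hS : S.ShortExact :=
    { exact := ShortComplex.exact_of_g_is_cokernel _ (cokernelIsCokernel _) }
  refine ⟨fun x y => sub_eq_zero.1 ?_⟩
  generalize x - y = z
  have hz : (Ext.mk₀ S.g).comp z (zero_add _) = 0 :=
    @Subsingleton.elim _ (hF L p : Subsingleton (Ext S.X₂ F (p + 1))) _ _
  obtain ⟨w, hw⟩ := Ext.contravariant_sequence_exact₃ hS F z hz (n₀ := p) (by omega)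
  rw [← hw]
  cases p with
  | zero =>
    obtain ⟨w, rfl⟩ := (Ext.mk₀_bijective _ _).2 w
    obtain ⟨t, ht⟩ := SiteCoh.hk0_surjective hF ι w
    rw [← ht]
    change hS.extClass.comp (Ext.mk₀ (S.f ≫ t)) _ = 0
    rw [← Ext.mk₀_comp_mk₀, ← Ext.comp_assoc (a₁₂ := 1) hS.extClass _ _ (by omega) (by omega) (by omega),
      ShortComplex.ShortExact.extClass_comp, Ext.zero_comp]
  | succ p => rw [@Subsingleton.elim _ (hF K p : Subsingleton (Ext S.X₁ F (p + 1))) w 0, Ext.comp_zero]

/-- cohomology with supports of a totally acyclic abelian sheaf vanishes -/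
theorem subsingleton_HZ_of_totallyAcyclic {F : Sheaf J AddCommGrpCat.{u}} (hF : CohCx.IsTotallyAcyclic F)
    (K : Sheaf J (Type u)) (p : ℕ) : Subsingleton (Ext (ToposFin.quotZ K) F (p + 1)) := by
  let t := terminal.from K
  haveI : Epi (factorThruImage t) := inferInstance
  haveI : (SiteCoh.FR J).PreservesEpimorphisms :=
    ⟨fun {A B} g hg => ⟨fun {G} a b hab => by
      apply (SiteCoh.frHom B G).injective
      rw [← cancel_epi g, ← SiteCoh.frHom_natK, hab, SiteCoh.frHom_natK]⟩⟩
  let e : ToposFin.quotZ K ≅ cokernel ((SiteCoh.FR J).map (image.ι t)) :=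
    cokernelIsoOfEq (by rw [← Functor.map_comp, Limits.image.fac]) ≪≫
      cokernelEpiComp ((SiteCoh.FR J).map (factorThruImage t)) ((SiteCoh.FR J).map (image.ι t))
  haveI := subsingleton_ext_quot_image hF (image.ι t) p
  exact (((((extFunctor (p + 1)).mapIso e.op).app F).addCommGroupIsoToAddEquiv).toEquiv.subsingleton_congr).mp
    (subsingleton_ext_quot_image hF (image.ι t) p)

end Ab

variable (O : Sheaf J CommRingCat.{u}) (U : C) [ModSite.HasPushOver O U]

/-- `quotOn ⊣ sectOn` -/
noncomputable def quotSectAdj : ModSite.quotOn O U ⊣ ModSite.sectOn O U :=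
  Adjunction.mkOfHomEquiv
    { homEquiv := fun X Y => (quotSectEquiv X Y).toEquiv.symm
      homEquiv_naturality_left_symm := fun {X X' Y} f g => by
        change quotSectEquiv X Y (f ≫ g) = (ModSite.quotOn O U).map f ≫ quotSectEquiv X' Y g
        rw [← cancel_epi ((ModSite.quotOnπ O U).app X), π_quotSectEquiv, assoc]
        refine Eq.trans ?_ (assoc _ _ _)
        refine Eq.trans ?_ (congrArg (· ≫ quotSectEquiv X' Y g) ((ModSite.quotOnπ O U).naturality f))
        exact ((congrArg (f ≫ ·) (π_quotSectEquiv g).symm).trans (assoc _ _ _).symm)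
      homEquiv_naturality_right := fun {X Y Y'} f g => by
        apply (quotSectEquiv X Y').injective
        change quotSectEquiv X Y' ((quotSectEquiv X Y').symm (f ≫ g)) = _
        rw [AddEquiv.apply_symm_apply, quotSectEquiv_comp]
        exact congrArg (· ≫ g) ((quotSectEquiv X Y).apply_symm_apply f).symm }

instance preservesFiniteLimits_sectOn : PreservesFiniteLimits (ModSite.sectOn O U) :=
  haveI : PreservesLimitsOfSize.{0, 0} (ModSite.sectOn O U) := (quotSectAdj O U).rightAdjoint_preservesLimits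
  inferInstance

section Step

variable {O} {S : ShortComplex (ModSite.Mod O)} (hS : S.ShortExact) (hM : CohCx.IsTotallyAcyclic (ModSite.toAb S.X₁))

include hS in
lemma shortExact_toAb : (S.map (SheafOfModules.toSheaf (ModSite.ringSh O))).ShortExact := by
  haveI : PreservesFiniteColimits (SheafOfModules.toSheaf (ModSite.ringSh O)) :=
    CohQC.toSheaf_preservesFiniteColimits _
  exact hS.map_of_exact _

include hS hM in
/-- sections over an object with support lift -/
lemma exists_lift_supp (V : C) (q : ModSite.sect S.X₃ V)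
    (hq : ∀ ⦃W : C⦄ (a : W ⟶ V) (_ : W ⟶ U), (S.X₃.val.map a.op).hom q = 0) :
    ∃ i : ModSite.sect S.X₂ V, S.g.val.app (op V) i = q ∧
      ∀ ⦃W : C⦄ (a : W ⟶ V) (_ : W ⟶ U), (S.X₂.val.map a.op).hom i = 0 := by
  haveI := hS.mono_f
  haveI : Subsingleton (CohSite.HU (S.map (SheafOfModules.toSheaf (ModSite.ringSh O))).X₁ 1 V) :=
    SiteCoh.hu_of_totallyAcyclic hM V 0
  obtain ⟨i₀, hi₀⟩ := SiteCoh.sections_surjective (shortExact_toAb hS) V q
  replace hi₀ : S.g.val.app (op V) i₀ = q := hi₀
  haveI : Mono S.f.val := (SheafOfModules.forget (ModSite.ringSh O)).map_mono S.f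
  have hinj : ∀ W, Function.Injective (S.f.val.app (op W)) := fun W =>
    PresheafOfModules.injective_of_mono S.f.val (op W)
  have hker : ∀ W n, S.g.val.app (op W) n = 0 → ∃ m, S.f.val.app (op W) m = n := fun W => by
    haveI : (SheafOfModules.evaluation.{u} (ModSite.ringSh O) (op W)).Additive := {}
    exact (ShortComplex.moduleCat_exact_iff _).1 (hS.exact.map_of_mono_of_preservesKernel
      (SheafOfModules.evaluation.{u} (ModSite.ringSh O) (op W)) hS.mono_f inferInstance)
  let sv : Sieve V :=
    { arrows := fun W _ => Nonempty (W ⟶ U)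
      downward_closed := fun {W W'} a ⟨b⟩ g => ⟨g ≫ b⟩ }
  have hloc : ∀ {W : C} (a : W ⟶ V), sv a → ∃ m, S.f.val.app (op W) m = (S.X₂.val.map a.op).hom i₀ := fun {W} a ha => by
    obtain ⟨b⟩ := ha
    refine hker W _ ((PresheafOfModules.naturality_apply S.g.val a.op i₀).trans ?_)
    rw [hi₀]
    exact hq a b
  choose μ hμ using @hloc
  let γ₀ : sv.functor ⟶ ((SiteCoh.uSet J).obj (ModSite.toAb S.X₁)).obj :=
    { app := fun W => ↾fun a => μ a.1 a.2
      naturality := fun {W W'} g => by
        ext a
        change μ (g.unop ≫ a.1) _ = (S.X₁.val.map g).hom (μ a.1 a.2)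
        refine hinj W'.unop ?_
        rw [hμ]
        refine Eq.trans ?_ (PresheafOfModules.naturality_apply S.f.val g (μ a.1 a.2)).symm
        rw [hμ]
        exact PresheafOfModules.map_comp_apply S.X₂.val a.1.op g i₀ }
  let L := presheafToSheaf J (Type u)
  let ι := L.map sv.functorInclusion
  let γ : L.obj sv.functor ⟶ (SiteCoh.uSet J).obj (ModSite.toAb S.X₁) :=
    ((sheafificationAdjunction J (Type u)).homEquiv _ _).symm γ₀
  obtain ⟨t, ht⟩ := SiteCoh.hk0_surjective hM ι ((SiteCoh.frHom _ _).symm γ)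
  let τ := SiteCoh.frHom _ _ t
  have hτ : ι ≫ τ = γ := by
    rw [← SiteCoh.frHom_natK, ht, Equiv.apply_symm_apply]
  let φ := (sheafificationAdjunction J (Type u)).homEquiv _ _ τ
  have hφ : sv.functorInclusion ≫ φ = γ₀ := by
    rw [← Adjunction.homEquiv_naturality_left]
    exact (congrArg _ hτ).trans (Equiv.apply_symm_apply _ _)
  let m : ModSite.sect S.X₁ V := φ.app (op V) (𝟙 V)
  refine ⟨(show ModSite.sect S.X₂ V from i₀) - S.f.val.app (op V) m, ?_, fun W a b => ?_⟩
  · refine (map_sub (S.g.val.app (op V)).hom _ _).trans ?_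
    have h0 : S.g.val.app (op V) (S.f.val.app (op V) m) = 0 :=
      ConcreteCategory.congr_hom (congrArg (fun τ : S.X₁ ⟶ S.X₃ => τ.val.app (op V)) S.zero) m
    refine (congrArg₂ (· - ·) hi₀ h0).trans ?_
    exact sub_zero _
  · refine (map_sub (S.X₂.val.map a.op).hom _ _).trans (sub_eq_zero.2 ?_)
    refine Eq.trans ?_ (PresheafOfModules.naturality_apply S.f.val a.op m)
    have h1 : μ a ⟨b⟩ = (S.X₁.val.map a.op).hom m := by
      refine (ConcreteCategory.congr_hom (congrArg (fun η => η.app (op W)) hφ) ⟨a, ⟨b⟩⟩).symm.trans ?_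
      refine Eq.trans ?_ (NatTrans.naturality_apply φ a.op (𝟙 V))
      exact congrArg (φ.app (op W)) (comp_id a).symm
    exact (hμ a ⟨b⟩).symm.trans (congrArg _ h1)

include hS hM in
lemma epi_sectOn_map : Epi ((ModSite.sectOn O U).map S.g) := by
  let p := (ModSite.sectOn O U).map S.g
  have hsurj : ∀ V : C, Function.Surjective (p.val.app (op V)) := fun V y => by
    have hy := (mem_range_sectOnι_iff O U S.X₃ V _).1 ⟨y, rfl⟩
    obtain ⟨i, hi, hi'⟩ := exists_lift_supp U hS hM V _ hy
    obtain ⟨x, hx⟩ := (mem_range_sectOnι_iff O U S.X₂ V i).2 hi'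
    refine ⟨x, ?_⟩
    haveI : Mono ((ModSite.sectOnι O U).app S.X₃).val := (SheafOfModules.forget (ModSite.ringSh O)).map_mono _
    refine PresheafOfModules.injective_of_mono ((ModSite.sectOnι O U).app S.X₃).val (op V) ?_
    refine (congrArg (fun τ : (ModSite.sectOn O U).obj S.X₂ ⟶ S.X₃ => (τ.val.app (op V)).hom x)
      ((ModSite.sectOnι O U).naturality S.g)).trans ?_
    exact (congrArg (S.g.val.app (op V)) hx).trans hi
  haveI : Epi ((SheafOfModules.forget (ModSite.ringSh O)).map p) :=
    PresheafOfModules.epi_of_surjective (fun ⟨V⟩ => hsurj V)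
  exact (SheafOfModules.forget (ModSite.ringSh O)).epi_of_epi_map ‹_›

include hS hM in
lemma totallyAcyclic_X₃ [Injective S.X₂] : CohCx.IsTotallyAcyclic (ModSite.toAb S.X₃) := fun L p => by
  have hS' := shortExact_toAb hS
  refine ⟨fun x y => sub_eq_zero.1 ?_⟩
  generalize x - y = z
  have h1 : z.comp hS'.extClass (show p + 1 + 1 = p + 1 + 1 from rfl) = 0 :=
    @Subsingleton.elim _ (hM L (p + 1)) _ _
  obtain ⟨w, hw⟩ := Ext.covariant_sequence_exact₃ _ hS' z rfl h1
  have hI : CohCx.IsTotallyAcyclic ((SheafOfModules.toSheaf (ModSite.ringSh O)).obj S.X₂) :=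
    W7TotAcyc.isTotallyAcyclic_injective_module _ _
  rw [← hw, @Subsingleton.elim _ (hI L p) w 0, Ext.zero_comp]

end Step

/-- `ℋ^q_Z` of a totally acyclic module vanishes -/
theorem isZero_HZsh_of_totallyAcyclic [HasInjectiveResolutions (ModSite.Mod O)] (q : ℕ) (M : ModSite.Mod O)
    (hM : CohCx.IsTotallyAcyclic (ModSite.toAb M)) : IsZero ((ModSite.HZsh O U (q + 1)).obj M) := by
  haveI : EnoughInjectives (ModSite.Mod O) := ⟨fun X => ⟨_, (injectiveResolution X).injective 0,
    (injectiveResolution X).ι.f 0, inferInstance⟩⟩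
  induction q generalizing M with
  | zero =>
    let S : ShortComplex (ModSite.Mod O) := ShortComplex.mk (Injective.ι M) (cokernel.π _) (cokernel.condition _)
    have hS : S.ShortExact := { exact := ShortComplex.exact_of_g_is_cokernel _ (cokernelIsCokernel _) }
    haveI : Injective S.X₂ := inferInstanceAs (Injective (Injective.under M))
    obtain ⟨e⟩ := CmpSite.rightDerived_one (ModSite.sectOn O U) hS
    haveI := epi_sectOn_map U hS hM
    exact (isZero_cokernel_of_epi _).of_iso e
  | succ q ih =>
    let S : ShortComplex (ModSite.Mod O) := ShortComplex.mk (Injective.ι M) (cokernel.π _) (cokernel.condition _)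
    have hS : S.ShortExact := { exact := ShortComplex.exact_of_g_is_cokernel _ (cokernelIsCokernel _) }
    haveI : Injective S.X₂ := inferInstanceAs (Injective (Injective.under M))
    obtain ⟨e⟩ := CmpSite.rightDerived_shift (ModSite.sectOn O U) hS q
    exact (ih S.X₃ (totallyAcyclic_X₃ hS hM)).of_iso e

end Groth.Agent.GrothSS
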