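import Groth.Agent.GrothSS.HomSupp
import Groth.Agent.ExtShX.SiteRestr

/-!
Sections of `Γ_Z`, and its compatibility with localisation.
-/

set_option autoImplicit false
set_option linter.style.haveILetI false
set_option linter.unusedSectionVars false
set_option backward.isDefEq.respectTransparency false
set_option backward.isDefEq.respectTransparency.types false
set_option maxHeartbeats 1000000

universe u

open CategoryTheory Category Limits Opposite

namespace Groth.Agent.GrothSS

variable {C : Type u} [SmallCategory C] {J : GrothendieckTopology C} (O : Sheaf J CommRingCat.{u}) (U : C)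

/-- sections vanishing over `U` -/
noncomputable def suppSub (M : ModSite.Mod O) (V : Cᵒᵖ) : Submodule ((ModSite.ringSh O).obj.obj V) (M.val.obj V) where
  carrier := {n | ∀ ⦃W : C⦄ (a : W ⟶ V.unop) (_ : W ⟶ U), (M.val.map a.op).hom n = 0}
  zero_mem' := fun W a _ => map_zero (M.val.map a.op).hom
  add_mem' := fun {x y} hx hy W a b => ((M.val.map a.op).hom.map_add x y).trans (by rw [hx a b, hy a b]; exact add_zero _)
  smul_mem' := fun r x hx W a b => (M.val.map_smul a.op r x).trans (by
    exact (congrArg (fun z : M.val.obj (op W) => ((ModSite.ringSh O).obj.map a.op).hom r • z) (hx a b)).trans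
      (smul_zero _))

/-- the presheaf submodule of sections vanishing over `U` -/
noncomputable def suppPre (M : ModSite.Mod O) : PresheafOfModules.{u} (ModSite.ringSh O).obj where
  obj V := ModuleCat.of ((ModSite.ringSh O).obj.obj V)
    (suppSub O U M V)
  map {V V'} g := ModuleCat.ofHom (Y := (ModuleCat.restrictScalars ((ModSite.ringSh O).obj.map g).hom).obj (ModuleCat.of ((ModSite.ringSh O).obj.obj V') (suppSub O U M V')))
    { toFun := fun n => ⟨(M.val.map g).hom n.1, fun W a b => by
        refine ((PresheafOfModules.map_comp_apply M.val g a.op n.1).symm).trans ?_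
        exact n.2 (a ≫ g.unop) b⟩
      map_add' := fun x y => Subtype.ext ((M.val.map g).hom.map_add x.1 y.1)
      map_smul' := fun r x => Subtype.ext ((M.val.map g).hom.map_smul r x.1) }
  map_id V := by
    ext n
    exact Subtype.ext (ConcreteCategory.congr_hom (M.val.map_id V) n.1)
  map_comp {V V' V''} g g' := by
    ext n
    exact Subtype.ext (PresheafOfModules.map_comp_apply M.val g g' n.1)

/-- the inclusion -/
noncomputable def suppIncl (M : ModSite.Mod O) : suppPre O U M ⟶ M.val where
  app V := ModuleCat.ofHom (X := (suppPre O U M).obj V)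
    { toFun := fun n => (show suppSub O U M V from n).1
      map_add' := fun _ _ => rfl
      map_smul' := fun _ _ => rfl }
  naturality {V V'} g := rfl

/-- its transpose -/
noncomputable def suppDesc (M : ModSite.Mod O) : (ModSiteExt.Sh O).obj (suppPre O U M) ⟶ M :=
  ((PresheafOfModules.sheafificationAdjunction.{u} (R := ModSite.ringSh O)
    (𝟙 (ModSite.ringSh O).obj)).homEquiv _ M).symm (suppIncl O U M)

lemma suppDesc_η (M : ModSite.Mod O) (V : C) (z : (suppPre O U M).obj (op V)) :
    ((suppDesc O U M).val.app (op V)).hom ((ModSiteTensor.η O (suppPre O U M)).app (op V) z) =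
      (show M.val.obj (op V) from (show suppSub O U M (op V) from z).1) := by
  have h : ModSiteTensor.η O (suppPre O U M) ≫ (suppDesc O U M).val = suppIncl O U M := by
    have := ((PresheafOfModules.sheafificationAdjunction.{u} (R := ModSite.ringSh O)
      (𝟙 (ModSite.ringSh O).obj)).homEquiv _ M).apply_symm_apply (suppIncl O U M)
    rw [Adjunction.homEquiv_unit] at this
    exact this
  exact congrArg (fun τ : suppPre O U M ⟶ M.val => (τ.app (op V)).hom z) h

lemma restr_suppDesc (M : ModSite.Mod O) : (ModSite.restr O U).map (suppDesc O U M) = 0 := by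
  rw [restr_map_eq_zero_iff]
  intro W w x
  let η := (PresheafOfModules.toPresheaf _).map (ModSiteTensor.η O (suppPre O U M))
  haveI : Presheaf.IsLocallySurjective J η := ModSiteTensor.unit_locallySurjective O _
  refine (Presheaf.IsSheaf.isSeparated (ModSite.toAb M).property) W _ (Presheaf.imageSieve_mem J η (U := op W) x)
    _ 0 fun W' a ha => ?_
  obtain ⟨z, hz⟩ := ha
  refine Eq.trans ?_ (map_zero ((ModSite.toAb M).obj.map a.op).hom).symm
  refine (PresheafOfModules.naturality_apply (suppDesc O U M).val a.op x).symm.trans ?_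
  refine (congrArg ((suppDesc O U M).val.app (op W')).hom hz.symm).trans ?_
  refine (suppDesc_η O U M W' z).trans ?_
  let z' : suppSub O U M (op W') := z
  exact (ConcreteCategory.congr_hom (M.val.map_id (op W')) z'.1).symm.trans (z'.2 (𝟙 W') (a ≫ w))

variable [ModSite.HasPushOver O U]

/-- sections with support are the sections vanishing on all objects over `U` -/
theorem mem_range_sectOnι_iff (M : ModSite.Mod O) (V : C) (n : ModSite.sect M V) :
    (∃ m : ModSite.sect ((ModSite.sectOn O U).obj M) V, ((ModSite.sectOnι O U).app M).val.app (op V) m = n) ↔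
      ∀ ⦃W : C⦄ (a : W ⟶ V) (_ : W ⟶ U), (M.val.map a.op).hom n = 0 := by
  constructor
  · rintro ⟨m, rfl⟩ W a b
    refine (PresheafOfModules.naturality_apply ((ModSite.sectOnι O U).app M).val a.op m).symm.trans ?_
    have h := restr_comp_ι (O := O) (U := U) (𝟙 ((ModSite.sectOn O U).obj M))
    rw [id_comp] at h
    exact (restr_map_eq_zero_iff O U _).1 h b _
  · intro hn
    let z : (suppPre O U M).obj (op V) := (⟨n, hn⟩ : suppSub O U M (op V))
    refine ⟨(sectLift _ (restr_suppDesc O U M)).val.app (op V)
      ((ModSiteTensor.η O (suppPre O U M)).app (op V) z), ?_⟩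
    refine Eq.trans ?_ (suppDesc_η O U M V z)
    exact congrArg (fun τ : (ModSiteExt.Sh O).obj (suppPre O U M) ⟶ M => (τ.val.app (op V)).hom
      ((ModSiteTensor.η O (suppPre O U M)).app (op V) z)) (sectLift_ι _ (restr_suppDesc O U M))

section Localise

variable [HasBinaryProducts C] (X : C) [ModSite.HasPushOver (O.over X) (Over.mk (prod.snd : U ⨯ X ⟶ X))]

local notation "R" => ModSite.restr O X
local notation "U'" => (Over.mk (prod.snd : U ⨯ X ⟶ X) : Over X)

lemma restr_restr_map_ι (M : ModSite.Mod O) :
    (ModSite.restr (O.over X) U').map ((R).map ((ModSite.sectOnι O U).app M)) = 0 := by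
  rw [restr_map_eq_zero_iff]
  intro W w x
  have h := restr_comp_ι (O := O) (U := U) (𝟙 ((ModSite.sectOn O U).obj M))
  rw [id_comp] at h
  exact (restr_map_eq_zero_iff O U _).1 h (w.left ≫ prod.fst) x

/-- `(Γ_Z M)|_X → Γ_{Z/X}(M|_X)` -/
noncomputable def sectRestrTo (M : ModSite.Mod O) :
    (R).obj ((ModSite.sectOn O U).obj M) ⟶ (ModSite.sectOn (O.over X) U').obj ((R).obj M) :=
  sectLift _ (restr_restr_map_ι O U X M)

lemma sectRestrTo_ι (M : ModSite.Mod O) :
    sectRestrTo O U X M ≫ (ModSite.sectOnι (O.over X) U').app ((R).obj M) = (R).map ((ModSite.sectOnι O U).app M) :=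
  sectLift_ι _ _

instance isIso_sectRestrTo (M : ModSite.Mod O) : IsIso (sectRestrTo O U X M) := by
  have hbij : ∀ Y : (Over X)ᵒᵖ, Function.Bijective ((sectRestrTo O U X M).val.app Y).hom := fun Y => by
    obtain ⟨Y⟩ := Y
    have hι : ∀ m, ((ModSite.sectOnι (O.over X) U').app ((R).obj M)).val.app (op Y)
        ((sectRestrTo O U X M).val.app (op Y) m) = ((ModSite.sectOnι O U).app M).val.app (op Y.left) m := fun m =>
      congrArg (fun τ : (R).obj ((ModSite.sectOn O U).obj M) ⟶ (R).obj M => (τ.val.app (op Y)).hom m)
        (sectRestrTo_ι O U X M)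
    have hinj : Function.Injective (((ModSite.sectOnι (O.over X) U').app ((R).obj M)).val.app (op Y)) := by
      haveI : Mono ((ModSite.sectOnι (O.over X) U').app ((R).obj M)).val :=
        (SheafOfModules.forget (ModSite.ringSh (O.over X))).map_mono _
      exact PresheafOfModules.injective_of_mono _ (op Y)
    refine ⟨fun a b h => ?_, fun y => ?_⟩
    · haveI : Mono ((ModSite.sectOnι O U).app M).val := (SheafOfModules.forget (ModSite.ringSh O)).map_mono _
      refine PresheafOfModules.injective_of_mono ((ModSite.sectOnι O U).app M).val (op Y.left) ?_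
      exact (hι a).symm.trans ((congrArg _ h).trans (hι b))
    · obtain ⟨m, hm⟩ := (mem_range_sectOnι_iff O U M Y.left
          (((ModSite.sectOnι (O.over X) U').app ((R).obj M)).val.app (op Y) y)).2 fun W a b => by
        let Wo : Over X := Over.mk (a ≫ Y.hom)
        let g : Wo ⟶ Y := Over.homMk a rfl
        let l : Wo ⟶ U' := Over.homMk (prod.lift b (a ≫ Y.hom)) (prod.lift_snd _ _)
        exact ((mem_range_sectOnι_iff (O.over X) U' ((R).obj M) Y _).1 ⟨y, rfl⟩) g l
      exact ⟨m, hinj ((hι m).trans hm)⟩
  haveI : IsIso ((SheafOfModules.forget (ModSite.ringSh (O.over X))).map (sectRestrTo O U X M)) := by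
    haveI : ∀ Y, IsIso ((sectRestrTo O U X M).val.app Y) := fun Y => (ConcreteCategory.isIso_iff_bijective _).2 (hbij Y)
    exact (PresheafOfModules.isoMk (fun Y => asIso ((sectRestrTo O U X M).val.app Y))
      fun {Y Y'} g => (sectRestrTo O U X M).val.naturality g).isIso_hom
  exact isIso_of_fully_faithful (SheafOfModules.forget (ModSite.ringSh (O.over X))) _

/-- `Γ_Z` commutes with localisation -/
noncomputable def sectRestrIso : ModSite.sectOn O U ⋙ R ≅ R ⋙ ModSite.sectOn (O.over X) U' :=
  NatIso.ofComponents (fun M => asIso (sectRestrTo O U X M)) fun {M N} g => by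
    show (R).map ((ModSite.sectOn O U).map g) ≫ sectRestrTo O U X N =
      sectRestrTo O U X M ≫ (ModSite.sectOn (O.over X) U').map ((R).map g)
    have e : (ModSite.sectOn (O.over X) U').map ((R).map g) ≫ (ModSite.sectOnι (O.over X) U').app ((R).obj N) =
        (ModSite.sectOnι (O.over X) U').app ((R).obj M) ≫ (R).map g := (ModSite.sectOnι (O.over X) U').naturality _
    rw [← cancel_mono ((ModSite.sectOnι (O.over X) U').app ((R).obj N)), assoc, sectRestrTo_ι, assoc, e, ← assoc,
      sectRestrTo_ι, ← Functor.map_comp, ← Functor.map_comp]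
    exact congrArg _ ((ModSite.sectOnι O U).naturality g)

/-- `ℋ^q_Z` commutes with localisation -/
theorem nonempty_HZsh_restr [HasInjectiveResolutions (ModSite.Mod O)]
    [HasInjectiveResolutions (ModSite.Mod (O.over X))] (q : ℕ) :
    Nonempty (ModSite.HZsh O U q ⋙ R ≅ R ⋙ ModSite.HZsh (O.over X) U' q) := by
  haveI : PreservesColimitsOfSize.{u, u} (R) :=
    ModSiteFlat.preservesColimits_pushforward (F := Over.forget X) _
  haveI : PreservesColimitsOfSize.{0, 0} (R) := preservesSmallestColimits_of_preservesColimits _
  haveI : PreservesLimitsOfSize.{0, 0} (R) := (ModSite.extZeroAdj O X).rightAdjoint_preservesLimits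
  haveI := preservesBinaryBiproducts_of_preservesBinaryProducts (R)
  haveI : (R).Additive := Functor.additive_of_preservesBinaryBiproducts _
  haveI : (R).PreservesHomology := Functor.preservesHomologyOfExact _
  haveI := ModSiteExt.preservesFiniteLimits_extZero O X
  haveI : (R).PreservesInjectiveObjects :=
    ⟨fun {I} hI => @Injective.injective_of_adjoint _ _ _ _ _ _ inferInstance (ModSite.extZeroAdj O X) I hI⟩
  exact ⟨(ExtShX.postCompIso (ModSite.sectOn O U) (R) q).symm ≪≫
    GrothSS.rightDerivedMapIso (sectRestrIso O U X) q ≪≫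
    DerExt.rightDerivedCompIso (R) (ModSite.sectOn (O.over X) U') q⟩

end Localise

end Groth.Agent.GrothSS
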