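import Groth.Prelude.Def_SpSeq
import Mathlib.Algebra.Homology.SpectralObject.SpectralSequence
import Mathlib.Algebra.Homology.SpectralObject.FirstPage
import Mathlib.CategoryTheory.Abelian.Refinements
import Mathlib.Data.Int.Interval

/-!
# The spectral sequence of a first quadrant spectral object, with its abutment

For a spectral object `X` indexed by `EInt` which is first quadrant, the cohomological `E₂`
spectral sequence is bounded and abuts to `H^n(⊥ ≤ ⊤)` with finite filtrations.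
-/

set_option autoImplicit false
set_option linter.style.haveILetI false
set_option linter.unusedSectionVars false
set_option backward.isDefEq.respectTransparency false
set_option backward.isDefEq.respectTransparency.types false

universe v u

open CategoryTheory Category Limits ComposableArrows

namespace Groth.Agent.GrothSS

variable {C : Type u} [Category.{v} C] [Abelian C]
  (X : Abelian.SpectralObject C EInt)

/-- The group `H^n(i ≤ j)`. -/
noncomputable abbrev Hij (n : ℤ) (i j : EInt) (h : i ≤ j) : C := (X.H n).obj (mk₁ (homOfLE h))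

/-- The index `n - p + 1` of the `p`th step of the filtration. -/
abbrev stepIx (n p : ℤ) : EInt := ((n - p + 1 : ℤ) : EInt)

section Filtration

variable {H : ℤ → C} (e : ∀ n, Hij X n ⊥ ⊤ bot_le ≅ H n)

/-- The map `H^n(⊥ ≤ i) ⟶ H n`. -/
noncomputable def toAbut (n : ℤ) (i : EInt) : Hij X n ⊥ i bot_le ⟶ H n :=
  (X.H n).map (twoδ₂Toδ₁ (homOfLE bot_le) (homOfLE le_top) (homOfLE bot_le) (Subsingleton.elim _ _))
    ≫ (e n).hom

theorem map_toAbut (n : ℤ) {i i' : EInt} (h : i ≤ i') :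
    (X.H n).map (twoδ₂Toδ₁ (homOfLE bot_le) (homOfLE h) (homOfLE bot_le) (Subsingleton.elim _ _))
      ≫ toAbut X e n i' = toAbut X e n i := by
  rw [toAbut, toAbut, ← Category.assoc, ← Functor.map_comp]
  congr 2

/-- The filtration on the abutment. -/
noncomputable def fil (n p : ℤ) : Subobject (H n) := imageSubobject (toAbut X e n (stepIx n p))

theorem stepIx_le {n p q : ℤ} (h : p ≤ q) : stepIx n q ≤ stepIx n p := by
  simp only [stepIx, WithBotTop.coe_le_coe]
  omega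

theorem fil_anti (n : ℤ) : Antitone (fil X e n) := fun p q h => by
  exact (congrArg (fun g => imageSubobject g) (map_toAbut X e n (stepIx_le h))).symm.trans_le
    (imageSubobject_comp_le _ _)

variable [X.IsFirstQuadrant]

theorem fil_bot (n p : ℤ) (hp : n + 1 ≤ p) : fil X e n p = ⊥ := by
  have h : IsZero (Hij X n ⊥ (stepIx n p) bot_le) :=
    X.isZero₁_of_isFirstQuadrant _ _ _ (by simp only [stepIx, WithBotTop.coe_le_coe]; omega) _
  exact (congrArg (fun g => imageSubobject g) (h.eq_of_src (toAbut X e n (stepIx n p)) 0)).trans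
    imageSubobject_zero

theorem fil_top (n : ℤ) : fil X e n 0 = ⊤ := by
  have h : ∀ k, k ≤ n → IsZero (Hij X k (stepIx n 0) ⊤ le_top) := fun k hk =>
    X.isZero₂_of_isFirstQuadrant _ _ _ _ (by simp only [stepIx, WithBotTop.coe_lt_coe]; omega)
  let f : (⊥ : EInt) ⟶ stepIx n 0 := homOfLE bot_le
  let g : stepIx n 0 ⟶ (⊤ : EInt) := homOfLE le_top
  let fg : (⊥ : EInt) ⟶ ⊤ := homOfLE bot_le
  have w : f ≫ g = fg := Subsingleton.elim _ _
  haveI : Epi ((X.H n).map (twoδ₂Toδ₁ f g fg w)) :=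
    (X.exact₂ f g fg w n).epi_f ((h n le_rfl).eq_of_tgt _ _)
  haveI : Mono ((X.H n).map (twoδ₂Toδ₁ f g fg w)) :=
    (X.exact₁ f g fg w (n - 1) n (by omega)).mono_g ((h (n - 1) (by omega)).eq_of_src _ _)
  haveI : IsIso ((X.H n).map (twoδ₂Toδ₁ f g fg w)) := isIso_of_mono_of_epi _
  haveI : IsIso (toAbut X e n (stepIx n 0)) :=
    inferInstanceAs (IsIso ((X.H n).map (twoδ₂Toδ₁ f g fg w) ≫ (e n).hom))
  haveI : IsIso (fil X e n 0).arrow := isIso_of_epi_of_mono' (toAbut X e n (stepIx n 0))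
  exact Subobject.eq_top_of_isIso_arrow _
where
  isIso_of_epi_of_mono' {A B : C} (f : A ⟶ B) [IsIso f] : IsIso (imageSubobject f).arrow := by
    haveI : Epi (imageSubobject f).arrow :=
      epi_of_epi_fac (imageSubobject_arrow_comp f)
    exact isIso_of_mono_of_epi _

/-- The map `H^n(⊥ ≤ q+1) ⟶ gr^p`. -/
noncomputable def toGr (n p : ℤ) :
    Hij X n ⊥ (stepIx n p) bot_le ⟶ SpSeq.grPiece (fil X e n) (fil_anti X e n) p :=
  factorThruImageSubobject (toAbut X e n (stepIx n p)) ≫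
    cokernel.π ((fil X e n (p + 1)).ofLE (fil X e n p) (fil_anti X e n (Int.le_add_one le_rfl)))

instance epi_toGr (n p : ℤ) : Epi (toGr X e n p) := by
  unfold toGr
  exact epi_comp _ _

/-- `E^n(⊥ ≤ q ≤ q + 1 ≤ ⊤)` is the graded piece of the filtration. -/
theorem nonempty_gr_iso (n p : ℤ) (n₀ n₂ : ℤ) (hn₁ : n₀ + 1 = n) (hn₂ : n + 1 = n₂) :
    Nonempty (X.E (homOfLE (bot_le : (⊥ : EInt) ≤ stepIx n (p + 1)))
      (homOfLE (stepIx_le (Int.le_add_one le_rfl) : stepIx n (p + 1) ≤ stepIx n p))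
      (homOfLE (le_top : stepIx n p ≤ (⊤ : EInt))) n₀ n n₂ hn₁ hn₂ ≅
        SpSeq.grPiece (fil X e n) (fil_anti X e n) p) := by
  set i₁ := stepIx n (p + 1)
  set i₂ := stepIx n p
  have h₁₂ : i₁ ≤ i₂ := stepIx_le (Int.le_add_one le_rfl)
  let f₁ : (⊥ : EInt) ⟶ i₁ := homOfLE bot_le
  let f₂ : i₁ ⟶ i₂ := homOfLE h₁₂
  let f₃ : i₂ ⟶ (⊤ : EInt) := homOfLE le_top
  let f₁₂ : (⊥ : EInt) ⟶ i₂ := homOfLE bot_le
  let ftot : (⊥ : EInt) ⟶ ⊤ := homOfLE bot_le
  have w₁₂ : f₁ ≫ f₂ = f₁₂ := Subsingleton.elim _ _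
  have wtot : f₁₂ ≫ f₃ = ftot := Subsingleton.elim _ _
  let t := (X.H n).map (twoδ₂Toδ₁ f₁ f₂ f₁₂ w₁₂)
  let a' := toAbut X e n i₂
  let ι := (fil X e n (p + 1)).ofLE (fil X e n p) (fil_anti X e n (Int.le_add_one le_rfl))
  have ht : t ≫ a' = toAbut X e n i₁ := map_toAbut X e n h₁₂
  have hδ : X.δ f₁₂ f₃ n₀ n hn₁ ≫ a' = 0 := by
    show X.δ f₁₂ f₃ n₀ n hn₁ ≫ (X.H n).map (twoδ₂Toδ₁ f₁₂ f₃ ftot wtot) ≫ (e n).hom = 0
    rw [X.zero₁_assoc f₁₂ f₃ ftot wtot n₀ n hn₁, zero_comp]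
  have htι : t ≫ factorThruImageSubobject a' = factorThruImageSubobject (toAbut X e n i₁) ≫ ι := by
    rw [← cancel_mono (fil X e n p).arrow, Category.assoc, Category.assoc, Subobject.ofLE_arrow]
    erw [imageSubobject_arrow_comp, imageSubobject_arrow_comp]
    exact ht
  have h0 : X.δ f₁₂ f₃ n₀ n hn₁ ≫ factorThruImageSubobject a' = 0 := by
    rw [← cancel_mono (imageSubobject a').arrow, Category.assoc, imageSubobject_arrow_comp, zero_comp, hδ]
  let S : ShortComplex C := ShortComplex.mk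
    (biprod.desc t (X.δ f₁₂ f₃ n₀ n hn₁)) (toGr X e n p) (by
      apply biprod.hom_ext'
      · rw [biprod.inl_desc_assoc, comp_zero]
        show t ≫ factorThruImageSubobject a' ≫ cokernel.π ι = 0
        rw [← Category.assoc, htι, Category.assoc, cokernel.condition, comp_zero]
      · rw [biprod.inr_desc_assoc, comp_zero]
        show X.δ f₁₂ f₃ n₀ n hn₁ ≫ factorThruImageSubobject a' ≫ cokernel.π ι = 0
        rw [← Category.assoc, h0, zero_comp])
  have hS : S.Exact := by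
    rw [ShortComplex.exact_iff_exact_up_to_refinements]
    intro A x hx
    change A ⟶ Hij X n ⊥ i₂ bot_le at x
    change x ≫ factorThruImageSubobject a' ≫ cokernel.π ι = 0 at hx
    have hι : (ShortComplex.mk ι (cokernel.π ι) (cokernel.condition _)).Exact :=
      ShortComplex.exact_of_g_is_cokernel _ (cokernelIsCokernel _)
    obtain ⟨A₁, π₁, _, y, hy⟩ := hι.exact_up_to_refinements
      (x ≫ factorThruImageSubobject a') (by rw [Category.assoc]; exact hx)
    obtain ⟨A₂, π₂, _, z, hz⟩ :=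
      surjective_up_to_refinements_of_epi (factorThruImageSubobject (toAbut X e n i₁)) y
    have h' : (π₂ ≫ π₁ ≫ x - z ≫ t) ≫ a' = 0 := by
      rw [Preadditive.sub_comp, sub_eq_zero, Category.assoc, Category.assoc, Category.assoc, ht]
      have h1 := congrArg (fun k => π₂ ≫ k ≫ (fil X e n p).arrow) hy
      have h2 := congrArg (fun k => k ≫ (fil X e n (p + 1)).arrow) hz
      simp only [Category.assoc] at h1 h2
      erw [imageSubobject_arrow_comp, Subobject.ofLE_arrow] at h1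
      erw [imageSubobject_arrow_comp] at h2
      exact h1.trans h2
    obtain ⟨A₃, π₃, _, w, hw⟩ := (X.exact₁ f₁₂ f₃ ftot wtot n₀ n hn₁).exact_up_to_refinements
      (π₂ ≫ π₁ ≫ x - z ≫ t) (by
        change (π₂ ≫ π₁ ≫ x - z ≫ t) ≫ (X.H n).map (twoδ₂Toδ₁ f₁₂ f₃ ftot wtot) = 0
        rw [← cancel_mono (e n).hom, Category.assoc, zero_comp]
        exact h')
    refine ⟨A₃, π₃ ≫ π₂ ≫ π₁, inferInstance, biprod.lift (π₃ ≫ z) w, ?_⟩
    change (π₃ ≫ π₂ ≫ π₁) ≫ x = biprod.lift (π₃ ≫ z) w ≫ biprod.desc t (X.δ f₁₂ f₃ n₀ n hn₁)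
    rw [biprod.lift_desc, Category.assoc, Category.assoc, Category.assoc]
    change π₃ ≫ (π₂ ≫ π₁ ≫ x - z ≫ t) = w ≫ X.δ f₁₂ f₃ n₀ n hn₁ at hw
    rw [Preadditive.comp_sub, sub_eq_iff_eq_add] at hw
    rw [hw, add_comm]
  haveI : Epi S.g := inferInstanceAs (Epi (toGr X e n p))
  exact ⟨(X.cokernelSequenceE_exact f₁ f₂ f₃ f₁₂ w₁₂ n₀ n n₂ hn₁ hn₂).gIsCokernel.coconePointUniqueUpToIso
    hS.gIsCokernel⟩

end Filtration

section Main

variable [X.IsFirstQuadrant]

/-- The cohomological spectral sequence. -/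
noncomputable abbrev ss : E₂CohomologicalSpectralSequence C :=
  X.spectralSequence Abelian.SpectralObject.coreE₂Cohomological

/-- The page from which a position is stationary. -/
def rk (pq : ℤ × ℤ) : ℤ := max 2 (max (pq.1 + 1) (pq.2 + 2))

theorem isZero_page (r : ℤ) (hr : 2 ≤ r) (pq : ℤ × ℤ) (h : pq.1 < 0 ∨ pq.2 < 0) :
    IsZero (((ss X).page r hr).X pq) := by
  refine X.isZero_spectralSequence_page_X_of_isZero_H _ r hr pq (pq.1 + pq.2) rfl
    (pq.2 : EInt) ((pq.2 + 1 : ℤ) : EInt) rfl rfl ?_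
  rcases h with h | h
  · exact X.isZero₂_of_isFirstQuadrant _ _ _ _ (by simp only [WithBotTop.coe_lt_coe]; omega)
  · exact X.isZero₁_of_isFirstQuadrant _ _ _ (by simp only [WithBotTop.coe_le_coe]; omega) _

theorem stationaryAt (pq : ℤ × ℤ) : SpSeq.StationaryAt (ss X) pq (rk pq) := by
  refine ⟨le_max_left _ _, fun r hr hrk => ?_⟩
  have h1 : pq.1 < r := by unfold rk at hrk; omega
  have h2 : pq.2 + 2 ≤ r := by unfold rk at hrk; omega
  constructor
  · exact (isZero_page X r hr _ (Or.inl (by simp only [Prod.fst_sub]; omega))).eq_of_src _ _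
  · exact (isZero_page X r hr _ (Or.inr (by simp only [Prod.snd_add]; omega))).eq_of_tgt _ _

theorem nonempty_limit_iso {H : ℤ → C} (e : ∀ n, Hij X n ⊥ ⊤ bot_le ≅ H n) (pq : ℤ × ℤ) :
    Nonempty (((ss X).page (rk pq) (stationaryAt X pq).1).X pq ≅
      SpSeq.grPiece (fil X e (pq.1 + pq.2)) (fil_anti X e _) pq.1) := by
  obtain ⟨p, q⟩ := pq
  set r := rk (p, q) with hrdef
  have hr : (2 : ℤ) ≤ r := le_max_left _ _
  have h1 : p < r := by simp only [hrdef, rk]; omega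
  have h2 : q + 2 ≤ r := by simp only [hrdef, rk]; omega
  let j₀ : EInt := ((q - r + 2 : ℤ) : EInt)
  let j₁ : EInt := stepIx (p + q) (p + 1)
  let j₂ : EInt := stepIx (p + q) p
  let j₃ : EInt := ((q + r - 1 : ℤ) : EInt)
  have e₁ : j₁ = ((q : ℤ) : EInt) := congrArg WithBotTop.coe (by omega)
  have e₂ : j₂ = ((q + 1 : ℤ) : EInt) := congrArg WithBotTop.coe (by omega)
  let i := X.spectralSequencePageXIso Abelian.SpectralObject.coreE₂Cohomological r hr (p, q)
    j₀ j₁ j₂ j₃ rfl e₁ e₂ rfl (p + q - 1) (p + q) (p + q + 1) rfl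
  have l₀₁ : j₀ ≤ j₁ := by rw [e₁]; simp only [j₀, WithBotTop.coe_le_coe]; omega
  have l₁₂ : j₁ ≤ j₂ := stepIx_le (Int.le_add_one le_rfl)
  have l₂₃ : j₂ ≤ j₃ := by rw [e₂]; simp only [j₃, WithBotTop.coe_le_coe]; omega
  have z₀ : IsZero (Hij X (p + q + 1) ⊥ j₀ bot_le) :=
    X.isZero₁_of_isFirstQuadrant _ _ _ (by simp only [j₀, WithBotTop.coe_le_coe]; omega) _
  have z₃ : IsZero (Hij X (p + q - 1) j₃ ⊤ le_top) :=
    X.isZero₂_of_isFirstQuadrant _ _ _ _ (by simp only [j₃, WithBotTop.coe_lt_coe]; omega)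
  let α := X.isoMapFourδ₁Toδ₀' ⊥ j₀ j₁ j₂ j₃ bot_le l₀₁ l₁₂ l₂₃
    (p + q - 1) (p + q) (p + q + 1) z₀
  let β := X.isoMapFourδ₄Toδ₃' ⊥ j₁ j₂ j₃ ⊤ bot_le l₁₂ l₂₃ le_top
    (p + q - 1) (p + q) (p + q + 1) z₃
  exact ⟨i ≪≫ α.symm ≪≫ β ≪≫
    (nonempty_gr_iso X e (p + q) p (p + q - 1) (p + q + 1) (by omega) rfl).some⟩

/-- A first quadrant spectral object gives a bounded `E₂` spectral sequence with finite abutment. -/
theorem exists_spectralSequence {H : ℤ → C} (e : ∀ n, Hij X n ⊥ ⊤ bot_le ≅ H n) (E2 : ℤ → ℤ → C)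
    (e2 : ∀ p q : ℤ, Nonempty (Hij X (p + q) ((q : ℤ) : EInt) ((q + 1 : ℤ) : EInt)
      (by simp only [WithBotTop.coe_le_coe]; omega) ≅ E2 p q)) :
    ∃ (E : E₂CohomologicalSpectralSequence C) (a : SpSeq.Abutment E H),
      (∀ n, a.IsFinite n) ∧ SpSeq.IsBounded E ∧
        ∀ p q : ℤ, Nonempty ((E.page 2 le_rfl).X (p, q) ≅ E2 p q) := by
  refine ⟨ss X, ⟨fil X e, fil_anti X e, rk, stationaryAt X,
    fun pq => (nonempty_limit_iso X e pq).some⟩, fun n => ⟨⟨0, fil_top X e n⟩,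
      ⟨n + 1, fil_bot X e n (n + 1) le_rfl⟩⟩, fun n => ?_, fun p q => ⟨?_⟩⟩
  · refine (Set.finite_Icc (0 : ℤ) n).subset fun p hp => ?_
    by_contra h
    simp only [Set.mem_Icc, not_and_or, not_le] at h
    exact hp (isZero_page X 2 le_rfl (p, n - p) (h.imp id (fun h => by simp only; omega)))
  · exact X.spectralSequenceFirstPageXIso Abelian.SpectralObject.coreE₂Cohomological (p, q)
      _ _ rfl rfl (p + q) rfl ≪≫ (e2 p q).some

end Main

end Groth.Agent.GrothSS
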