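import Groth.Agent.RDerLib.LES

/-!
A left exact functor keeps an exact sequence of acyclic objects exact.
-/

set_option autoImplicit false
set_option linter.style.haveILetI false
set_option linter.unusedSectionVars false
set_option backward.isDefEq.respectTransparency false
set_option backward.isDefEq.respectTransparency.types false

universe v v' u u'

open CategoryTheory Category Limits

namespace Groth.Agent.GrothSS

variable {A : Type u} [Category.{v} A] [Abelian A] [HasInjectiveResolutions A]
  {B : Type u'} [Category.{v'} B] [Abelian B] (F : A ⥤ B) [F.Additive] [PreservesFiniteLimits F]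

theorem exact_map_of_acyclic_resolution (C : ℕ → A) (d : ∀ p, C p ⟶ C (p + 1))
    (hd : ∀ p, d p ≫ d (p + 1) = 0) (X : A) (ε : X ⟶ C 0) (hε : ε ≫ d 0 = 0) (hmono : Mono ε)
    (h0 : (ShortComplex.mk ε (d 0) hε).Exact)
    (hex : ∀ p, (ShortComplex.mk (d p) (d (p + 1)) (hd p)).Exact)
    (hX : ∀ q, IsZero ((F.rightDerived (q + 1)).obj X))
    (hC : ∀ p q, IsZero ((F.rightDerived (q + 1)).obj (C p))) :
    (ShortComplex.mk (F.map ε) (F.map (d 0)) (by rw [← F.map_comp, hε, F.map_zero])).Exact ∧
      ∀ p, (ShortComplex.mk (F.map (d p)) (F.map (d (p + 1)))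
        (by rw [← F.map_comp, hd, F.map_zero])).Exact := by
  let S : ℕ → ShortComplex A := fun p =>
    ShortComplex.mk (kernel.ι (d p)) (kernel.lift (d (p + 1)) (d p) (hd p))
      (by rw [← cancel_mono (kernel.ι (d (p + 1))), assoc, kernel.lift_ι, zero_comp, kernel.condition])
  have hS : ∀ p, (S p).ShortExact := fun p => by
    refine @ShortComplex.ShortExact.mk _ _ _ _ ?_ (inferInstanceAs (Mono (kernel.ι (d p)))) ?_
    · rw [ShortComplex.exact_iff_exact_up_to_refinements]
      intro T x hx
      change x ≫ kernel.lift (d (p + 1)) (d p) (hd p) = 0 at hx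
      exact ⟨T, 𝟙 T, inferInstance, kernel.lift (d p) x
        (by have := hx =≫ kernel.ι (d (p + 1)); rwa [assoc, kernel.lift_ι, zero_comp] at this), by simp [S]⟩
    · exact ((ShortComplex.mk _ _ (hd p)).exact_iff_epi_kernel_lift).1 (hex p)
  haveI : IsIso (kernel.lift (d 0) ε hε) := by
    haveI := hmono
    haveI : Mono (kernel.lift (d 0) ε hε) := mono_of_mono_fac (kernel.lift_ι _ _ _)
    haveI : Epi (kernel.lift (d 0) ε hε) := ((ShortComplex.mk _ _ hε).exact_iff_epi_kernel_lift).1 h0
    exact isIso_of_mono_of_epi _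
  have hK : ∀ p q, IsZero ((F.rightDerived (q + 1)).obj (kernel (d p))) := by
    intro p
    induction p with
    | zero =>
      exact fun q => (hX q).of_iso ((F.rightDerived (q + 1)).mapIso (asIso (kernel.lift (d 0) ε hε))).symm
    | succ p ih =>
      intro q
      exact (RDerLib.exact₃ F (RDerLib.res (hS p)) (q + 1) (q + 1 + 1) rfl).isZero_of_both_zeros
        ((hC p q).eq_of_src _ _) ((ih (q + 1)).eq_of_tgt _ _)
  have hepi : ∀ p, Epi (F.map (kernel.lift (d (p + 1)) (d p) (hd p))) := fun p => by
    haveI : Epi ((F.rightDerived 0).map (kernel.lift (d (p + 1)) (d p) (hd p))) :=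
      (RDerLib.exact₃ F (RDerLib.res (hS p)) 0 1 rfl).epi_f ((hK p 0).eq_of_tgt _ _)
    have h := F.rightDerivedZeroIsoSelf.hom.naturality (kernel.lift (d (p + 1)) (d p) (hd p))
    have h' : Epi (F.rightDerivedZeroIsoSelf.hom.app (C p) ≫ F.map (kernel.lift (d (p + 1)) (d p) (hd p))) := by
      rw [← h]
      infer_instance
    exact epi_of_epi (F.rightDerivedZeroIsoSelf.hom.app (C p)) _
  have hk : ∀ p, (ShortComplex.mk (F.map (kernel.ι (d p))) (F.map (d p))
      (by rw [← F.map_comp, kernel.condition, F.map_zero])).Exact := fun p =>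
    ShortComplex.exact_of_f_is_kernel _
      (isLimitForkMapOfIsLimit' F (kernel.condition (d p)) (kernelIsKernel (d p)))
  refine ⟨?_, fun p => ?_⟩
  · refine (ShortComplex.exact_iff_of_iso ?_).2 (hk 0)
    exact ShortComplex.isoMk (F.mapIso (asIso (kernel.lift (d 0) ε hε))) (Iso.refl _) (Iso.refl _)
      (by simp [← F.map_comp]) (by simp)
  · rw [ShortComplex.exact_iff_exact_up_to_refinements]
    intro T x hx
    obtain ⟨T', t, ht, y, hy⟩ := (hk (p + 1)).exact_up_to_refinements x hx
    haveI := hepi p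
    obtain ⟨T'', t', ht', z, hz⟩ :=
      surjective_up_to_refinements_of_epi (F.map (kernel.lift (d (p + 1)) (d p) (hd p))) y
    refine ⟨T'', t' ≫ t, inferInstance, z, ?_⟩
    change (t' ≫ t) ≫ x = z ≫ F.map (d p)
    rw [assoc, hy]
    change t' ≫ y ≫ F.map (kernel.ι (d (p + 1))) = _
    rw [← assoc, hz, assoc, ← F.map_comp, kernel.lift_ι]

end Groth.Agent.GrothSS
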