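import Groth.Agent.GrothSS.Ext
import Groth.Agent.GrothSS.Efface
import Groth.Agent.SiteCoh.Compare
import Groth.Agent.SiteCoh.Derived
import Groth.Agent.CechGen.Basic
import Groth.Prelude.Def_CohCx
import Mathlib.CategoryTheory.Abelian.GrothendieckAxioms.FunctorCategory
import Mathlib.CategoryTheory.Abelian.GrothendieckCategory.EnoughInjectives

/-!
# The spectral sequence of a covering
-/

set_option autoImplicit false
set_option linter.style.haveILetI false
set_option linter.unusedSectionVars false
set_option backward.isDefEq.respectTransparency false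
set_option backward.isDefEq.respectTransparency.types false
set_option maxHeartbeats 1000000

universe u

open CategoryTheory Category Limits Opposite Abelian
open Groth.Agent.SiteCoh

namespace Groth.Agent.GrothSS

variable {C : Type u} [SmallCategory C] [HasPullbacks C] {X : C} {ι : Type u} (Y : ι → Over X)

/-- The Čech complex of presheaves on `C` relative to a family over `X`. -/
noncomputable abbrev cechFun : (Cᵒᵖ ⥤ AddCommGrpCat.{u}) ⥤ CochainComplex AddCommGrpCat.{u} ℕ :=
  (Functor.whiskeringLeft _ _ _).obj (Over.forget X).op ⋙ cechComplexFunctor Y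

theorem cechFun_map_apply {P Q : Cᵒᵖ ⥤ AddCommGrpCat.{u}} (f : P ⟶ Q) (n : ℕ) (x : ((cechFun Y).obj P).X n) :
    cochainEquiv Y ((Over.forget X).op ⋙ Q) n (((cechFun Y).map f).f n x) =
      cmap (Functor.whiskerLeft (Over.forget X).op f) (cochainEquiv Y ((Over.forget X).op ⋙ P) n x) :=
  cochainEquiv_map (Functor.whiskerLeft (Over.forget X).op f) n x

instance cechFun_additive : (cechFun Y).Additive where
  map_add {P Q f g} := by
    refine HomologicalComplex.hom_ext _ _ fun n => AddCommGrpCat.hom_ext (AddMonoidHom.ext fun x => ?_)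
    refine (cochainEquiv Y ((Over.forget X).op ⋙ Q) n).injective ?_
    refine (cechFun_map_apply Y (f + g) n x).trans ?_
    refine Eq.trans ?_ (map_add (cochainEquiv Y ((Over.forget X).op ⋙ Q) n)
      (((cechFun Y).map f).f n x) (((cechFun Y).map g).f n x)).symm
    refine Eq.trans ?_ (congrArg₂ (· + ·) (cechFun_map_apply Y f n x) (cechFun_map_apply Y g n x)).symm
    rfl

theorem cechFun_shortExact (T : ShortComplex (Cᵒᵖ ⥤ AddCommGrpCat.{u})) (hT : T.ShortExact) :
    (T.map (cechFun Y)).ShortExact := by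
  have hV : ∀ V : Cᵒᵖ, (T.map ((evaluation Cᵒᵖ AddCommGrpCat.{u}).obj V)).ShortExact := fun V =>
    hT.map_of_exact _
  refine HomologicalComplex.shortExact_of_degreewise_shortExact _ fun n => ?_
  refine @ShortComplex.ShortExact.mk _ _ _ _ ?_ ?_ ?_
  · rw [ShortComplex.ab_exact_iff]
    intro x hx
    choose w hw using fun a => (ShortComplex.ab_exact_iff _).mp (hV (op (tupleProd Y a).left)).exact
      (cochainEquiv Y ((Over.forget X).op ⋙ T.X₂) n x a) (congr_fun ((cechFun_map_apply Y T.g n x).symm.trans
        ((congr_arg _ hx).trans (map_zero _))) a)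
    refine ⟨(cochainEquiv Y ((Over.forget X).op ⋙ T.X₁) n).symm w,
      (cochainEquiv Y ((Over.forget X).op ⋙ T.X₂) n).injective ?_⟩
    exact (cechFun_map_apply Y T.f n _).trans
      ((congr_arg _ (AddEquiv.apply_symm_apply _ w)).trans (funext hw))
  · refine (AddCommGrpCat.mono_iff_injective _).mpr fun x y h =>
      (cochainEquiv Y ((Over.forget X).op ⋙ T.X₁) n).injective ?_
    funext a
    exact (AddCommGrpCat.mono_iff_injective _).mp (hV (op (tupleProd Y a).left)).mono_f
      (congr_fun ((cechFun_map_apply Y T.f n x).symm.trans ((congr_arg _ h).trans (cechFun_map_apply Y T.f n y))) a)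
  · refine (AddCommGrpCat.epi_iff_surjective _).mpr fun z => ?_
    choose w hw using fun a => (AddCommGrpCat.epi_iff_surjective _).mp (hV (op (tupleProd Y a).left)).epi_g
      (cochainEquiv Y ((Over.forget X).op ⋙ T.X₃) n z a)
    refine ⟨(cochainEquiv Y ((Over.forget X).op ⋙ T.X₂) n).symm w,
      (cochainEquiv Y ((Over.forget X).op ⋙ T.X₃) n).injective ?_⟩
    exact (cechFun_map_apply Y T.g n _).trans
      ((congr_arg _ (AddEquiv.apply_symm_apply _ w)).trans (funext hw))

variable (J : GrothendieckTopology C)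

/-- Presheaves of abelian groups have enough injectives. -/
theorem enoughInjectives_presheaf : EnoughInjectives (Cᵒᵖ ⥤ AddCommGrpCat.{u}) := by
  haveI : IsGrothendieckAbelian.{u} (Cᵒᵖ ⥤ AddCommGrpCat.{u}) :=
    IsGrothendieckAbelian.of_equivalence
      (sheafBotEquivalence (C := C) AddCommGrpCat.{u})
  infer_instance

/-- The spectral sequence of a covering family. -/
theorem exists_cech (M : Sheaf J AddCommGrpCat.{u})
    (hY : Sieve.ofArrows (fun i => (Y i).left) (fun i => (Y i).hom) ∈ J X) :
    ∃ (E : E₂CohomologicalSpectralSequence AddCommGrpCat.{u})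
      (a : SpSeq.Abutment E (fun n : ℤ =>
        if 0 ≤ n then AddCommGrpCat.of (CohSite.HU M n.toNat X) else AddCommGrpCat.of PUnit.{u + 1})),
      (∀ n, a.IsFinite n) ∧ SpSeq.IsBounded E ∧
      ∀ p q : ℤ, Nonempty ((E.page 2 le_rfl).X (p, q) ≅
        (if 0 ≤ p ∧ 0 ≤ q then CohCx.cechH (M.cohomologyPresheaf q.toNat) Y p.toNat
          else AddCommGrpCat.of PUnit.{u + 1})) := by
  haveI := enoughInjectives_presheaf (C := C)
  let S : (Cᵒᵖ ⥤ AddCommGrpCat.{u}) ⥤ AddCommGrpCat.{u} :=
    cechFun Y ⋙ HomologicalComplex.homologyFunctor AddCommGrpCat.{u} (ComplexShape.up ℕ) 0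
  let T := sheafToPresheaf J AddCommGrpCat.{u}
  let adj := sheafificationAdjunction J AddCommGrpCat.{u}
  haveI : PreservesFiniteLimits S :=
    preservesFiniteLimits_of_complex (cechFun Y) S (Iso.refl _) (cechFun_shortExact Y)
  let c := overData Y hY
  let β : preadditiveCoyoneda.obj (op (CohCx.freeSheaf J X)) ≅ T ⋙ S :=
    NatIso.ofComponents (fun F =>
      ((AddEquiv.toAddCommGrpIso (X := AddCommGrpCat.of (CohCx.freeSheaf J X ⟶ F)) (secEquiv X F)) ≪≫
        @asIso _ _ _ _ (augH c F) ((ConcreteCategory.isIso_iff_bijective _).mpr (augH_bijective c F)) :))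
      fun {F G} f => by
      ext φ
      refine (congrArg (augH c G) (secEquiv_comp φ f)).trans ?_
      exact ConcreteCategory.congr_hom (augH_natural c f) (secEquiv X F φ)
  have hvan : ∀ (I : Cᵒᵖ ⥤ AddCommGrpCat.{u}), Injective I → ∀ p : ℕ,
      IsZero (((cechFun Y).obj I).homology (p + 1)) := fun I hI p =>
    haveI := hI
    CechGen.isZero_cechH Y I p
  refine exists_grothendieck_ite S T (fun I hI q hq => ?_) M
    (fun n => AddCommGrpCat.of (CohSite.HU M n X))
    (fun p q => CohCx.cechH (M.cohomologyPresheaf q) Y p) _ (AddCommGrpCat.isZero_of_subsingleton _)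
    (fun n => ⟨(rightDerivedMapIso β n).symm.app M ≪≫ (DerExt.rightDerivedIso _ n).app M⟩) (fun p q => ?_)
  · obtain ⟨q, rfl⟩ : ∃ r, q = r + 1 := ⟨q - 1, by omega⟩
    haveI : Injective (T.obj I) := Injective.injective_of_adjoint adj I
    exact S.isZero_rightDerived_obj_injective_succ q (T.obj I)
  · let i2 : (T.rightDerived q).obj M ≅ M.cohomologyPresheaf q :=
      (injectiveResolution M).isoRightDerivedObj T q ≪≫ homologyIsoCohomology M q
    obtain ⟨j⟩ := nonempty_rightDerived_iso_homology (cechFun Y) S (Iso.refl _) (cechFun_shortExact Y) hvan p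
      (M.cohomologyPresheaf q)
    exact ⟨(S.rightDerived p).mapIso i2 ≪≫ j⟩

end Groth.Agent.GrothSS
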