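import Groth.Agent.GrothSS.Tower
import Mathlib.Algebra.Homology.HomotopyCategory.MappingCocone
import Mathlib.Algebra.Homology.HomotopyCategory.ShortExact
import Mathlib.Algebra.Homology.HomologySequenceLemmas
import Mathlib.CategoryTheory.Abelian.Refinements

/-!
# Mapping cocones of epimorphisms
-/

set_option autoImplicit false
set_option linter.style.haveILetI false
set_option linter.unusedSectionVars false
set_option backward.isDefEq.respectTransparency false
set_option backward.isDefEq.respectTransparency.types false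

universe v u

open CategoryTheory Category Limits CochainComplex CochainComplex.HomComplex

namespace Groth.Agent.GrothSS

variable {A : Type u} [Category.{v} A] [Abelian A]

/-- Homology of a shift. -/
noncomputable def homShiftIso (M : CochainComplex A ℤ) (k a a' : ℤ) (h : k + a = a') :
    (M⟦k⟧).homology a ≅ M.homology a' :=
  ((HomologicalComplex.homologyFunctor A (ComplexShape.up ℤ) 0).shiftIso k a a' h).app M

/-- Homology of a mapping cocone. -/
noncomputable def coconeHomIso {K L : CochainComplex A ℤ} (φ : K ⟶ L) (a : ℤ) :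
    (mappingCocone φ).homology (a + 1) ≅ (mappingCone φ).homology a :=
  homShiftIso (mappingCone φ) (-1) (a + 1) a (by omega)

theorem exactAt_cocone_id (K : CochainComplex A ℤ) (n : ℤ) : (mappingCocone (𝟙 K)).ExactAt n := by
  rw [HomologicalComplex.exactAt_iff_isZero_homology, show n = n - 1 + 1 by omega]
  exact (exactAt_mappingCone_of_isIso (𝟙 K) (n - 1)).isZero_homology.of_iso (coconeHomIso _ _)

theorem δ_snd_cocone {K L : CochainComplex A ℤ} (φ : K ⟶ L) :
    δ (-1) 0 (mappingCocone.snd φ) + Cochain.ofHom (mappingCocone.fst φ ≫ φ) = 0 := by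
  ext p
  simp [mappingCocone.snd, mappingCocone.fst, Cochain.δ_leftShift _ (-1) _ 0 _ 1 (by omega),
    mappingCone.δ_snd, Cochain.leftShift_v (n := 1) _ _ _ _ _ p _ (p + -1) (by omega)]

/-- The map of cocones induced by a commutative square. -/
noncomputable def cmap {X Y X' Y' : CochainComplex A ℤ} (φ : X ⟶ Y) (φ' : X' ⟶ Y')
    (a : X ⟶ X') (b : Y ⟶ Y') (w : a ≫ φ' = φ ≫ b) : mappingCocone φ ⟶ mappingCocone φ' :=
  mappingCocone.lift φ' (mappingCocone.fst φ ≫ a)
    ((mappingCocone.snd φ).comp (Cochain.ofHom b) (add_zero _)) (by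
      rw [δ_comp_ofHom, assoc, w, ← assoc, Cochain.ofHom_comp, ← Cochain.add_comp,
        δ_snd_cocone, Cochain.zero_comp])

theorem cmap_f_fst {X Y X' Y' : CochainComplex A ℤ} (φ : X ⟶ Y) (φ' : X' ⟶ Y')
    (a : X ⟶ X') (b : Y ⟶ Y') (w : a ≫ φ' = φ ≫ b) (n : ℤ) :
    (cmap φ φ' a b w).f n ≫ (mappingCocone.fst φ').f n = (mappingCocone.fst φ).f n ≫ a.f n := by
  simp [cmap]

theorem cmap_f_snd {X Y X' Y' : CochainComplex A ℤ} (φ : X ⟶ Y) (φ' : X' ⟶ Y')
    (a : X ⟶ X') (b : Y ⟶ Y') (w : a ≫ φ' = φ ≫ b) (n m : ℤ) (h : n + -1 = m) :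
    (cmap φ φ' a b w).f n ≫ (mappingCocone.snd φ').v n m h =
      (mappingCocone.snd φ).v n m h ≫ b.f m := by
  simp [cmap]

theorem cocone_ext_to {K L : CochainComplex A ℤ} {φ : K ⟶ L} {T : A} {n : ℤ}
    {f g : T ⟶ (mappingCocone φ).X n}
    (h₁ : f ≫ (mappingCocone.fst φ).f n = g ≫ (mappingCocone.fst φ).f n)
    (h₂ : f ≫ (mappingCocone.snd φ).v n (n + -1) rfl = g ≫ (mappingCocone.snd φ).v n (n + -1) rfl) :
    f = g := by
  rw [← comp_id f, ← comp_id g, ← mappingCocone.id_X φ n (n + -1) rfl, Preadditive.comp_add,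
    Preadditive.comp_add, ← assoc, h₁, ← assoc f ((mappingCocone.snd φ).v n (n + -1) rfl), h₂,
    assoc, assoc]

theorem cocone_ext_from {K L : CochainComplex A ℤ} {φ : K ⟶ L} {T : A} {n : ℤ}
    {f g : (mappingCocone φ).X n ⟶ T}
    (h₁ : (mappingCocone.inl φ).v n n (add_zero n) ≫ f = (mappingCocone.inl φ).v n n (add_zero n) ≫ g)
    (h₂ : (mappingCocone.inr φ).1.v (n + -1) n (by omega) ≫ f =
      (mappingCocone.inr φ).1.v (n + -1) n (by omega) ≫ g) :
    f = g := by
  rw [← id_comp f, ← id_comp g, ← mappingCocone.id_X φ n (n + -1) rfl, Preadditive.add_comp,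
    Preadditive.add_comp, assoc, assoc, assoc, assoc, h₁, h₂]

/-- The canonical map from the kernel of an epimorphism to its mapping cocone is a
quasi-isomorphism. -/
theorem quasiIso_liftShortComplex (S : ShortComplex (CochainComplex A ℤ)) (hS : S.ShortExact) :
    QuasiIso (mappingCocone.lift S.g S.f 0 (by simp [S.zero])) := by
  let l := mappingCocone.lift S.g S.f 0 (by simp [S.zero])
  let c := cmap S.g (𝟙 S.X₃) S.g (𝟙 _) rfl
  have hn : ∀ n, (S.map (HomologicalComplex.eval A (ComplexShape.up ℤ) n)).ShortExact := fun n =>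
    hS.map_of_exact _
  have w : l ≫ c = 0 := HomologicalComplex.hom_ext _ _ fun n => cocone_ext_to
    (by
      simp only [HomologicalComplex.comp_f, assoc, cmap_f_fst, HomologicalComplex.zero_f, zero_comp, c]
      rw [← assoc]
      simp only [l, mappingCocone.lift_f_fst_f]
      exact congrArg (fun k => k.f n) S.zero)
    (by
      simp only [HomologicalComplex.comp_f, assoc, cmap_f_snd, HomologicalComplex.zero_f, zero_comp, c]
      simp [l])
  have hlc : (ShortComplex.mk l c w).ShortExact := by
    refine HomologicalComplex.shortExact_of_degreewise_shortExact _ fun n => ?_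
    haveI := (hn n).mono_f
    haveI : Mono (S.f.f n) := (hn n).mono_f
    haveI : Epi (S.g.f n) := (hn n).epi_g
    refine @ShortComplex.ShortExact.mk _ _ _ _ ?_ ?_ ?_
    · rw [ShortComplex.exact_iff_exact_up_to_refinements]
      intro T x hx
      change x ≫ c.f n = 0 at hx
      have h1 := congrArg (· ≫ (mappingCocone.fst (𝟙 S.X₃)).f n) hx
      have h2 := congrArg (· ≫ (mappingCocone.snd (𝟙 S.X₃)).v n (n + -1) rfl) hx
      simp only [assoc, cmap_f_fst, cmap_f_snd, zero_comp, HomologicalComplex.id_f, comp_id, c] at h1 h2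
      rw [← assoc] at h1
      refine ⟨T, 𝟙 T, inferInstance, (hn n).exact.lift (x ≫ (mappingCocone.fst S.g).f n) h1, ?_⟩
      change 𝟙 T ≫ x = _ ≫ l.f n
      rw [id_comp]
      refine cocone_ext_to ?_ ?_
      · simp only [l, assoc, mappingCocone.lift_f_fst_f]
        exact ((hn n).exact.lift_f _ h1).symm
      · simp only [l, assoc, mappingCocone.lift_f_snd_v, Cochain.zero_v, comp_zero]
        exact h2
    · refine ⟨fun a b h => ?_⟩
      change a ≫ l.f n = b ≫ l.f n at h
      have h1 := congrArg (· ≫ (mappingCocone.fst S.g).f n) h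
      simp only [assoc, l, mappingCocone.lift_f_fst_f] at h1
      exact (cancel_mono (S.f.f n)).1 h1
    · refine ⟨fun a b h => ?_⟩
      change c.f n ≫ a = c.f n ≫ b at h
      have e₁ : (mappingCocone.inl S.g).v n n (add_zero n) ≫ c.f n =
          S.g.f n ≫ (mappingCocone.inl (𝟙 S.X₃)).v n n (add_zero n) := by
        refine cocone_ext_to ?_ ?_
        · simp [c, cmap_f_fst]
        · simp [c, cmap_f_snd]
      have e₂ : (mappingCocone.inr S.g).1.v (n + -1) n (by omega) ≫ c.f n =
          (mappingCocone.inr (𝟙 S.X₃)).1.v (n + -1) n (by omega) := by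
        refine cocone_ext_to ?_ ?_
        · simp [c, cmap_f_fst]
        · simp [c, cmap_f_snd]
      refine cocone_ext_from (φ := 𝟙 S.X₃) ?_ ?_
      · have h1 := congrArg ((mappingCocone.inl S.g).v n n (add_zero n) ≫ ·) h
        simp only [← assoc, e₁] at h1
        simp only [assoc] at h1
        exact (cancel_epi (S.g.f n)).1 h1
      · have h1 := congrArg ((mappingCocone.inr S.g).1.v (n + -1) n (by omega) ≫ ·) h
        simp only [← assoc, e₂] at h1
        exact h1
  rw [quasiIso_iff]
  intro n
  rw [quasiIsoAt_iff_isIso_homologyMap]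
  haveI : Mono (HomologicalComplex.homologyMap l n) :=
    (hlc.homology_exact₁ (n - 1) n (by simp)).mono_g
      ((exactAt_cocone_id S.X₃ (n - 1)).isZero_homology.eq_of_src _ _)
  haveI : Epi (HomologicalComplex.homologyMap l n) :=
    (hlc.homology_exact₂ n).epi_f ((exactAt_cocone_id S.X₃ n).isZero_homology.eq_of_tgt _ _)
  exact isIso_of_mono_of_epi _

/-- Homology of the cone of an epimorphism. -/
theorem nonempty_cone_iso_of_shortExact (S : ShortComplex (CochainComplex A ℤ)) (hS : S.ShortExact)
    (a : ℤ) : Nonempty ((mappingCone S.g).homology a ≅ S.X₁.homology (a + 1)) := by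
  haveI := quasiIso_liftShortComplex S hS
  exact ⟨(coconeHomIso S.g a).symm ≪≫
    (isoOfQuasiIsoAt (mappingCocone.lift S.g S.f 0 (by simp [S.zero])) (a + 1)).symm⟩

/-- The kernel of the projection from a mapping cocone. -/
noncomputable def coconeKer {K L : CochainComplex A ℤ} (φ : K ⟶ L) : L⟦(-1 : ℤ)⟧ ⟶ mappingCocone φ :=
  (mappingCone.inr φ)⟦(-1 : ℤ)⟧'

theorem shortExact_coconeKer {K L : CochainComplex A ℤ} (φ : K ⟶ L) :
    ∃ w, (ShortComplex.mk (coconeKer φ) (mappingCocone.fst φ) w).ShortExact := by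
  have hk : ∀ n, (coconeKer φ).f n = (mappingCocone.inr φ).1.v (n + -1) n (by omega) := fun n => by
    simp [coconeKer, mappingCocone.inr, Cochain.rightShift_v (n := 0) _ _ _ _ (n + -1) n _ (n + -1) (by omega)]
  have w : coconeKer φ ≫ mappingCocone.fst φ = 0 := HomologicalComplex.hom_ext _ _ fun n => by
    simp only [HomologicalComplex.comp_f, hk, HomologicalComplex.zero_f]
    exact mappingCocone.inr_v_fst_f φ _ n _
  refine ⟨w, HomologicalComplex.shortExact_of_degreewise_shortExact _ fun n => ?_⟩
  refine ShortComplex.Splitting.shortExact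
    { r := (mappingCocone.snd φ).v n (n + -1) rfl
      s := (mappingCocone.inl φ).v n n (add_zero n)
      f_r := ?_
      s_g := ?_
      id := ?_ }
  · change (coconeKer φ).f n ≫ _ = _
    rw [hk]
    exact mappingCocone.inr_v_snd_v φ _ n _
  · exact mappingCocone.inl_v_fst_f φ n
  · change (mappingCocone.snd φ).v n (n + -1) rfl ≫ (coconeKer φ).f n +
      (mappingCocone.fst φ).f n ≫ (mappingCocone.inl φ).v n n (add_zero n) = 𝟙 ((mappingCocone φ).X n)
    rw [hk, add_comm]
    exact mappingCocone.id_X φ n (n + -1) rfl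

theorem exactAt_cone_of_epi_mono {K L : CochainComplex A ℤ} (f : K ⟶ L) (i : ℤ)
    [Epi (HomologicalComplex.homologyMap f i)] [Mono (HomologicalComplex.homologyMap f (i + 1))] :
    (mappingCone f).ExactAt i := by
  have hT := HomotopyCategory.mappingCone_triangleh_distinguished f
  set T := CochainComplex.mappingCone.triangleh f
  let h₀ := HomotopyCategory.homologyFunctor A (ComplexShape.up ℤ) 0
  have key : ∀ j : ℤ, (Functor.shift h₀ j).map T.mor₁ =
      (shiftObjIso K j).hom ≫ HomologicalComplex.homologyMap f j ≫ (shiftObjIso L j).inv := fun j => by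
    have := (HomotopyCategory.homologyFunctorFactors A (ComplexShape.up ℤ) j).hom.naturality f
    exact ((Iso.eq_comp_inv _).2 this).trans (assoc _ _ _)
  have he : Epi ((Functor.shift h₀ i).map T.mor₁) := by rw [key]; infer_instance
  have hm : Mono ((Functor.shift h₀ (i + 1)).map T.mor₁) := by rw [key]; infer_instance
  have z1 : (Functor.shift h₀ i).map T.mor₂ = 0 :=
    (Functor.homologySequence_epi_shift_map_mor₁_iff h₀ T hT i).1 he
  have z2 : Functor.homologySequenceδ h₀ T i (i + 1) rfl = 0 :=
    (Functor.homologySequence_mono_shift_map_mor₁_iff h₀ T hT i (i + 1) rfl).1 hm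
  have hz : IsZero ((Functor.shift h₀ i).obj T.obj₃) :=
    (Functor.homologySequence_exact₃ h₀ T hT i (i + 1) rfl).isZero_X₂ z1 z2
  rw [HomologicalComplex.exactAt_iff_isZero_homology]
  exact hz.of_iso (shiftObjIso (CochainComplex.mappingCone f) i).symm

end Groth.Agent.GrothSS
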