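import Mathlib

/-!
Derived functors of the terms of a sequence `0 → F → 𝟭 → H → 0` exact on injective objects.
-/

set_option autoImplicit false
set_option linter.style.haveILetI false
set_option linter.unusedSectionVars false
set_option backward.isDefEq.respectTransparency false
set_option backward.isDefEq.respectTransparency.types false

universe v u

open CategoryTheory Category Limits

namespace Groth.Agent.GrothSS

variable {C : Type u} [Category.{v} C] [Abelian C] [HasInjectiveResolutions C] {F H : C ⥤ C} [F.Additive] [H.Additive]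
  (α : F ⟶ 𝟭 C) (β : 𝟭 C ⟶ H) (w : ∀ X, α.app X ≫ β.app X = 0)
  (hse : ∀ I, Injective I → (ShortComplex.mk (α.app I) (β.app I) (w I)).ShortExact)

/-- the short complex of complexes attached to a resolution -/
noncomputable abbrev triCx {X : C} (R : InjectiveResolution X) : ShortComplex (CochainComplex C ℕ) :=
  ShortComplex.mk ((NatTrans.mapHomologicalComplex α _).app R.cocomplex)
    ((NatTrans.mapHomologicalComplex β _).app R.cocomplex) (HomologicalComplex.hom_ext _ _ fun n => w _)

include hse in
lemma triCx_shortExact {X : C} (R : InjectiveResolution X) : (triCx α β w R).ShortExact :=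
  HomologicalComplex.shortExact_of_degreewise_shortExact _ fun n => hse (R.cocomplex.X n) (R.injective n)

/-- the connecting map -/
noncomputable def triDelta {X : C} (R : InjectiveResolution X) (n : ℕ) :
    (H.rightDerived n).obj X ⟶ (F.rightDerived (n + 1)).obj X :=
  (R.isoRightDerivedObj H n).hom ≫ (triCx_shortExact α β w hse R).δ n (n + 1) rfl ≫
    (R.isoRightDerivedObj F (n + 1)).inv

/-- the connecting natural transformation -/
noncomputable def triTrans (n : ℕ) : H.rightDerived n ⟶ F.rightDerived (n + 1) where
  app X := triDelta α β w hse (injectiveResolution X) n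
  naturality {X Y} f := by
    let φ := InjectiveResolution.desc f (injectiveResolution Y) (injectiveResolution X)
    have hφ : (injectiveResolution X).ι.f 0 ≫ φ.f 0 = f ≫ (injectiveResolution Y).ι.f 0 :=
      InjectiveResolution.desc_commutes_zero f _ _
    let ψ : triCx α β w (injectiveResolution X) ⟶ triCx α β w (injectiveResolution Y) :=
      ShortComplex.homMk ((F.mapHomologicalComplex _).map φ) (((𝟭 C).mapHomologicalComplex _).map φ)
        ((H.mapHomologicalComplex _).map φ) ((NatTrans.mapHomologicalComplex α _).naturality φ)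
        ((NatTrans.mapHomologicalComplex β _).naturality φ)
    have h1 := InjectiveResolution.isoRightDerivedObj_hom_naturality f (injectiveResolution X)
      (injectiveResolution Y) φ hφ H n
    have h2 := InjectiveResolution.isoRightDerivedObj_inv_naturality f (injectiveResolution X)
      (injectiveResolution Y) φ hφ F (n + 1)
    have h3 := HomologicalComplex.HomologySequence.δ_naturality ψ
      (triCx_shortExact α β w hse (injectiveResolution X)) (triCx_shortExact α β w hse (injectiveResolution Y))
      n (n + 1) rfl
    simp only [triDelta]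
    rw [reassoc_of% h1, assoc, assoc, h2]
    exact congrArg (_ ≫ ·) ((reassoc_of% h3) _).symm

instance isIso_triTrans_succ (n : ℕ) : IsIso (triTrans α β w hse (n + 1)) := by
  haveI : ∀ X, IsIso ((triTrans α β w hse (n + 1)).app X) := fun X => by
    let R := injectiveResolution X
    have hz : ∀ k, IsZero ((((𝟭 C).mapHomologicalComplex (ComplexShape.up ℕ)).obj R.cocomplex).homology (k + 1)) :=
      fun k => ((R.cocomplex_exactAt_succ k).of_iso
        (HomologicalComplex.Hom.isoOfComponents (fun i => Iso.refl _))).isZero_homology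
    haveI : IsIso ((triCx_shortExact α β w hse R).δ (n + 1) (n + 1 + 1) rfl) :=
      (triCx_shortExact α β w hse R).isIso_δ _ _ rfl (hz n) (hz (n + 1))
    change IsIso (triDelta α β w hse R (n + 1))
    unfold triDelta
    infer_instance
  exact NatIso.isIso_of_isIso_app _

include hse in
/-- `R^(q+1) F ≅ R^q H` for `q ≥ 1` -/
theorem nonempty_tri_iso (q : ℕ) : Nonempty (F.rightDerived (q + 2) ≅ H.rightDerived (q + 1)) :=
  ⟨(asIso (triTrans α β w hse (q + 1))).symm⟩

variable [PreservesFiniteLimits H]

/-- the map `H → R^1 F` -/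
noncomputable def triOne : H ⟶ F.rightDerived 1 := H.toRightDerivedZero ≫ triTrans α β w hse 0

lemma triOne_spec (X : C) : β.app X ≫ (triOne α β w hse).app X = 0 ∧ Epi ((triOne α β w hse).app X) ∧
    ∀ h : β.app X ≫ (triOne α β w hse).app X = 0, (ShortComplex.mk _ _ h).Exact := by
  let R := injectiveResolution X
  let K := ((𝟭 C).mapHomologicalComplex (ComplexShape.up ℕ)).obj R.cocomplex
  let K' := (H.mapHomologicalComplex (ComplexShape.up ℕ)).obj R.cocomplex
  let a : X ≅ K.homology 0 := asIso (R.toRightDerivedZero' (𝟭 C)) ≪≫ CochainComplex.isoHomologyπ₀ K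
  let b : H.obj X ≅ K'.homology 0 := asIso (R.toRightDerivedZero' H) ≪≫ CochainComplex.isoHomologyπ₀ K'
  have sq : β.app X ≫ b.hom = a.hom ≫ HomologicalComplex.homologyMap (triCx α β w R).g 0 := by
    have e : β.app X ≫ R.toRightDerivedZero' H =
        R.toRightDerivedZero' (𝟭 C) ≫ HomologicalComplex.cyclesMap (triCx α β w R).g 0 := by
      rw [← cancel_mono (K'.iCycles 0), assoc, R.toRightDerivedZero'_comp_iCycles, assoc,
        HomologicalComplex.cyclesMap_i, ← assoc, R.toRightDerivedZero'_comp_iCycles]
      exact (β.naturality (R.ι.f 0)).symm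
    simp only [a, b, Iso.trans_hom, asIso_hom, assoc]
    rw [← assoc, e, assoc]
    exact congrArg (R.toRightDerivedZero' (𝟭 C) ≫ ·) (HomologicalComplex.homologyπ_naturality (triCx α β w R).g 0).symm
  let hS := triCx_shortExact α β w hse R
  have ht : (triOne α β w hse).app X = b.hom ≫ hS.δ 0 1 rfl ≫ (R.isoRightDerivedObj F 1).inv := by
    simp only [triOne, NatTrans.comp_app, triTrans, triDelta]
    rw [R.toRightDerivedZero_eq H]
    simp only [assoc, b, Iso.trans_hom, asIso_hom]
    refine congrArg (_ ≫ ·) (congrArg (_ ≫ ·) ?_)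
    exact Iso.inv_hom_id_assoc _ _
  have h0 : β.app X ≫ (triOne α β w hse).app X = 0 := by
    rw [ht, ← assoc, sq, assoc]
    rw [reassoc_of% (hS.comp_δ 0 1 rfl), zero_comp, comp_zero]
  refine ⟨h0, ?_, fun h => ?_⟩
  · have hz : IsZero (K.homology 1) := ((R.cocomplex_exactAt_succ 0).of_iso
      (HomologicalComplex.Hom.isoOfComponents (fun i => Iso.refl _))).isZero_homology
    haveI : Epi (hS.δ 0 1 rfl) := (hS.homology_exact₁ 0 1 rfl).epi_f (hz.eq_of_tgt _ _)
    rw [ht]
    infer_instance
  · refine (ShortComplex.exact_iff_of_iso ?_).2 (hS.homology_exact₃ 0 1 rfl)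
    refine ShortComplex.isoMk a b (R.isoRightDerivedObj F 1) sq.symm ?_
    show b.hom ≫ hS.δ 0 1 rfl = (triOne α β w hse).app X ≫ (R.isoRightDerivedObj F 1).hom
    rw [ht]
    simp

include hse in
/-- `R^1 F` is the cokernel of `β` -/
theorem nonempty_tri_one : Nonempty (F.rightDerived 1 ≅ cokernel β) := by
  have key := triOne_spec α β w hse
  have h0 : β ≫ triOne α β w hse = 0 := NatTrans.ext (funext fun X => (key X).1)
  haveI : ∀ X, Epi ((triOne α β w hse).app X) := fun X => (key X).2.1
  have ex : ∀ X, (ShortComplex.mk _ _ (key X).1).Exact := fun X => (key X).2.2 _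
  have hz : ∀ {K : C ⥤ C} (k : H ⟶ K), β ≫ k = 0 → ∀ X, β.app X ≫ k.app X = 0 := fun k hk X =>
    congrArg (fun t => t.app X) hk
  have hl : IsColimit (CokernelCofork.ofπ (triOne α β w hse) h0) :=
    CokernelCofork.IsColimit.ofπ _ _
      (fun {K} k hk =>
        { app := fun X => (ex X).desc (k.app X) (hz k hk X)
          naturality := fun {X Y} f => by
            rw [← cancel_epi ((triOne α β w hse).app X), ← assoc, ← (triOne α β w hse).naturality f, assoc]
            refine (congrArg (H.map f ≫ ·) ((ex Y).g_desc (k.app Y) (hz k hk Y))).trans ?_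
            refine (k.naturality f).trans ?_
            exact ((congrArg (· ≫ K.map f) ((ex X).g_desc (k.app X) (hz k hk X))).symm.trans (assoc _ _ _)) })
      (fun {K} k hk => NatTrans.ext (funext fun X => (ex X).g_desc _ _))
      (fun {K} k hk m hm => NatTrans.ext (funext fun X => by
        rw [← cancel_epi ((triOne α β w hse).app X)]
        exact (congrArg (fun t => t.app X) hm).trans ((ex X).g_desc _ (hz k hk X)).symm))
  exact ⟨hl.coconePointUniqueUpToIso (colimit.isColimit (parallelPair β 0))⟩

end Groth.Agent.GrothSS
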