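import Groth.Prelude.Def_ExtSupp
import Groth.Agent.ModSiteExt.Sheaf
import Groth.Agent.CohQC.ToSheafExact
import Mathlib.CategoryTheory.Sites.EpiMono

/-!
# Modules supported in the closed complement of an object

Morphisms zero on `U` factor through `quotOn`, resp. `sectOn`; `quotOn` preserves monomorphisms, so
`sectOn` preserves injective objects.
-/

set_option autoImplicit false
set_option linter.style.haveILetI false
set_option linter.unusedSectionVars false
set_option backward.isDefEq.respectTransparency false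
set_option backward.isDefEq.respectTransparency.types false
set_option maxHeartbeats 1000000

universe u

open CategoryTheory Category Limits Opposite

namespace Groth.Agent.GrothSS

variable {C : Type u} [SmallCategory C] {J : GrothendieckTopology C} (O : Sheaf J CommRingCat.{u}) (U : C)

/-- Maps out of an extension by zero followed by a map vanishing on `U` vanish. -/
theorem eq_zero_of_extZero {X : ModSite.Mod (O.over U)} {M N : ModSite.Mod O}
    (a : (ModSite.extZero O U).obj X ⟶ M) (φ : M ⟶ N) (hφ : (ModSite.restr O U).map φ = 0) :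
    a ≫ φ = 0 := by
  apply ((ModSite.extZeroAdj O U).homEquiv _ _).injective
  rw [(ModSite.extZeroAdj O U).homEquiv_naturality_right, hφ, comp_zero,
    (ModSite.extZeroAdj O U).homEquiv_unit, Functor.map_zero, comp_zero]

/-- A morphism vanishes on `U` iff it kills every section over an object mapping to `U`. -/
theorem restr_map_eq_zero_iff {M N : ModSite.Mod O} (φ : M ⟶ N) :
    (ModSite.restr O U).map φ = 0 ↔
      ∀ ⦃V : C⦄ (_ : V ⟶ U) (x : ModSite.sect M V), (φ.val.app (op V)).hom x = 0 := by
  constructor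
  · intro h V g x
    exact congrArg (fun ψ : (ModSite.restr O U).obj M ⟶ (ModSite.restr O U).obj N =>
      (ψ.val.app (op (Over.mk g))).hom x) h
  · intro h
    apply (SheafOfModules.toSheaf _).map_injective
    ext Y m
    exact h (unop Y).hom _

section Factor

variable {O U} {X Y : ModSite.Mod O}

theorem counit_comp_eq_zero {φ : X ⟶ Y} (hφ : (ModSite.restr O U).map φ = 0) :
    (ModSite.extZeroAdj O U).counit.app X ≫ φ = 0 :=
  eq_zero_of_extZero O U _ φ hφ

/-- A map vanishing on `U` factors through `X/X_U`. -/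
noncomputable def quotDesc (φ : X ⟶ Y) (hφ : (ModSite.restr O U).map φ = 0) :
    (ModSite.quotOn O U).obj X ⟶ Y :=
  cokernel.desc _ φ (counit_comp_eq_zero hφ)

theorem π_quotDesc (φ : X ⟶ Y) (hφ : (ModSite.restr O U).map φ = 0) :
    (ModSite.quotOnπ O U).app X ≫ quotDesc φ hφ = φ :=
  cokernel.π_desc _ _ _

instance epi_quotOnπ : Epi ((ModSite.quotOnπ O U).app X) :=
  inferInstanceAs (Epi (cokernel.π ((ModSite.extZeroAdj O U).counit.app X)))

variable [ModSite.HasPushOver O U]

theorem restr_quotπ : (ModSite.restr O U).map ((ModSite.quotOnπ O U).app X) = 0 :=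
  (ExtSupp.isNullOn_quotOn O U X).eq_of_tgt _ _

theorem restr_π_comp (ψ : (ModSite.quotOn O U).obj X ⟶ Y) :
    (ModSite.restr O U).map ((ModSite.quotOnπ O U).app X ≫ ψ) = 0 := by
  rw [Functor.map_comp, restr_quotπ, zero_comp]

theorem comp_unit_eq (φ : X ⟶ Y) :
    φ ≫ (ModSite.restrPushOverAdj O U).unit.app Y =
      (ModSite.restrPushOverAdj O U).homEquiv _ _ ((ModSite.restr O U).map φ) := by
  rw [(ModSite.restrPushOverAdj O U).homEquiv_unit]
  exact (ModSite.restrPushOverAdj O U).unit.naturality φ

/-- A map vanishing on `U` factors through the sections with support. -/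
noncomputable def sectLift (φ : X ⟶ Y) (hφ : (ModSite.restr O U).map φ = 0) :
    X ⟶ (ModSite.sectOn O U).obj Y :=
  kernel.lift _ φ ((comp_unit_eq φ).trans (by rw [hφ, (ModSite.restrPushOverAdj O U).homEquiv_unit,
    Functor.map_zero, comp_zero]))

theorem sectLift_ι (φ : X ⟶ Y) (hφ : (ModSite.restr O U).map φ = 0) :
    sectLift φ hφ ≫ (ModSite.sectOnι O U).app Y = φ :=
  kernel.lift_ι _ _ _

instance mono_sectOnι : Mono ((ModSite.sectOnι O U).app Y) :=
  inferInstanceAs (Mono (kernel.ι ((ModSite.restrPushOverAdj O U).unit.app Y)))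

theorem restr_comp_ι (ψ : X ⟶ (ModSite.sectOn O U).obj Y) :
    (ModSite.restr O U).map (ψ ≫ (ModSite.sectOnι O U).app Y) = 0 := by
  apply ((ModSite.restrPushOverAdj O U).homEquiv _ _).injective
  rw [← comp_unit_eq, (ModSite.restrPushOverAdj O U).homEquiv_unit, Functor.map_zero, comp_zero, assoc]
  exact (congrArg (ψ ≫ ·) (kernel.condition ((ModSite.restrPushOverAdj O U).unit.app Y))).trans comp_zero

/-- `Hom(X, Γ_Z Y) = Hom(X/X_U, Y)`. -/
noncomputable def quotSectEquiv (X Y : ModSite.Mod O) :
    (X ⟶ (ModSite.sectOn O U).obj Y) ≃+ ((ModSite.quotOn O U).obj X ⟶ Y) where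
  toFun t := quotDesc (t ≫ (ModSite.sectOnι O U).app Y) (restr_comp_ι t)
  invFun ψ := sectLift ((ModSite.quotOnπ O U).app X ≫ ψ) (restr_π_comp ψ)
  left_inv t := by
    rw [← cancel_mono ((ModSite.sectOnι O U).app Y), sectLift_ι, π_quotDesc]
  right_inv ψ := by
    rw [← cancel_epi ((ModSite.quotOnπ O U).app X), π_quotDesc, sectLift_ι]
  map_add' a b := by
    rw [← cancel_epi ((ModSite.quotOnπ O U).app X), π_quotDesc, Preadditive.comp_add, π_quotDesc,
      π_quotDesc, Preadditive.add_comp]

theorem π_quotSectEquiv (t : X ⟶ (ModSite.sectOn O U).obj Y) :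
    (ModSite.quotOnπ O U).app X ≫ quotSectEquiv X Y t = t ≫ (ModSite.sectOnι O U).app Y :=
  π_quotDesc _ (restr_comp_ι t)

theorem quotSectEquiv_symm_ι (ψ : (ModSite.quotOn O U).obj X ⟶ Y) :
    (quotSectEquiv X Y).symm ψ ≫ (ModSite.sectOnι O U).app Y = (ModSite.quotOnπ O U).app X ≫ ψ :=
  sectLift_ι _ (restr_π_comp ψ)

theorem quotSectEquiv_comp {Y' : ModSite.Mod O} (t : X ⟶ (ModSite.sectOn O U).obj Y) (g : Y ⟶ Y') :
    quotSectEquiv X Y' (t ≫ (ModSite.sectOn O U).map g) = quotSectEquiv X Y t ≫ g := by
  rw [← cancel_epi ((ModSite.quotOnπ O U).app X), π_quotSectEquiv, ← assoc ((ModSite.quotOnπ O U).app X),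
    π_quotSectEquiv, assoc, assoc]
  exact congrArg (t ≫ ·) ((ModSite.sectOnι O U).naturality g)

end Factor

/-! ### `quotOn` preserves monomorphisms -/

/-- The underlying abelian group of the sections, through the underlying sheaf. -/
abbrev absect (G : ModSite.Mod O) (V : C) : Type u := (ModSite.toAb G).obj.obj (op V)

/-- The map of underlying abelian sheaves. -/
noncomputable abbrev toAbMap {G H : ModSite.Mod O} (f : G ⟶ H) : ModSite.toAb G ⟶ ModSite.toAb H :=
  (SheafOfModules.toSheaf (ModSite.ringSh O)).map f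

/-- Locally, a section of an extension by zero is zero or lives over an object mapping to `U`. -/
theorem exists_cover_extZero (X : ModSite.Mod (O.over U)) (V : C)
    (y : absect O ((ModSite.extZero O U).obj X) V) :
    ∃ S ∈ J V, ∀ ⦃W : C⦄ (a : W ⟶ V), S a →
      (ModSite.toAb ((ModSite.extZero O U).obj X)).obj.map a.op y = 0 ∨ Nonempty (W ⟶ U) := by
  classical
  let P := (ModSiteExt.extZeroFun O.obj U).obj ((ModSiteExt.toPMOver O U).obj X)
  let e := (ModSiteExt.extZeroIso O U).app X
  let y' : absect O ((ModSiteExt.Sh O).obj P) V := (toAbMap O e.hom).hom.app (op V) y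
  let η := (PresheafOfModules.toPresheaf _).map (ModSiteTensor.η O P)
  haveI : Presheaf.IsLocallySurjective J η := ModSiteTensor.unit_locallySurjective O P
  refine ⟨Presheaf.imageSieve η y', Presheaf.imageSieve_mem J η y', fun W a ha => ?_⟩
  obtain ⟨z, hz⟩ := ha
  by_cases hW : Nonempty (W ⟶ U)
  · exact Or.inr hW
  refine Or.inl ?_
  haveI : IsEmpty ((op W).unop ⟶ U) := ⟨fun g => hW ⟨g⟩⟩
  have hz0 : z = 0 := by
    change (z : ModSiteExt.val ((ModSiteExt.toPMOver O U).obj X) (op W)) = 0
    exact DFinsupp.ext fun g => isEmptyElim g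
  rw [hz0, map_zero] at hz
  have hinj : Function.Injective ((toAbMap O e.hom).hom.app (op W)) := by
    haveI : IsIso (toAbMap O e.hom) := inferInstance
    haveI : IsIso ((sheafToPresheaf J AddCommGrpCat.{u}).map (toAbMap O e.hom)) := inferInstance
    exact ((ConcreteCategory.isIso_iff_bijective _).mp
      (inferInstanceAs (IsIso (((sheafToPresheaf J AddCommGrpCat.{u}).map (toAbMap O e.hom)).app (op W))))).1
  refine hinj ?_
  rw [map_zero]
  exact (NatTrans.naturality_apply (toAbMap O e.hom).hom a.op y).trans hz.symm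

theorem toAbMap_injective_of_mono {G H : ModSite.Mod O} (f : G ⟶ H) [Mono f] (V : C) :
    Function.Injective ((toAbMap O f).hom.app (op V)) := by
  haveI : Mono ((sheafToPresheaf J AddCommGrpCat.{u}).map (toAbMap O f)) := inferInstance
  exact (AddCommGrpCat.mono_iff_injective _).mp
    (inferInstanceAs (Mono (((sheafToPresheaf J AddCommGrpCat.{u}).map (toAbMap O f)).app (op V))))

theorem mono_of_toAbMap_injective {G H : ModSite.Mod O} (f : G ⟶ H)
    (h : ∀ (V : C) (x : absect O G V), (toAbMap O f).hom.app (op V) x = 0 → x = 0) : Mono f := by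
  refine (SheafOfModules.toSheaf (ModSite.ringSh O)).mono_of_mono_map ?_
  refine (sheafToPresheaf J AddCommGrpCat.{u}).mono_of_mono_map ?_
  haveI : ∀ V : Cᵒᵖ, Mono (((sheafToPresheaf J AddCommGrpCat.{u}).map (toAbMap O f)).app V) := fun V =>
    (AddCommGrpCat.mono_iff_injective _).mpr ((injective_iff_map_eq_zero _).mpr (h V.unop))
  exact NatTrans.mono_of_mono_app _

/-- The sections killed by `G → G/G_U` are locally zero or over `U`. -/
theorem exists_cover_of_quotπ_eq_zero (G : ModSite.Mod O) (V : C) (x : absect O G V)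
    (hx : (toAbMap O ((ModSite.quotOnπ O U).app G)).hom.app (op V) x = 0) :
    ∃ S ∈ J V, ∀ ⦃W : C⦄ (a : W ⟶ V), S a →
      (ModSite.toAb G).obj.map a.op x = 0 ∨ Nonempty (W ⟶ U) := by
  haveI : PreservesFiniteColimits (SheafOfModules.toSheaf (ModSite.ringSh O)) :=
    CohQC.toSheaf_preservesFiniteColimits _
  haveI : (SheafOfModules.toSheaf (ModSite.ringSh O)).PreservesHomology :=
    Functor.preservesHomologyOfExact _
  let T := (ExtSupp.openSeq U G).map (SheafOfModules.toSheaf (ModSite.ringSh O))
  have hT : T.Exact := (ExtSupp.openSeq_exact U G).1.map _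
  let K := kernel T.g
  haveI : Epi (kernel.lift T.g T.f T.zero) := hT.epi_kernelLift
  haveI : Sheaf.IsLocallySurjective (kernel.lift T.g T.f T.zero) :=
    (Sheaf.isLocallySurjective_iff_epi' _ _).mpr inferInstance
  obtain ⟨k, hk⟩ : ∃ k : K.obj.obj (op V), (kernel.ι T.g).hom.app (op V) k = x := by
    let Ev := sheafToPresheaf J AddCommGrpCat.{u} ⋙ (evaluation _ _).obj (op V)
    haveI : PreservesFiniteLimits Ev := inferInstance
    have hex : ((ShortComplex.mk (kernel.ι T.g) T.g (kernel.condition _)).map Ev).Exact :=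
      ShortComplex.exact_of_f_is_kernel _ (KernelFork.mapIsLimit _ (kernelIsKernel T.g) Ev)
    exact ((ShortComplex.ab_exact_iff_function_exact _).mp hex x).mp hx
  refine ⟨_, J.bind_covering (Presheaf.imageSieve_mem J (kernel.lift T.g T.f T.zero).hom (U := op V) k)
    (R := fun W a (ha : Presheaf.imageSieve (kernel.lift T.g T.f T.zero).hom (U := V) k a) =>
      (exists_cover_extZero O U _ W (Exists.choose ha)).choose)
    (fun W a ha => (exists_cover_extZero O U _ W (Exists.choose ha)).choose_spec.1), fun W a ha => ?_⟩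
  obtain ⟨W', b, c, hc, hb, rfl⟩ := ha
  rcases (exists_cover_extZero O U _ W' hc.choose).choose_spec.2 b hb with h0 | hU
  · refine Or.inl ?_
    rw [← hk]
    refine (NatTrans.naturality_apply (kernel.ι T.g).hom (b ≫ c).op k).symm.trans
      ((congrArg _ ?_).trans (map_zero ((kernel.ι T.g).hom.app (op W)).hom))
    · rw [op_comp, Functor.map_comp]
      refine (congrArg (K.obj.map b.op) hc.choose_spec.symm).trans ?_
      refine (NatTrans.naturality_apply (kernel.lift T.g T.f T.zero).hom b.op _).symm.trans ?_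
      exact (congrArg _ h0).trans (map_zero _)
  · exact Or.inr hU

variable [ModSite.HasPushOver O U]

/-- `F ↦ F/F_U` preserves monomorphisms. -/
theorem mono_quotOn_map {A B : ModSite.Mod O} (f : A ⟶ B) [Mono f] :
    Mono ((ModSite.quotOn O U).map f) := by
  refine mono_of_toAbMap_injective O _ fun V x hx => ?_
  let Q := (ModSite.quotOn O U).obj A
  have sep : Presheaf.IsSeparated J (ModSite.toAb Q).obj :=
    Presheaf.IsSheaf.isSeparated (ModSite.toAb Q).property
  haveI : PreservesFiniteColimits (SheafOfModules.toSheaf (ModSite.ringSh O)) :=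
    CohQC.toSheaf_preservesFiniteColimits _
  haveI : Epi (toAbMap O ((ModSite.quotOnπ O U).app A)) := inferInstance
  haveI : Sheaf.IsLocallySurjective (toAbMap O ((ModSite.quotOnπ O U).app A)) :=
    (Sheaf.isLocallySurjective_iff_epi' _ _).mpr inferInstance
  refine sep V _ (Presheaf.imageSieve_mem J (toAbMap O ((ModSite.quotOnπ O U).app A)).hom (U := op V) x)
    x 0 fun W a ha => ?_
  obtain ⟨z, hz⟩ := ha
  have hfz : (toAbMap O ((ModSite.quotOnπ O U).app B)).hom.app (op W)
      ((toAbMap O f).hom.app (op W) z) = 0 := by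
    have e : toAbMap O f ≫ toAbMap O ((ModSite.quotOnπ O U).app B) =
        toAbMap O ((ModSite.quotOnπ O U).app A) ≫ toAbMap O ((ModSite.quotOn O U).map f) := by
      rw [toAbMap, toAbMap, toAbMap, toAbMap, ← Functor.map_comp, ← Functor.map_comp]
      exact congrArg _ ((ModSite.quotOnπ O U).naturality f)
    refine (congrArg (fun m => m.hom.app (op W) z) e).trans ?_
    refine (congrArg ((toAbMap O ((ModSite.quotOn O U).map f)).hom.app (op W)) hz).trans ?_
    refine (NatTrans.naturality_apply (toAbMap O ((ModSite.quotOn O U).map f)).hom a.op x).trans ?_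
    exact (congrArg _ hx).trans (map_zero _)
  obtain ⟨R, hR, hR'⟩ := exists_cover_of_quotπ_eq_zero O U B W _ hfz
  have key : (toAbMap O ((ModSite.quotOnπ O U).app A)).hom.app (op W) z = 0 := by
    refine sep W R hR _ 0 fun W' b hb => ?_
    refine Eq.trans ?_ (map_zero _).symm
    refine (NatTrans.naturality_apply (toAbMap O ((ModSite.quotOnπ O U).app A)).hom b.op z).symm.trans ?_
    rcases hR' b hb with h0 | ⟨⟨g⟩⟩
    · have : (ModSite.toAb A).obj.map b.op z = 0 := by
        refine toAbMap_injective_of_mono O f W' ?_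
        rw [map_zero]
        exact (NatTrans.naturality_apply (toAbMap O f).hom b.op z).trans h0
      exact (congrArg _ this).trans (map_zero _)
    · exact (ExtSupp.isNullOn_iff O U Q).1 (ExtSupp.isNullOn_quotOn O U A) g _
  refine Eq.trans ?_ (map_zero _).symm
  exact hz.symm.trans key

/-- Sections with support of an injective module form an injective module. -/
theorem injective_sectOn (I : ModSite.Mod O) [Injective I] : Injective ((ModSite.sectOn O U).obj I) where
  factors {X Y} t g _ := by
    haveI := mono_quotOn_map O U g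
    refine ⟨(quotSectEquiv Y I).symm
      (Injective.factorThru (quotSectEquiv X I t) ((ModSite.quotOn O U).map g)), ?_⟩
    apply (quotSectEquiv X I).injective
    rw [← cancel_epi ((ModSite.quotOnπ O U).app X)]
    rw [π_quotSectEquiv, assoc, quotSectEquiv_symm_ι, ← assoc]
    refine (congrArg (fun m => m ≫ Injective.factorThru (quotSectEquiv X I t) ((ModSite.quotOn O U).map g))
      ((ModSite.quotOnπ O U).naturality g)).trans ?_
    exact (assoc _ _ _).trans (congrArg (_ ≫ ·) (Injective.comp_factorThru _ _))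

end Groth.Agent.GrothSS
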