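import Groth.Agent.GrothSS.Abut
import Mathlib.Algebra.Homology.HomotopyCategory.SpectralObject
import Mathlib.Algebra.Homology.HomotopyCategory.HomologicalFunctor
import Mathlib.Algebra.Homology.HomotopyCategory.Plus

/-!
# The spectral object in an abelian category attached to a functor to complexes
-/

set_option autoImplicit false
set_option linter.style.haveILetI false
set_option linter.unusedSectionVars false
set_option backward.isDefEq.respectTransparency false
set_option backward.isDefEq.respectTransparency.types false

universe w v u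

open CategoryTheory Category Limits ComposableArrows

namespace Groth.Agent.GrothSS

section MapHomological

variable {D : Type*} [Category D] [HasZeroObject D] [HasShift D ℤ] [Preadditive D]
  [∀ n : ℤ, (shiftFunctor D n).Additive] [Pretriangulated D]
  {A : Type u} [Category.{v} A] [Abelian A] {ι : Type*} [Category ι]

/-- A homological functor sends a spectral object to a spectral object, with a shift of degree. -/
noncomputable def mapHomological (Y : Triangulated.SpectralObject D ι) (F : D ⥤ A)
    [F.IsHomological] [F.ShiftSequence ℤ] (c : ℤ) : Abelian.SpectralObject A ι where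
  H n := Y.ω₁ ⋙ F.shift (n + c)
  δ' n₀ n₁ h :=
    { app := fun E => F.homologySequenceδ (Y.ω₂.obj E) (n₀ + c) (n₁ + c) (by omega)
      naturality := fun E E' φ => F.homologySequenceδ_naturality (φ := Y.ω₂.map φ) .. }
  exact₁' n₀ n₁ h E :=
    (F.homologySequence_exact₁ (Y.ω₂.obj E) (Y.ω₂_obj_distinguished E) (n₀ + c) (n₁ + c)
      (by omega)).exact_toComposableArrows
  exact₂' n E :=
    (F.homologySequence_exact₂ (Y.ω₂.obj E) (Y.ω₂_obj_distinguished E) (n + c)).exact_toComposableArrows
  exact₃' n₀ n₁ h E :=
    (F.homologySequence_exact₃ (Y.ω₂.obj E) (Y.ω₂_obj_distinguished E) (n₀ + c) (n₁ + c)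
      (by omega)).exact_toComposableArrows

end MapHomological

variable {B : Type u} [Category.{v} B] [Abelian B] (G : EInt ⥤ CochainComplex B ℤ)

/-- The spectral object `H^n(i ≤ j) = H^(n-1)(cone (G i ⟶ G j))`. -/
noncomputable def coneObj : Abelian.SpectralObject B EInt :=
  mapHomological ((HomotopyCategory.spectralObjectMappingCone B).precomp G)
    (HomotopyCategory.homologyFunctor B (ComplexShape.up ℤ) 0) (-1)

/-- The value of the spectral object. -/
noncomputable def coneObjIso (n : ℤ) (i j : EInt) (h : i ≤ j) (m : ℤ) (hm : m + 1 = n) :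
    Hij (coneObj G) n i j h ≅ (CochainComplex.mappingCone (G.map (homOfLE h))).homology m :=
  eqToIso (by obtain rfl : m = n + (-1) := (by omega); rfl) ≪≫
    (HomotopyCategory.homologyFunctorFactors B (ComplexShape.up ℤ) m).app
      (CochainComplex.mappingCone (G.map (homOfLE h)))

theorem exactAt_mappingCone_of_isIso {K L : CochainComplex B ℤ} (f : K ⟶ L) [IsIso f] (m : ℤ) :
    (CochainComplex.mappingCone f).ExactAt m := by
  have h := (HomotopyCategory.subcategoryAcyclic B).trW_iff_of_distinguished _
    (HomotopyCategory.mappingCone_triangleh_distinguished f)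
  rw [← HomotopyCategory.quasiIso_eq_trW_subcategoryAcyclic] at h
  have hf : HomotopyCategory.quasiIso B (ComplexShape.up ℤ)
      ((HomotopyCategory.quotient B (ComplexShape.up ℤ)).map f) := by
    rw [HomotopyCategory.quotient_map_mem_quasiIso_iff, HomologicalComplex.mem_quasiIso_iff]
    infer_instance
  exact (HomotopyCategory.quotient_obj_mem_subcategoryAcyclic_iff_acyclic _).1 (h.1 hf) m

theorem isFirstQuadrant_coneObj (h₀ : ∀ (i j : EInt) (h : i ≤ j), j ≤ ((0 : ℤ) : EInt) → IsIso (G.map (homOfLE h)))
    (hge : ∀ (n : ℤ) (i : EInt), (n : EInt) < i → (G.obj i).IsStrictlyGE (n + 1)) :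
    (coneObj G).IsFirstQuadrant where
  isZero₁ i j h hj n := by
    haveI := h₀ i j h hj
    exact IsZero.of_iso (exactAt_mappingCone_of_isIso (G.map (homOfLE h)) (n - 1)).isZero_homology
      (coneObjIso G n i j h (n - 1) (by omega))
  isZero₂ i j h n hi := by
    haveI := hge n i hi
    haveI := hge n j (hi.trans_le h)
    haveI := CochainComplex.isStrictlyGE_mappingCone (G.map (homOfLE h)) (n + 1) (n + 1) n
    refine IsZero.of_iso ?_ (coneObjIso G n i j h (n - 1) (by omega))
    exact (ShortComplex.exact_iff_isZero_homology _).1 (ShortComplex.exact_of_isZero_X₂ _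
      (CochainComplex.isZero_of_isStrictlyGE (CochainComplex.mappingCone (G.map (homOfLE h))) n
        (n - 1) (by omega) :))

end Groth.Agent.GrothSS
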