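import Groth.Prelude.Def_CohTop
import Mathlib.CategoryTheory.Sites.Pullback
import Mathlib.CategoryTheory.Functor.Flat
import Mathlib.Topology.Sheaves.SheafCondition.Sites

/-!
The inverse image of sheaves of sets along a continuous map is left exact.
-/

set_option linter.style.haveILetI false

universe u

open CategoryTheory Limits TopologicalSpace

namespace Groth.Agent.GrothSS

instance preservesFiniteLimits_opensPullback {X Y : TopCat.{u}} (f : X ⟶ Y) :
    PreservesFiniteLimits ((Opens.map f).sheafPullback (Type u) (Opens.grothendieckTopology Y)
      (Opens.grothendieckTopology X)) := by
  haveI : RepresentablyFlat (Opens.map f) := inferInstance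
  apply Functor.sheafPullbackConstruction.preservesFiniteLimits

end Groth.Agent.GrothSS
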