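import Groth.Agent.GrothSS.PageOne
import Groth.Agent.RDerLib.Horseshoe
import Mathlib.Algebra.Homology.Embedding.ExtendHomology

/-!
# The `E₁` spectral sequence of a resolution of an object

An exact sequence `0 ⟶ X ⟶ C₀ ⟶ C₁ ⟶ ⋯` and an additive functor `F` give a spectral sequence
`E₁^{p,q} = R^q F (C_p) ⇒ R^n F (X)`.
-/

set_option autoImplicit false
set_option linter.style.haveILetI false
set_option linter.unusedSectionVars false
set_option backward.isDefEq.respectTransparency false
set_option backward.isDefEq.respectTransparency.types false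

universe v v' u u'

open CategoryTheory Category Limits
open scoped ZeroObject

namespace Groth.Agent.GrothSS

variable {A : Type u} [Category.{v} A] [Abelian A] [HasInjectiveResolutions A]
  {B : Type u'} [Category.{v'} B] [Abelian B]

theorem shortExact_extend (T : ShortComplex (CochainComplex B ℕ)) (hT : T.ShortExact) :
    (T.map (ComplexShape.embeddingUpNat.extendFunctor B)).ShortExact := by
  refine HomologicalComplex.shortExact_of_degreewise_shortExact _ fun i' => ?_
  let e := ComplexShape.embeddingUpNat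
  by_cases h : ∃ i, e.f i = i'
  · obtain ⟨i, hi⟩ := h
    refine (ShortComplex.shortExact_iff_of_iso (ShortComplex.isoMk (T.X₁.extendXIso e hi)
      (T.X₂.extendXIso e hi) (T.X₃.extendXIso e hi) ?_ ?_)).2
        (hT.map_of_exact (HomologicalComplex.eval B (ComplexShape.up ℕ) i))
    · change _ = (HomologicalComplex.extendMap T.f e).f i' ≫ _
      rw [HomologicalComplex.extendMap_f _ _ hi]
      simp only [assoc, Iso.inv_hom_id]
      exact congrArg _ (comp_id _).symm
    · change _ = (HomologicalComplex.extendMap T.g e).f i' ≫ _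
      rw [HomologicalComplex.extendMap_f _ _ hi]
      simp only [assoc, Iso.inv_hom_id]
      exact congrArg _ (comp_id _).symm
  · have hz : ∀ M : CochainComplex B ℕ, IsZero ((M.extend e).X i') := fun M =>
      HomologicalComplex.isZero_extend_X M e i' fun i hi => h ⟨i, hi⟩
    exact { exact := ShortComplex.exact_of_isZero_X₂ _ (hz _)
            mono_f := ⟨fun a b _ => (hz T.X₁).eq_of_tgt a b⟩
            epi_g := ⟨fun a b _ => (hz T.X₃).eq_of_src a b⟩ }

variable (F : A ⥤ B) [F.Additive]

/-- The spectral sequence of an exact augmented sequence of objects. -/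
theorem exists_pageOne_resolution (C : ℕ → A) (d : ∀ p, C p ⟶ C (p + 1))
    (hd : ∀ p, d p ≫ d (p + 1) = 0) (X : A) (ε : X ⟶ C 0) (hε : ε ≫ d 0 = 0) (hmono : Mono ε)
    (h0 : (ShortComplex.mk ε (d 0) hε).Exact)
    (hex : ∀ p, (ShortComplex.mk (d p) (d (p + 1)) (hd p)).Exact)
    (H : ℕ → B) (E1 : ℕ → ℕ → B) (Z : B) (hZ : IsZero Z)
    (eH : ∀ n, Nonempty ((F.rightDerived n).obj X ≅ H n))
    (e1 : ∀ p q, Nonempty ((F.rightDerived q).obj (C p) ≅ E1 p q)) :
    ∃ (E : CohomologicalSpectralSequence B 1)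
      (a : SpSeq.Abutment E (fun n : ℤ => if 0 ≤ n then H n.toNat else Z)),
      (∀ n, a.IsFinite n) ∧ SpSeq.IsBounded E ∧
        ∀ p q : ℤ, Nonempty ((E.page 1 le_rfl).X (p, q) ≅
          (if 0 ≤ p ∧ 0 ≤ q then E1 p.toNat q.toNat else Z)) := by
  let S : ℕ → ShortComplex A := fun p =>
    ShortComplex.mk (kernel.ι (d p)) (kernel.lift (d (p + 1)) (d p) (hd p))
      (by rw [← cancel_mono (kernel.ι (d (p + 1))), assoc, kernel.lift_ι, zero_comp, kernel.condition])
  have hS : ∀ p, (S p).ShortExact := fun p => by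
    refine @ShortComplex.ShortExact.mk _ _ _ _ ?_ (inferInstanceAs (Mono (kernel.ι (d p)))) ?_
    · rw [ShortComplex.exact_iff_exact_up_to_refinements]
      intro T x hx
      change x ≫ kernel.lift (d (p + 1)) (d p) (hd p) = 0 at hx
      exact ⟨T, 𝟙 T, inferInstance, kernel.lift (d p) x
        (by have := hx =≫ kernel.ι (d (p + 1)); rwa [assoc, kernel.lift_ι, zero_comp] at this), by simp [S]⟩
    · exact ((ShortComplex.mk _ _ (hd p)).exact_iff_epi_kernel_lift).1 (hex p)
  haveI : IsIso (kernel.lift (d 0) ε hε) := by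
    haveI := hmono
    haveI : Mono (kernel.lift (d 0) ε hε) := mono_of_mono_fac (kernel.lift_ι _ _ _)
    haveI : Epi (kernel.lift (d 0) ε hε) := ((ShortComplex.mk _ _ hε).exact_iff_epi_kernel_lift).1 h0
    exact isIso_of_mono_of_epi _
  let R : ∀ p, InjectiveResolution (kernel (d p)) := fun p => injectiveResolution _
  have t := fun p => RDerLib.exists_twist (S := S p) (R p) (R (p + 1)) (hS p)
  let N : ∀ p, InjectiveResolution (C p) := fun p => RDerLib.midRes (S := S p) (t p).some (hS p)
  let e := ComplexShape.embeddingUpNat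
  let Φ : CochainComplex A ℕ ⥤ CochainComplex B ℤ :=
    F.mapHomologicalComplex (ComplexShape.up ℕ) ⋙ e.extendFunctor B
  let K : ℕ → CochainComplex B ℤ := fun p => Φ.obj (R p).cocomplex
  let M : ℕ → CochainComplex B ℤ := fun p => Φ.obj (N p).cocomplex
  let ι : ∀ p, K p ⟶ M p := fun p => Φ.map (RDerLib.midInl (t p).some)
  let π : ∀ p, M p ⟶ K (p + 1) := fun p => Φ.map (RDerLib.midSnd (t p).some)
  have w : ∀ p, ι p ≫ π p = 0 := fun p => by
    rw [← Φ.map_comp]
    exact (congrArg Φ.map (RDerLib.mid_zero _)).trans (Φ.map_zero _ _)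
  have hSc : ∀ p, (ShortComplex.mk (ι p) (π p) (w p)).ShortExact := fun p => by
    refine shortExact_extend _ (HomologicalComplex.shortExact_of_degreewise_shortExact
      ((ShortComplex.mk _ _ (RDerLib.mid_zero (t p).some)).map (F.mapHomologicalComplex (ComplexShape.up ℕ)))
      fun n => ?_)
    exact ((ShortComplex.Splitting.ofHasBinaryBiproduct ((R p).cocomplex.X n)
      ((R (p + 1)).cocomplex.X n)).map F).shortExact
  haveI : ∀ p, (K p).IsStrictlyGE 0 := fun p => by
    rw [CochainComplex.isStrictlyGE_iff]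
    exact fun i hi => HomologicalComplex.isZero_extend_X _ e i fun j hj => by
      change (j : ℤ) = i at hj
      omega
  haveI : ∀ p, (M p).IsStrictlyGE 0 := fun p => by
    rw [CochainComplex.isStrictlyGE_iff]
    exact fun i hi => HomologicalComplex.isZero_extend_X _ e i fun j hj => by
      change (j : ℤ) = i at hj
      omega
  have hhom : ∀ {Y : A} (I : InjectiveResolution Y) (n : ℕ),
      Nonempty ((Φ.obj I.cocomplex).homology (n : ℤ) ≅ (F.rightDerived n).obj Y) := fun I n =>
    ⟨HomologicalComplex.extendHomologyIso _ e (j := n) rfl ≪≫ (I.isoRightDerivedObj F n).symm⟩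
  refine exists_pageOne K M ι π w hSc _ (fun n => ?_)
    (fun p q => if 0 ≤ p ∧ 0 ≤ q then E1 p.toNat q.toNat else Z) (fun p q => ?_)
    (fun p q h => by rw [if_neg (by omega)]; exact hZ)
  · rcases lt_or_ge n 0 with hn | hn
    · refine ⟨(exactAt_of_lt (K 0) 0 n hn).isZero_homology.iso ?_⟩
      rw [if_neg (by omega)]
      exact hZ
    · obtain ⟨n, rfl⟩ := Int.eq_ofNat_of_zero_le hn
      exact ⟨(hhom (R 0) n).some ≪≫ (F.rightDerived n).mapIso (asIso (kernel.lift (d 0) ε hε)).symm ≪≫
        (eH n).some ≪≫ eqToIso (if_pos (Int.natCast_nonneg n)).symm⟩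
  · exact ⟨(hhom (N p) q).some ≪≫ (e1 p q).some ≪≫
      eqToIso (if_pos ⟨Int.natCast_nonneg p, Int.natCast_nonneg q⟩).symm⟩

end Groth.Agent.GrothSS
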