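import Groth.Agent.GrothSS.PageOne
import Groth.Agent.GrothSS.Main

/-!
# The `E₁` spectral sequence of a resolution by functors

A sequence of functors `0 ⟶ Γ ⟶ G₀ ⟶ G₁ ⟶ ⋯` exact on injective objects gives a spectral sequence
`E₁^{p,q} = R^q G_p ⇒ R^n Γ`.
-/

set_option autoImplicit false
set_option linter.style.haveILetI false
set_option linter.unusedSectionVars false
set_option backward.isDefEq.respectTransparency false
set_option backward.isDefEq.respectTransparency.types false

universe v v' u u'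

open CategoryTheory Category Limits
open scoped ZeroObject

namespace Groth.Agent.GrothSS

variable {B : Type u'} [Category.{v'} B] [Abelian B]

section Complexes

variable (M : ℕ → CochainComplex B ℤ) [∀ p, (M p).IsStrictlyGE 0] (d : ∀ p, M p ⟶ M (p + 1))
  (hd : ∀ p, d p ≫ d (p + 1) = 0)

include hd in
/-- The spectral sequence of a resolution by complexes, exact in each degree. -/
theorem exists_pageOne' (K₀ : CochainComplex B ℤ) (ε : K₀ ⟶ M 0) (hε : ε ≫ d 0 = 0)
    (hmono : ∀ n, Mono (ε.f n))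
    (h0 : ∀ n, (ShortComplex.mk (ε.f n) ((d 0).f n)
      (by rw [← HomologicalComplex.comp_f, hε]; rfl)).Exact)
    (hex : ∀ p n, (ShortComplex.mk ((d p).f n) ((d (p + 1)).f n)
      (by rw [← HomologicalComplex.comp_f, hd]; rfl)).Exact)
    (H : ℤ → B) (eH : ∀ n, Nonempty (K₀.homology n ≅ H n))
    (E1 : ℤ → ℤ → B) (e1 : ∀ p q : ℕ, Nonempty ((M p).homology (q : ℤ) ≅ E1 p q))
    (e0 : ∀ p q : ℤ, p < 0 ∨ q < 0 → IsZero (E1 p q)) :
    ∃ (E : CohomologicalSpectralSequence B 1) (a : SpSeq.Abutment E H),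
      (∀ n, a.IsFinite n) ∧ SpSeq.IsBounded E ∧
        ∀ p q : ℤ, Nonempty ((E.page 1 le_rfl).X (p, q) ≅ E1 p q) := by
  let K : ℕ → CochainComplex B ℤ := fun p => kernel (d p)
  let ι : ∀ p, K p ⟶ M p := fun p => kernel.ι (d p)
  let π : ∀ p, M p ⟶ K (p + 1) := fun p => kernel.lift (d (p + 1)) (d p) (hd p)
  have hmι : ∀ p n, Mono ((ι p).f n) := fun p n =>
    inferInstanceAs (Mono ((HomologicalComplex.eval B (ComplexShape.up ℤ) n).map (kernel.ι (d p))))
  have hkι : ∀ p n, (ShortComplex.mk ((ι p).f n) ((d p).f n)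
      (by rw [← HomologicalComplex.comp_f, kernel.condition]; rfl)).Exact := fun p n =>
    (ShortComplex.exact_of_f_is_kernel (ShortComplex.mk _ _ (kernel.condition (d p)))
      (kernelIsKernel (d p))).map (HomologicalComplex.eval B (ComplexShape.up ℤ) n)
  haveI : ∀ p, (K p).IsStrictlyGE 0 := fun p => by
    rw [CochainComplex.isStrictlyGE_iff]
    intro i hi
    haveI := hmι p i
    exact IsZero.of_mono ((ι p).f i) ((M p).isZero_of_isStrictlyGE 0 i hi)
  have hπι : ∀ p n, (π p).f n ≫ (ι (p + 1)).f n = (d p).f n := fun p n => by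
    rw [← HomologicalComplex.comp_f, kernel.lift_ι]
  have w : ∀ p, ι p ≫ π p = 0 := fun p => by
    rw [← cancel_mono (kernel.ι (d (p + 1))), assoc, kernel.lift_ι, zero_comp]
    exact kernel.condition (d p)
  have hS : ∀ p, (ShortComplex.mk (ι p) (π p) (w p)).ShortExact := fun p => by
    refine HomologicalComplex.shortExact_of_degreewise_shortExact _ fun n => ?_
    haveI := hmι p n
    haveI := hmι (p + 1) n
    refine @ShortComplex.ShortExact.mk _ _ _ _ ?_ ‹Mono ((ι p).f n)› ?_
    · rw [ShortComplex.exact_iff_exact_up_to_refinements]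
      intro T x hx
      change x ≫ (π p).f n = 0 at hx
      exact (hkι p n).exact_up_to_refinements x (by
        change x ≫ (d p).f n = 0
        rw [← hπι, ← assoc, hx, zero_comp])
    · change Epi ((π p).f n)
      rw [epi_iff_surjective_up_to_refinements]
      intro T y
      obtain ⟨T', t, ht, x, hx⟩ := (hex p n).exact_up_to_refinements (y ≫ (ι (p + 1)).f n) (by
        change (y ≫ (ι (p + 1)).f n) ≫ (d (p + 1)).f n = 0
        rw [assoc, ← HomologicalComplex.comp_f, kernel.condition, HomologicalComplex.zero_f, comp_zero])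
      exact ⟨T', t, ht, x, (cancel_mono ((ι (p + 1)).f n)).1
        (by rw [assoc, assoc, hπι]; exact hx)⟩
  haveI : ∀ n, IsIso ((kernel.lift (d 0) ε hε).f n) := fun n => by
    haveI := hmι 0 n
    have he : (kernel.lift (d 0) ε hε).f n ≫ (ι 0).f n = ε.f n := by
      rw [← HomologicalComplex.comp_f, kernel.lift_ι]
    haveI := hmono n
    haveI : Mono ((kernel.lift (d 0) ε hε).f n) := mono_of_mono_fac he
    haveI : Epi ((kernel.lift (d 0) ε hε).f n) := by
      rw [epi_iff_surjective_up_to_refinements]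
      intro T y
      obtain ⟨T', t, ht, x, hx⟩ := (h0 n).exact_up_to_refinements (y ≫ (ι 0).f n) (by
        change (y ≫ (ι 0).f n) ≫ (d 0).f n = 0
        rw [assoc, ← HomologicalComplex.comp_f, kernel.condition, HomologicalComplex.zero_f, comp_zero])
      exact ⟨T', t, ht, x, (cancel_mono ((ι 0).f n)).1 (by rw [assoc, assoc, he]; exact hx)⟩
    exact isIso_of_mono_of_epi _
  haveI : IsIso (kernel.lift (d 0) ε hε) := HomologicalComplex.Hom.isIso_of_components _
  exact exists_pageOne K M ι π w hS H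
    (fun n => ⟨(HomologicalComplex.homologyMapIso (asIso (kernel.lift (d 0) ε hε)) n).symm ≪≫ (eH n).some⟩)
    E1 e1 e0

end Complexes

variable {A : Type u} [Category.{v} A] [Abelian A] [HasInjectiveResolutions A]

/-- The spectral sequence of a sequence of functors exact on injective objects. -/
theorem exists_pageOne_functors (Γ : A ⥤ B) [Γ.Additive] (G : ℕ → A ⥤ B) [∀ p, (G p).Additive]
    (ε : Γ ⟶ G 0) (d : ∀ p, G p ⟶ G (p + 1)) (hε : ∀ X, ε.app X ≫ (d 0).app X = 0)
    (hd : ∀ p X, (d p).app X ≫ (d (p + 1)).app X = 0)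
    (hmono : ∀ I : A, Injective I → Mono (ε.app I))
    (h0 : ∀ I : A, Injective I → (ShortComplex.mk (ε.app I) ((d 0).app I) (hε I)).Exact)
    (hex : ∀ p (I : A), Injective I →
      (ShortComplex.mk ((d p).app I) ((d (p + 1)).app I) (hd p I)).Exact)
    (X : A) (H : ℕ → B) (E1 : ℕ → ℕ → B) (Z : B) (hZ : IsZero Z)
    (eH : ∀ n, Nonempty ((Γ.rightDerived n).obj X ≅ H n))
    (e1 : ∀ p q, Nonempty (((G p).rightDerived q).obj X ≅ E1 p q)) :
    ∃ (E : CohomologicalSpectralSequence B 1)
      (a : SpSeq.Abutment E (fun n : ℤ => if 0 ≤ n then H n.toNat else Z)),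
      (∀ n, a.IsFinite n) ∧ SpSeq.IsBounded E ∧
        ∀ p q : ℤ, Nonempty ((E.page 1 le_rfl).X (p, q) ≅
          (if 0 ≤ p ∧ 0 ≤ q then E1 p.toNat q.toNat else Z)) := by
  let R := injectiveResolution X
  let c := ComplexShape.up ℤ
  let K₀ : CochainComplex B ℤ := (Γ.mapHomologicalComplex c).obj R.cochainComplex
  let M : ℕ → CochainComplex B ℤ := fun p => ((G p).mapHomologicalComplex c).obj R.cochainComplex
  haveI : ∀ p, (M p).IsStrictlyGE 0 := fun p =>
    inferInstanceAs (CochainComplex.IsStrictlyGE (((G p).mapHomologicalComplex (ComplexShape.up ℤ)).obj R.cochainComplex) 0)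
  haveI : K₀.IsStrictlyGE 0 :=
    inferInstanceAs (CochainComplex.IsStrictlyGE ((Γ.mapHomologicalComplex (ComplexShape.up ℤ)).obj R.cochainComplex) 0)
  have hinj : ∀ n, Injective (R.cochainComplex.X n) := fun n => inferInstance
  refine exists_pageOne' M (fun p => (NatTrans.mapHomologicalComplex (d p) c).app R.cochainComplex)
    (fun p => HomologicalComplex.hom_ext _ _ fun n => hd p _) K₀
    ((NatTrans.mapHomologicalComplex ε c).app R.cochainComplex)
    (HomologicalComplex.hom_ext _ _ fun n => hε _) (fun n => hmono _ (hinj n)) (fun n => h0 _ (hinj n))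
    (fun p n => hex p _ (hinj n)) _ (fun n => ?_)
    (fun p q => if 0 ≤ p ∧ 0 ≤ q then E1 p.toNat q.toNat else Z) (fun p q => ?_)
    (fun p q h => by rw [if_neg (by omega)]; exact hZ)
  · rcases lt_or_ge n 0 with hn | hn
    · refine ⟨(exactAt_of_lt K₀ 0 n hn).isZero_homology.iso ?_⟩
      rw [if_neg (by omega)]
      exact hZ
    · obtain ⟨n, rfl⟩ := Int.eq_ofNat_of_zero_le hn
      exact ⟨(nonempty_homology_map_resolution Γ R n).some ≪≫ (eH n).some ≪≫
        eqToIso (if_pos (Int.natCast_nonneg n)).symm⟩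
  · exact ⟨(nonempty_homology_map_resolution (G p) R q).some ≪≫ (e1 p q).some ≪≫
      eqToIso (if_pos ⟨Int.natCast_nonneg p, Int.natCast_nonneg q⟩).symm⟩

end Groth.Agent.GrothSS
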