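import Groth.Agent.GrothSS.Global
import Groth.Agent.GrothSS.NullOn
import Groth.Agent.SiteCoh.TotAcyclic

/-!
# `ℤ/ℤ_U` on a site: it is torsion free and maps out of it are global sections vanishing on `U`
-/

set_option autoImplicit false
set_option linter.style.haveILetI false
set_option linter.unusedSectionVars false
set_option backward.isDefEq.respectTransparency false
set_option backward.isDefEq.respectTransparency.types false
set_option maxHeartbeats 1000000

universe u

open CategoryTheory Category Limits Opposite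

namespace Groth.Agent.GrothSS

variable {C : Type u} [SmallCategory C] (J : GrothendieckTopology C) (U : C)

/-- The map of presheaves `ℤ[h_U] → ℤ`. -/
def augPre : yoneda.obj U ⋙ AddCommGrpCat.free.{u} ⟶ constPre C where
  app V := AddCommGrpCat.ofHom
    (FreeAbelianGroup.lift (fun _ : (yoneda.obj U).obj V => (ULift.up 1 : ULift.{u} ℤ)))
  naturality V W f := by
    refine AddCommGrpCat.hom_ext (FreeAbelianGroup.lift_ext _ _ fun (g : V.unop ⟶ U) => ?_)
    change FreeAbelianGroup.lift _ (FreeAbelianGroup.of _) = FreeAbelianGroup.lift _ (FreeAbelianGroup.of g)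
    rw [FreeAbelianGroup.lift_apply_of, FreeAbelianGroup.lift_apply_of]

theorem augPre_of (V : Cᵒᵖ) (g : V.unop ⟶ U) :
    ((augPre U).app V).hom (FreeAbelianGroup.of g) = ULift.up 1 :=
  FreeAbelianGroup.lift_apply_of _ g

/-- The presheaf `ℤ/ℤ_U`. -/
noncomputable abbrev quotPre : Cᵒᵖ ⥤ AddCommGrpCat.{u} := cokernel (augPre U)

theorem torsionFree_quotPre : ModSiteHom.TorsionFree (quotPre U) := by
  intro n hn
  haveI : ∀ V : Cᵒᵖ, Mono ((n • 𝟙 (quotPre U)).app V) := fun V => by
    rw [AddCommGrpCat.mono_iff_injective, injective_iff_map_eq_zero]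
    intro (x : (quotPre U).obj V) hx
    change n • x = 0 at hx
    let Ev := (evaluation Cᵒᵖ AddCommGrpCat.{u}).obj V
    haveI : Epi ((cokernel.π (augPre U)).app V) := inferInstanceAs (Epi (Ev.map (cokernel.π (augPre U))))
    obtain ⟨z, rfl⟩ : ∃ z : ULift.{u} ℤ, ((cokernel.π (augPre U)).app V).hom z = x :=
      (AddCommGrpCat.epi_iff_surjective ((cokernel.π (augPre U)).app V)).mp inferInstance x
    have hexV : Function.Exact ((augPre U).app V) ((cokernel.π (augPre U)).app V) :=
      (ShortComplex.ab_exact_iff_function_exact _).mp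
        (((ShortComplex.exact_of_g_is_cokernel (ShortComplex.mk (augPre U) (cokernel.π (augPre U))
          (cokernel.condition _)) (cokernelIsCokernel _))).map Ev)
    by_cases hV : Nonempty (V.unop ⟶ U)
    · obtain ⟨g⟩ := hV
      refine (hexV z).mpr ⟨z.down • FreeAbelianGroup.of g, ?_⟩
      rw [map_zsmul]
      refine (congrArg (fun t => z.down • t) (augPre_of U V g)).trans (ULift.ext _ _ ?_)
      change z.down • (1 : ℤ) = z.down
      rw [smul_eq_mul, mul_one]
    · haveI : IsEmpty (V.unop ⟶ U) := not_nonempty_iff.mp hV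
      have hz : ((cokernel.π (augPre U)).app V).hom (n • z) = 0 := by
        rw [map_nsmul]
        exact hx
      obtain ⟨w, hw⟩ := (hexV (n • z)).mp hz
      have hw0 : w = 0 := by
        haveI : Subsingleton (FreeAbelianGroup (V.unop ⟶ U)) :=
          (FreeAbelianGroup.equivFinsupp (V.unop ⟶ U)).injective.subsingleton
        exact Subsingleton.elim (α := FreeAbelianGroup (V.unop ⟶ U)) w 0
      rw [hw0, map_zero] at hw
      have hd : n • z.down = n • (0 : ℤ) := (congrArg ULift.down hw).symm.trans (smul_zero n).symm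
      have hz0 : z = 0 := ULift.ext _ _ (nsmul_right_injective hn hd)
      rw [hz0]
      exact map_zero _
  exact NatTrans.mono_of_mono_app _

instance (K : Sheaf J (Type u)) (V : Cᵒᵖ) [h : Unique (K.obj.obj V)] :
    Unique ((K.obj ⋙ 𝟭 (Type u)).obj V) := h

/-- The free abelian presheaf on a presheaf of singletons is the constant presheaf. -/
noncomputable def freeUniqueIso (K : Cᵒᵖ ⥤ Type u) (hK : ∀ V, Unique (K.obj V)) :
    K ⋙ AddCommGrpCat.free.{u} ≅ constPre C :=
  NatIso.ofComponents (fun V => AddEquiv.toAddCommGrpIso (show FreeAbelianGroup (K.obj V) ≃+ ULift.{u} ℤ from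
    { toFun := FreeAbelianGroup.lift fun _ => (ULift.up 1 : ULift.{u} ℤ)
      invFun := fun z => z.down • FreeAbelianGroup.of (hK V).default
      left_inv := fun x => by
        induction x using FreeAbelianGroup.induction_on with
        | zero => simp
        | of a =>
          rw [FreeAbelianGroup.lift_apply_of]
          change (1 : ℤ) • _ = _
          rw [one_zsmul, (hK V).uniq a]
        | neg a ha =>
          dsimp only at ha ⊢
          rw [map_neg]
          exact (neg_zsmul _ _).trans (congrArg Neg.neg ha)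
        | add a b ha hb =>
          dsimp only at ha hb ⊢
          rw [map_add]
          exact (add_zsmul _ _ _).trans (congrArg₂ (· + ·) ha hb)
      right_inv := fun z => by
        rw [map_zsmul, FreeAbelianGroup.lift_apply_of]
        exact ULift.ext _ _ ((smul_eq_mul _ _).trans (mul_one _))
      map_add' := map_add _ }))
    fun {V W} f => by
      refine AddCommGrpCat.hom_ext (FreeAbelianGroup.lift_ext _ _ fun a => ?_)
      change FreeAbelianGroup.lift _ (FreeAbelianGroup.of _) = FreeAbelianGroup.lift _ (FreeAbelianGroup.of a)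
      rw [FreeAbelianGroup.lift_apply_of, FreeAbelianGroup.lift_apply_of]

/-- The terminal sheaf of sets has exactly one section over each object. -/
noncomputable def uniqueTerminal (V : Cᵒᵖ) : Unique ((⊤_ Sheaf J (Type u)).obj.obj V) :=
  Types.isTerminalEquivUnique _ (IsTerminal.isTerminalObj
    (sheafToPresheaf J (Type u) ⋙ (evaluation _ _).obj V) _ terminalIsTerminal)

/-- `ℤ_U → ℤ` at the level of sheaves. -/
noncomputable abbrev augSh : CohCx.freeSheaf J U ⟶ SiteCoh.constZ J :=
  (presheafToSheaf J AddCommGrpCat.{u}).map (augPre U)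

/-- `ℤ/ℤ_U` is the cokernel of `ℤ_U → ℤ`. -/
noncomputable def quotZIso : ToposFin.quotZ (ToposFin.eps J U) ≅ cokernel (augSh J U) :=
  let L := presheafToSheaf J AddCommGrpCat.{u}
  let a : CohCx.freeSheaf J U ≅ (ToposFin.freeAb J).obj (ToposFin.eps J U) :=
    asIso (L.map (Functor.whiskerRight (toSheafify J (yoneda.obj U)) AddCommGrpCat.free.{u}))
  let b : (ToposFin.freeAb J).obj (⊤_ Sheaf J (Type u)) ≅ SiteCoh.constZ J :=
    L.mapIso (freeUniqueIso _ (uniqueTerminal J))
  cokernel.mapIso ((ToposFin.freeAb J).map (terminal.from (ToposFin.eps J U))) (augSh J U) a.symm b (by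
    rw [Iso.symm_hom, Iso.eq_inv_comp]
    change L.map (Functor.whiskerRight (toSheafify J (yoneda.obj U)) AddCommGrpCat.free.{u}) ≫
      L.map (Functor.whiskerRight (terminal.from (ToposFin.eps J U)).hom AddCommGrpCat.free.{u}) ≫
        L.map (freeUniqueIso _ (uniqueTerminal J)).hom = L.map (augPre U)
    rw [← L.map_comp, ← L.map_comp]
    congr 1
    refine NatTrans.ext (funext fun V => AddCommGrpCat.hom_ext (FreeAbelianGroup.lift_ext _ _ fun g => ?_))
    refine Eq.trans ?_ (augPre_of U V g).symm
    exact (congrArg (fun t => ((freeUniqueIso _ (uniqueTerminal J)).hom.app V).hom t)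
      ((congrArg _ (FreeAbelianGroup.map_of_apply _)).trans (FreeAbelianGroup.map_of_apply _))).trans
        (FreeAbelianGroup.lift_apply_of _ _))

theorem torsionFree_quotZ : ModSiteHom.TorsionFree (ToposFin.quotZ (ToposFin.eps J U)) :=
  ModSiteHom.TorsionFree.of_mono
    (quotZIso J U ≪≫ (PreservesCokernel.iso (presheafToSheaf J AddCommGrpCat.{u}) (augPre U)).symm).hom
    ((torsionFree_quotPre U).map _)

variable {J} {O : Sheaf J CommRingCat.{u}}

/-- A global section kills `ℤ_U → ℤ` iff it vanishes on `U`. -/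
theorem augSh_comp_eq_zero_iff (G : ModSite.Mod O) (φ : SiteCoh.constZ J ⟶ ModSite.toAb G) :
    augSh J U ≫ φ = 0 ↔ (ModSite.restr O U).map (constZHomEquiv G φ) = 0 := by
  let adj := sheafificationAdjunction J AddCommGrpCat.{u}
  let φ' : constPre C ⟶ (ModSite.toAb G).obj := adj.homEquiv (constPre C) (ModSite.toAb G) φ
  have h0 : adj.homEquiv (yoneda.obj U ⋙ AddCommGrpCat.free.{u}) (ModSite.toAb G) 0 = 0 := by
    rw [Adjunction.homEquiv_unit, Functor.map_zero, comp_zero]
  have h1 : augSh J U ≫ φ = 0 ↔ augPre U ≫ φ' = 0 := by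
    rw [← (adj.homEquiv _ _).injective.eq_iff, adj.homEquiv_naturality_left, h0]
  have hs : ∀ V : Cᵒᵖ, φ'.app V (ULift.up 1) =
      (constZHomEquiv G φ).val.app V (1 : (ModSite.ringSh O).obj.obj V) := fun V => by
    refine (congrArg (fun t : constPre C ⟶ (ModSite.toAb G).obj => t.app V (ULift.up 1))
      ((constPreHomEquiv G).apply_symm_apply φ')).symm.trans ?_
    exact one_zsmul _
  rw [h1, restr_map_eq_zero_iff]
  constructor
  · intro h V g x
    have hV : φ'.app (op V) (ULift.up 1) = 0 := by
      rw [← augPre_of U (op V) g]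
      exact congrArg (fun t : yoneda.obj U ⋙ AddCommGrpCat.free.{u} ⟶ (ModSite.toAb G).obj =>
        (t.app (op V)).hom (FreeAbelianGroup.of g)) h
    rw [hs] at hV
    have hx : x = (show (ModSite.ringSh O).obj.obj (op V) from x) • (1 : (ModSite.ringSh O).obj.obj (op V)) :=
      (mul_one (show (ModSite.ringSh O).obj.obj (op V) from x)).symm
    rw [hx]
    refine (map_smul ((constZHomEquiv G φ).val.app (op V)).hom _ _).trans ?_
    exact (congrArg _ hV).trans (smul_zero _)
  · intro h
    refine NatTrans.ext (funext fun V => AddCommGrpCat.hom_ext (FreeAbelianGroup.lift_ext _ _ fun g => ?_))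
    change φ'.app V ((augPre U).app V (FreeAbelianGroup.of g)) = 0
    refine (congrArg (φ'.app V) (augPre_of U V g)).trans ((hs V).trans ?_)
    exact h g _

variable [ModSite.HasPushOver O U]

/-- `Hom(ℤ/ℤ_U, G) = Hom(O, Γ_Z G)`. -/
noncomputable def quotZHomEquiv (G : ModSite.Mod O) :
    (ToposFin.quotZ (ToposFin.eps J U) ⟶ ModSite.toAb G) ≃+
      (ModSite.unit O ⟶ (ModSite.sectOn O U).obj G) where
  toFun ψ := sectLift (constZHomEquiv G (cokernel.π (augSh J U) ≫ (quotZIso J U).inv ≫ ψ))
    ((augSh_comp_eq_zero_iff U G _).mp (by rw [cokernel.condition_assoc, zero_comp]))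
  invFun t := (quotZIso J U).hom ≫
    cokernel.desc _ ((constZHomEquiv G).symm (t ≫ (ModSite.sectOnι O U).app G))
      ((augSh_comp_eq_zero_iff U G _).mpr (by rw [AddEquiv.apply_symm_apply]; exact restr_comp_ι t))
  left_inv ψ := by
    dsimp only
    simp only [sectLift_ι, AddEquiv.symm_apply_apply]
    rw [← Iso.eq_inv_comp, ← cancel_epi (cokernel.π (augSh J U)), cokernel.π_desc]
  right_inv t := by
    rw [← cancel_mono ((ModSite.sectOnι O U).app G), sectLift_ι]
    simp
  map_add' a b := by
    rw [← cancel_mono ((ModSite.sectOnι O U).app G), Preadditive.add_comp, sectLift_ι, sectLift_ι,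
      sectLift_ι, Preadditive.comp_add, Preadditive.comp_add, map_add]

theorem quotZHomEquiv_ι {G : ModSite.Mod O} (ψ : ToposFin.quotZ (ToposFin.eps J U) ⟶ ModSite.toAb G) :
    quotZHomEquiv U G ψ ≫ (ModSite.sectOnι O U).app G =
      constZHomEquiv G (cokernel.π (augSh J U) ≫ (quotZIso J U).inv ≫ ψ) :=
  sectLift_ι _ ((augSh_comp_eq_zero_iff U G _).mp (by rw [cokernel.condition_assoc, zero_comp]))

theorem quotZHomEquiv_comp {G G' : ModSite.Mod O} (ψ : ToposFin.quotZ (ToposFin.eps J U) ⟶ ModSite.toAb G)
    (g : G ⟶ G') :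
    quotZHomEquiv U G' (ψ ≫ (SheafOfModules.toSheaf (ModSite.ringSh O)).map g) =
      quotZHomEquiv U G ψ ≫ (ModSite.sectOn O U).map g := by
  rw [← cancel_mono ((ModSite.sectOnι O U).app G')]
  have hnat : (ModSite.sectOn O U).map g ≫ (ModSite.sectOnι O U).app G' = (ModSite.sectOnι O U).app G ≫ g :=
    (ModSite.sectOnι O U).naturality g
  rw [assoc, hnat, ← assoc]
  rw [quotZHomEquiv_ι, quotZHomEquiv_ι]
  refine Eq.trans (congrArg (constZHomEquiv G') ?_) (constZHomEquiv_comp _ g)
  simp only [assoc]

end Groth.Agent.GrothSS
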