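import Groth.Agent.GrothSS.LocAcyclic
import Groth.Agent.GrothSS.CompAcyclicNat
import Groth.Agent.ModSiteFlat.PushColim
import Groth.Agent.QCAlg.Colim

/-!
Cohomology with supports commutes with restriction of scalars.
-/

set_option autoImplicit false
set_option linter.style.haveILetI false
set_option linter.unusedSectionVars false
set_option backward.isDefEq.respectTransparency false
set_option backward.isDefEq.respectTransparency.types false
set_option maxHeartbeats 1000000

universe u

open CategoryTheory Category Limits Opposite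

namespace Groth.Agent.GrothSS

variable {C : Type u} [SmallCategory C] {J : GrothendieckTopology C} {O O' : Sheaf J CommRingCat.{u}} (φ : O ⟶ O')
  (U : C) [ModSite.HasPushOver O U] [ModSite.HasPushOver O' U]

/-- restriction of scalars -/
noncomputable abbrev RS : ModSite.Mod O' ⥤ ModSite.Mod O :=
  SheafOfModules.restrictScalars ((sheafCompose J (forget₂ CommRingCat.{u} RingCat.{u})).map φ)

lemma restr_RS_map_ι (M : ModSite.Mod O') :
    (ModSite.restr O U).map ((RS φ).map ((ModSite.sectOnι O' U).app M)) = 0 := by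
  rw [restr_map_eq_zero_iff]
  intro W w x
  have h := restr_comp_ι (O := O') (U := U) (𝟙 ((ModSite.sectOn O' U).obj M))
  rw [id_comp] at h
  exact (restr_map_eq_zero_iff O' U _).1 h w x

/-- comparison -/
noncomputable def sectScalarsTo (M : ModSite.Mod O') :
    (RS φ).obj ((ModSite.sectOn O' U).obj M) ⟶ (ModSite.sectOn O U).obj ((RS φ).obj M) :=
  sectLift _ (restr_RS_map_ι φ U M)

lemma sectScalarsTo_ι (M : ModSite.Mod O') :
    sectScalarsTo φ U M ≫ (ModSite.sectOnι O U).app ((RS φ).obj M) = (RS φ).map ((ModSite.sectOnι O' U).app M) :=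
  sectLift_ι _ _

instance isIso_sectScalarsTo (M : ModSite.Mod O') : IsIso (sectScalarsTo φ U M) := by
  have hbij : ∀ Y : Cᵒᵖ, Function.Bijective ((sectScalarsTo φ U M).val.app Y).hom := fun ⟨Y⟩ => by
    have hι : ∀ m, ((ModSite.sectOnι O U).app ((RS φ).obj M)).val.app (op Y)
        ((sectScalarsTo φ U M).val.app (op Y) m) = ((ModSite.sectOnι O' U).app M).val.app (op Y) m := fun m =>
      congrArg (fun τ : (RS φ).obj ((ModSite.sectOn O' U).obj M) ⟶ (RS φ).obj M => (τ.val.app (op Y)).hom m)
        (sectScalarsTo_ι φ U M)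
    haveI : Mono ((ModSite.sectOnι O' U).app M).val := (SheafOfModules.forget (ModSite.ringSh O')).map_mono _
    haveI : Mono ((ModSite.sectOnι O U).app ((RS φ).obj M)).val := (SheafOfModules.forget (ModSite.ringSh O)).map_mono _
    refine ⟨fun a b h => ?_, fun y => ?_⟩
    · refine PresheafOfModules.injective_of_mono ((ModSite.sectOnι O' U).app M).val (op Y) ?_
      exact (hι a).symm.trans ((congrArg _ h).trans (hι b))
    · obtain ⟨m, hm⟩ := (mem_range_sectOnι_iff O' U M Y _).2 fun W a b =>
        (mem_range_sectOnι_iff O U ((RS φ).obj M) Y _).1 ⟨y, rfl⟩ a b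
      exact ⟨m, PresheafOfModules.injective_of_mono ((ModSite.sectOnι O U).app ((RS φ).obj M)).val (op Y)
        ((hι m).trans hm)⟩
  haveI : IsIso ((SheafOfModules.forget (ModSite.ringSh O)).map (sectScalarsTo φ U M)) := by
    haveI : ∀ Y, IsIso ((sectScalarsTo φ U M).val.app Y) := fun Y => (ConcreteCategory.isIso_iff_bijective _).2 (hbij Y)
    exact (PresheafOfModules.isoMk (fun Y => asIso ((sectScalarsTo φ U M).val.app Y))
      fun {Y Y'} g => (sectScalarsTo φ U M).val.naturality g).isIso_hom
  exact isIso_of_fully_faithful (SheafOfModules.forget (ModSite.ringSh O)) _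

/-- `Γ_Z` commutes with restriction of scalars -/
noncomputable def sectScalarsIso : ModSite.sectOn O' U ⋙ RS φ ≅ RS φ ⋙ ModSite.sectOn O U :=
  NatIso.ofComponents (fun M => asIso (sectScalarsTo φ U M)) fun {M N} g => by
    show (RS φ).map ((ModSite.sectOn O' U).map g) ≫ sectScalarsTo φ U N =
      sectScalarsTo φ U M ≫ (ModSite.sectOn O U).map ((RS φ).map g)
    have e : (ModSite.sectOn O U).map ((RS φ).map g) ≫ (ModSite.sectOnι O U).app ((RS φ).obj N) =
        (ModSite.sectOnι O U).app ((RS φ).obj M) ≫ (RS φ).map g := (ModSite.sectOnι O U).naturality _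
    rw [← cancel_mono ((ModSite.sectOnι O U).app ((RS φ).obj N)), assoc, sectScalarsTo_ι, assoc, e, ← assoc,
      sectScalarsTo_ι, ← Functor.map_comp, ← Functor.map_comp]
    exact congrArg _ ((ModSite.sectOnι O' U).naturality g)

/-- `ℋ^q_Z` commutes with restriction of scalars -/
theorem nonempty_HZsh_restrictScalars [HasInjectiveResolutions (ModSite.Mod O)]
    [HasInjectiveResolutions (ModSite.Mod O')] (q : ℕ) :
    Nonempty (ModSite.HZsh O' U q ⋙ RS φ ≅ RS φ ⋙ ModSite.HZsh O U q) := by
  haveI : PreservesLimitsOfSize.{u, u} (RS φ) :=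
    ModSiteFlat.preservesLimits_restrictScalars _
  haveI : PreservesColimitsOfSize.{u, u} (RS φ) := QCAlg.restrictScalars_preservesColimitsOfSize _
  haveI : PreservesLimitsOfSize.{0, 0} (RS φ) := preservesSmallestLimits_of_preservesLimits _
  haveI : PreservesColimitsOfSize.{0, 0} (RS φ) := preservesSmallestColimits_of_preservesColimits _
  haveI := preservesBinaryBiproducts_of_preservesBinaryProducts (RS φ)
  haveI : (RS φ).Additive := Functor.additive_of_preservesBinaryBiproducts _
  haveI : (RS φ).PreservesHomology := Functor.preservesHomologyOfExact _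
  haveI : EnoughInjectives (ModSite.Mod O') := ⟨fun X => ⟨_, (injectiveResolution X).injective 0,
    (injectiveResolution X).ι.f 0, inferInstance⟩⟩
  obtain ⟨i⟩ := nonempty_rightDerived_comp_acyclic_nat (RS φ) (ModSite.sectOn O U) (fun Q hQ k =>
    isZero_HZsh_of_totallyAcyclic O U k ((RS φ).obj Q)
      (W7TotAcyc.isTotallyAcyclic_injective_module (R := ModSite.ringSh O') (I := Q))) q
  exact ⟨(ExtShX.postCompIso (ModSite.sectOn O' U) (RS φ) q).symm ≪≫
    GrothSS.rightDerivedMapIso (sectScalarsIso φ U) q ≪≫ i⟩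

end Groth.Agent.GrothSS
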