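import Groth.Agent.GrothSS.LocAcyclic
import Groth.Agent.GrothSS.DerTriangle
import Groth.Agent.ExtShX.SiteRestr

/-!
Cohomology with supports for a subterminal object.
-/

set_option autoImplicit false
set_option linter.style.haveILetI false
set_option linter.unusedSectionVars false
set_option backward.isDefEq.respectTransparency false
set_option backward.isDefEq.respectTransparency.types false
set_option maxHeartbeats 1000000

universe u

open CategoryTheory Category Limits Opposite

namespace Groth.Agent.GrothSS

variable {C : Type u} [SmallCategory C] {J : GrothendieckTopology C} (O : Sheaf J CommRingCat.{u}) (U : C)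

/-- maps into injective modules extend from `U` -/
theorem exists_extend_injective (hU : ∀ V : C, Subsingleton (V ⟶ U)) (P I : ModSite.Mod O) [Injective I]
    (φ : (ModSite.restr O U).obj P ⟶ (ModSite.restr O U).obj I) : ∃ χ : P ⟶ I, (ModSite.restr O U).map χ = φ := by
  let P₀ : ModSiteExt.PM O.obj := (ModSiteExt.toPM O).obj P
  let I₀ : ModSiteExt.PM O.obj := (ModSiteExt.toPM O).obj I
  let φ₀ : (ModSiteExt.res O.obj U).obj P₀ ⟶ (ModSiteExt.res O.obj U).obj I₀ := φ.val
  let c : ModSiteExt.extZeroObj ((ModSiteExt.res O.obj U).obj P₀) ⟶ P₀ :=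
    ModSiteExt.descHom (𝟙 ((ModSiteExt.res O.obj U).obj P₀))
  let d : ModSiteExt.extZeroObj ((ModSiteExt.res O.obj U).obj P₀) ⟶ I₀ := ModSiteExt.descHom φ₀
  haveI : ∀ W, Mono (c.app W) := fun W => by
    classical
    refine (ModuleCat.mono_iff_injective _).2 ?_
    haveI := hU W.unop
    refine (injective_iff_map_eq_zero (c.app W).hom).2 fun z hz => ?_
    by_cases hW : Nonempty (W.unop ⟶ U)
    · obtain ⟨g⟩ := hW
      have hs : ∀ (x : ModSiteExt.val ((ModSiteExt.res O.obj U).obj P₀) W),
          x = ModSiteExt.incl W g (x g) := fun x => by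
        refine DFinsupp.ext fun g' => ?_
        obtain rfl : g = g' := Subsingleton.elim _ _
        unfold ModSiteExt.incl
        rw [DirectSum.lof_eq_of]
        convert (DirectSum.of_eq_same g (x g)).symm
      let z' : ModSiteExt.val ((ModSiteExt.res O.obj U).obj P₀) W := z
      have h1 := ModSiteExt.descHom_incl (𝟙 ((ModSiteExt.res O.obj U).obj P₀)) W g (z' g)
      rw [← hs z'] at h1
      have h2 : z' g = 0 := h1.symm.trans hz
      change z' = 0
      rw [hs z', h2, map_zero]
    · haveI : IsEmpty (W.unop ⟶ U) := not_nonempty_iff.1 hW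
      change (z : ModSiteExt.val ((ModSiteExt.res O.obj U).obj P₀) W) = 0
      exact DFinsupp.ext fun g => isEmptyElim g
  haveI : Mono c := by
    refine (PresheafOfModules.toPresheaf _).mono_of_mono_map ?_
    haveI : ∀ W, Mono (((PresheafOfModules.toPresheaf _).map c).app W) := fun W => by
      refine (AddCommGrpCat.mono_iff_injective _).2 ?_
      exact (ModuleCat.mono_iff_injective (c.app W)).1 inferInstance
    exact NatTrans.mono_of_mono_app _
  haveI : Injective I₀ :=
    Injective.injective_of_adjoint (PresheafOfModules.sheafificationAdjunction.{u} (R := ModSite.ringSh O)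
      (𝟙 (ModSite.ringSh O).obj)) I
  let χ₀ : P₀ ⟶ I₀ := Injective.factorThru d c
  have hχ : c ≫ χ₀ = d := Injective.comp_factorThru _ _
  refine ⟨(SheafOfModules.fullyFaithfulForget (ModSite.ringSh O)).preimage χ₀, ?_⟩
  refine SheafOfModules.hom_ext (PresheafOfModules.hom_ext fun V => ?_)
  ext x
  have h := ConcreteCategory.congr_hom (congrArg (fun t => PresheafOfModules.Hom.app t (op V.unop.left)) hχ)
    (ModSiteExt.incl (P := (ModSiteExt.res O.obj U).obj P₀) (op V.unop.left) V.unop.hom x)
  refine Eq.trans ?_ (ModSiteExt.descHom_incl φ₀ (op V.unop.left) V.unop.hom x)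
  refine Eq.trans ?_ h
  exact congrArg (χ₀.app (op V.unop.left))
    (ModSiteExt.descHom_incl (𝟙 ((ModSiteExt.res O.obj U).obj P₀)) (op V.unop.left) V.unop.hom x).symm

variable [ModSite.HasPushOver O U]

/-- the unit is epi on injective modules -/
theorem epi_unit_injective (hU : ∀ V : C, Subsingleton (V ⟶ U)) (I : ModSite.Mod O) [Injective I] :
    Epi ((ModSite.restrPushOverAdj O U).unit.app I) := by
  let adj := ModSite.restrPushOverAdj O U
  obtain ⟨χ, hχ⟩ := exists_extend_injective O U hU ((ModSite.pushOver O U).obj ((ModSite.restr O U).obj I)) I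
    (adj.counit.app _)
  have h : χ ≫ adj.unit.app I = 𝟙 _ := by
    refine (comp_unit_eq χ).trans ?_
    rw [hχ, adj.homEquiv_unit]
    exact adj.right_triangle_components _
  exact @IsSplitEpi.epi _ _ _ _ _ ⟨⟨⟨χ, h⟩⟩⟩

theorem nonempty_HZsh_subterminal (hU : ∀ V : C, Subsingleton (V ⟶ U)) [(ModSite.pushOver O U).Additive]
    [HasInjectiveResolutions (ModSite.Mod O)] [HasInjectiveResolutions (ModSite.Mod (O.over U))] :
    Nonempty (ModSite.HZsh O U 1 ≅ cokernel (ModSite.restrPushOverAdj O U).unit) ∧
      ∀ q : ℕ, 1 ≤ q → Nonempty (ModSite.HZsh O U (q + 1) ≅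
        ModSite.restr O U ⋙ (ModSite.pushOver O U).rightDerived q) := by
  haveI : PreservesColimitsOfSize.{0, 0} (ModSite.restr O U) :=
    (ModSite.restrPushOverAdj O U).leftAdjoint_preservesColimits
  haveI : PreservesLimitsOfSize.{0, 0} (ModSite.restr O U) := (ModSite.extZeroAdj O U).rightAdjoint_preservesLimits
  haveI := preservesBinaryBiproducts_of_preservesBinaryProducts (ModSite.restr O U)
  haveI : (ModSite.restr O U).Additive := Functor.additive_of_preservesBinaryBiproducts _
  haveI : (ModSite.restr O U).PreservesHomology := Functor.preservesHomologyOfExact _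
  haveI := ModSiteExt.preservesFiniteLimits_extZero O U
  haveI : (ModSite.restr O U).PreservesInjectiveObjects :=
    ⟨fun {I} hI => @Injective.injective_of_adjoint _ _ _ _ _ _ inferInstance (ModSite.extZeroAdj O U) I hI⟩
  haveI : PreservesLimitsOfSize.{0, 0} (ModSite.pushOver O U) :=
    (ModSite.restrPushOverAdj O U).rightAdjoint_preservesLimits
  let α : ModSite.sectOn O U ⟶ 𝟭 (ModSite.Mod O) := ModSite.sectOnι O U
  let β : 𝟭 (ModSite.Mod O) ⟶ ModSite.restr O U ⋙ ModSite.pushOver O U := (ModSite.restrPushOverAdj O U).unit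
  have w : ∀ X, α.app X ≫ β.app X = 0 := fun X => kernel.condition _
  have hse : ∀ I, Injective I → (ShortComplex.mk (α.app I) (β.app I) (w I)).ShortExact := fun I hI => by
    haveI := epi_unit_injective O U hU I
    exact { exact := ShortComplex.exact_of_f_is_kernel _ (kernelIsKernel (β.app I))
            mono_f := inferInstanceAs (Mono (kernel.ι (β.app I))) }
  refine ⟨nonempty_tri_one α β w hse, fun q hq => ?_⟩
  obtain ⟨p, rfl⟩ : ∃ p, q = p + 1 := ⟨q - 1, by omega⟩
  obtain ⟨e⟩ := nonempty_tri_iso α β w hse p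
  exact ⟨e ≪≫ DerExt.rightDerivedCompIso (ModSite.restr O U) (ModSite.pushOver O U) (p + 1)⟩

end Groth.Agent.GrothSS
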