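import Groth.Agent.GrothSS.Ext
import Groth.Agent.GrothSS.OpensPull
import Groth.Agent.LCZ.Derived
import Groth.Agent.SiteCoh.PushAcyclic

/-!
# Spectral sequences of cohomology with supports on spaces
-/

set_option autoImplicit false
set_option linter.style.haveILetI false
set_option linter.unusedSectionVars false
set_option backward.isDefEq.respectTransparency false
set_option backward.isDefEq.respectTransparency.types false

universe u

open CategoryTheory Category Limits Opposite TopologicalSpace Abelian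

namespace Groth.Agent.GrothSS

variable {X : TopCat.{u}}

theorem zqSec_add {W V : Opens X} (h : W ≤ V) {F : CohTop.Ab X} (φ ψ : LocCohZ.zq h ⟶ F) :
    LCZ.zqSec h (φ + ψ) = LCZ.zqSec h φ + LCZ.zqSec h ψ := by
  simp only [LCZ.zqSec, Preadditive.comp_add, map_add]

theorem res_zero_of_suppSec {U : Opens X} {F : CohTop.Ab X}
    (t : ((LocCohZ.sectSuppF U).obj F).obj.obj (op ⊤)) :
    LCZ.res F (le_top : U ≤ ⊤) ((LCZ.suppι U F).hom.app (op ⊤) t) = 0 := by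
  have h := LCZ.res_suppι U F (V := ⊤) t
  have h' := congrArg (LCZ.res F (le_inf le_top le_rfl : U ≤ ⊤ ⊓ U)) h
  rw [LCZ.res_res, map_zero] at h'
  exact h'

/-- Sections with support as maps out of `ℤ_X/ℤ_U`. -/
noncomputable def suppSecEquiv (U : Opens X) (F : CohTop.Ab X) :
    ((LocCohZ.sectSuppF U).obj F).obj.obj (op ⊤) ≃+ (LocCohZ.zq (le_top : U ≤ ⊤) ⟶ F) :=
  AddEquiv.ofBijective (AddMonoidHom.mk' (fun t => LCZ.zqHom _ _ (res_zero_of_suppSec t)) fun a b => by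
    refine LCZ.zqSec_injective _ ?_
    rw [LCZ.zqSec_zqHom, zqSec_add, LCZ.zqSec_zqHom, LCZ.zqSec_zqHom]
    exact map_add _ a b) (by
    refine ⟨fun a b e => ?_, fun ψ => ?_⟩
    · have e' : LCZ.zqSec _ (LCZ.zqHom _ _ (res_zero_of_suppSec a)) =
          LCZ.zqSec _ (LCZ.zqHom _ _ (res_zero_of_suppSec b)) := congrArg (LCZ.zqSec _) e
      rw [LCZ.zqSec_zqHom, LCZ.zqSec_zqHom] at e'
      exact LCZ.suppι_injective U F ⊤ e'
    · have hs : LCZ.res F (inf_le_left : ⊤ ⊓ U ≤ ⊤) (LCZ.zqSec (le_top : U ≤ ⊤) ψ) = 0 := by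
        rw [← LCZ.res_res F (le_top : U ≤ ⊤) inf_le_right, LCZ.res_zqSec, map_zero]
      obtain ⟨t, ht⟩ := LCZ.exists_suppι U hs
      refine ⟨t, LCZ.zqSec_injective _ ?_⟩
      exact (LCZ.zqSec_zqHom _ _ (res_zero_of_suppSec t)).trans ht)

theorem suppSecEquiv_naturality (U : Opens X) {F G : CohTop.Ab X} (φ : F ⟶ G)
    (t : ((LocCohZ.sectSuppF U).obj F).obj.obj (op ⊤)) :
    suppSecEquiv U G (((LocCohZ.sectSuppF U).map φ).hom.app (op ⊤) t) = suppSecEquiv U F t ≫ φ := by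
  refine LCZ.zqSec_injective _ ?_
  refine (LCZ.zqSec_zqHom _ _ (res_zero_of_suppSec _)).trans ?_
  rw [LCZ.zqSec_comp]
  exact (LCZ.suppι_map_apply U φ t).trans (congrArg _ (LCZ.zqSec_zqHom _ _ (res_zero_of_suppSec t)).symm)

/-- `H^p(X, ℋ^q_Z(F)) ⇒ H^n_Z(X, F)`. -/
theorem exists_supports (F : CohTop.Ab X) (U : Opens X) :
    ∃ (E : E₂CohomologicalSpectralSequence AddCommGrpCat.{u})
      (a : SpSeq.Abutment E (fun n : ℤ =>
        if 0 ≤ n then AddCommGrpCat.of (LocCohZ.HZc F n.toNat U) else AddCommGrpCat.of PUnit.{u + 1})),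
      (∀ n : ℤ, a.IsFinite n) ∧ SpSeq.IsBounded E ∧
      ∀ p q : ℤ, Nonempty ((E.page 2 le_rfl).X (p, q) ≅
        (if 0 ≤ p ∧ 0 ≤ q then AddCommGrpCat.of (CohTop.HU ((LocCohZ.HZsh U q.toNat).obj F) p.toNat ⊤)
          else AddCommGrpCat.of PUnit.{u + 1})) := by
  refine exists_ext (LocCohZ.sectSuppF U) (CohCx.freeSheaf (Opens.grothendieckTopology X) ⊤)
    (LocCohZ.zq (le_top : U ≤ ⊤))
    (fun G => (SiteCoh.secEquiv ⊤ _).trans (suppSecEquiv U G)) (fun {G G'} φ ψ => ?_)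
    (fun I hI q => ?_) F (fun n => AddCommGrpCat.of (LocCohZ.HZc F n U))
    (fun p q => AddCommGrpCat.of (CohTop.HU ((LocCohZ.HZsh U q).obj F) p ⊤)) _
    (AddCommGrpCat.isZero_of_subsingleton _) (fun n => ⟨AddEquiv.refl _⟩) (fun p q => ⟨AddEquiv.refl _⟩)
  · exact suppSecEquiv_naturality U φ (SiteCoh.secEquiv ⊤ _ ψ)
  · haveI := SiteCoh.injective_isFlasque I
    haveI := LCZ.isFlasque_sectSupp U I
    exact SiteCoh.flasque_acyclic _ (⊤ : Opens X) q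

variable {Y : TopCat.{u}} (f : X ⟶ Y) (V : Opens Y)

/-- Global sections vanishing on `V` of a direct image. -/
noncomputable def pushZqEquiv (F : CohTop.Ab X) :
    (LocCohZ.zq (le_top : V ≤ ⊤) ⟶ (CohTop.push f).obj F) ≃+
      (LocCohZ.zq (le_top : (Opens.map f).obj V ≤ ⊤) ⟶ F) where
  toFun φ := LCZ.zqHom (le_top : (Opens.map f).obj V ≤ ⊤) (LCZ.zqSec (le_top : V ≤ ⊤) φ)
    (LCZ.res_zqSec (le_top : V ≤ ⊤) φ)
  invFun ψ := LCZ.zqHom (le_top : V ≤ ⊤) (LCZ.zqSec (le_top : (Opens.map f).obj V ≤ ⊤) ψ)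
    (LCZ.res_zqSec (le_top : (Opens.map f).obj V ≤ ⊤) ψ)
  left_inv φ := LCZ.zqSec_injective _ ((LCZ.zqSec_zqHom _ _ _).trans (LCZ.zqSec_zqHom _ _ _))
  right_inv ψ := LCZ.zqSec_injective _ ((LCZ.zqSec_zqHom _ _ _).trans (LCZ.zqSec_zqHom _ _ _))
  map_add' a b := LCZ.zqSec_injective _ (by
    rw [LCZ.zqSec_zqHom, zqSec_add, zqSec_add, LCZ.zqSec_zqHom, LCZ.zqSec_zqHom])

theorem pushZqEquiv_naturality {F G : CohTop.Ab X} (g : F ⟶ G)
    (φ : LocCohZ.zq (le_top : V ≤ ⊤) ⟶ (CohTop.push f).obj F) :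
    pushZqEquiv f V G (φ ≫ (CohTop.push f).map g) = pushZqEquiv f V F φ ≫ g := by
  refine LCZ.zqSec_injective _ ?_
  refine (LCZ.zqSec_zqHom (F := G) (le_top : (Opens.map f).obj V ≤ ⊤)
    (LCZ.zqSec (le_top : V ≤ ⊤) (φ ≫ (CohTop.push f).map g))
    (LCZ.res_zqSec (le_top : V ≤ ⊤) (φ ≫ (CohTop.push f).map g))).trans ?_
  rw [LCZ.zqSec_comp, LCZ.zqSec_comp]
  exact congrArg _ (LCZ.zqSec_zqHom (F := F) (le_top : (Opens.map f).obj V ≤ ⊤)
    (LCZ.zqSec (le_top : V ≤ ⊤) φ) (LCZ.res_zqSec (le_top : V ≤ ⊤) φ)).symm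

/-- `H^p_{Y'}(Y, R^q f_* F) ⇒ H^n_{f⁻¹Y'}(X, F)`. -/
theorem exists_supports_push (F : CohTop.Ab X) :
    ∃ (E : E₂CohomologicalSpectralSequence AddCommGrpCat.{u})
      (a : SpSeq.Abutment E (fun n : ℤ =>
        if 0 ≤ n then AddCommGrpCat.of (LocCohZ.HZc F n.toNat ((Opens.map f).obj V))
        else AddCommGrpCat.of PUnit.{u + 1})),
      (∀ n : ℤ, a.IsFinite n) ∧ SpSeq.IsBounded E ∧
      ∀ p q : ℤ, Nonempty ((E.page 2 le_rfl).X (p, q) ≅
        (if 0 ≤ p ∧ 0 ≤ q then AddCommGrpCat.of (LocCohZ.HZc ((CohTop.Rpush f q.toNat).obj F) p.toNat V)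
          else AddCommGrpCat.of PUnit.{u + 1})) := by
  refine exists_ext (CohTop.push f) (LocCohZ.zq (le_top : V ≤ ⊤))
    (LocCohZ.zq (le_top : (Opens.map f).obj V ≤ ⊤)) (pushZqEquiv f V)
    (fun {G G'} g φ => pushZqEquiv_naturality f V g φ)
    (fun I hI q => ?_) F (fun n => AddCommGrpCat.of (LocCohZ.HZc F n ((Opens.map f).obj V)))
    (fun p q => AddCommGrpCat.of (LocCohZ.HZc ((CohTop.Rpush f q).obj F) p V)) _
    (AddCommGrpCat.isZero_of_subsingleton _) (fun n => ⟨AddEquiv.refl _⟩) (fun p q => ⟨AddEquiv.refl _⟩)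
  haveI : Injective ((CohTop.push f).obj I) := SiteCoh.push_injective (Opens.map f) I
  exact SiteCoh.subsingleton_ext_injective _ _ q

end Groth.Agent.GrothSS
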