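import Groth.Agent.GrothSS.Obj
import Groth.Agent.DerPlus.Acyclic
import Mathlib.CategoryTheory.Abelian.Injective.Extend

/-!
# A tower of injective complexes resolving the truncations of a complex
-/

set_option autoImplicit false
set_option linter.style.haveILetI false
set_option linter.unusedSectionVars false
set_option backward.isDefEq.respectTransparency false
set_option backward.isDefEq.respectTransparency.types false

universe w v v' u u'

open CategoryTheory Category Limits ComposableArrows
open scoped ZeroObject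

namespace Groth.Agent.GrothSS

theorem enoughInjectives_of_resolutions (A : Type u) [Category.{v} A] [Abelian A]
    [HasInjectiveResolutions A] : EnoughInjectives A :=
  ⟨fun X => ⟨{ J := (injectiveResolution X).cocomplex.X 0
               f := (injectiveResolution X).ι.f 0
               injective := (injectiveResolution X).injective 0
               mono := inferInstanceAs (Mono ((injectiveResolution X).ι.f 0)) }⟩⟩

section Cone

variable {A : Type u} [Category.{v} A] [Abelian A] {K L : CochainComplex A ℤ} (f : K ⟶ L)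

local notation "h₀" => HomotopyCategory.homologyFunctor A (ComplexShape.up ℤ) 0

theorem quasiIsoAt_iff_shift_map (i : ℤ) :
    QuasiIsoAt f i ↔ IsIso ((Functor.shift (h₀) i).map
      ((HomotopyCategory.quotient A (ComplexShape.up ℤ)).map f)) := by
  rw [quasiIsoAt_iff_isIso_homologyMap]
  exact (NatIso.isIso_map_iff (HomotopyCategory.homologyFunctorFactors A (ComplexShape.up ℤ) i) f).symm

/-- Value of the shifted homology functor. -/
noncomputable def shiftObjIso (M : CochainComplex A ℤ) (i : ℤ) :
    (Functor.shift (h₀) i).obj ((HomotopyCategory.quotient A (ComplexShape.up ℤ)).obj M) ≅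
      M.homology i :=
  (HomotopyCategory.homologyFunctorFactors A (ComplexShape.up ℤ) i).app M

theorem exactAt_cone (i : ℤ) (h1 : QuasiIsoAt f i ∨ L.ExactAt i) (h2 : QuasiIsoAt f (i + 1) ∨ K.ExactAt (i + 1)) :
    (CochainComplex.mappingCone f).ExactAt i := by
  have hT := HomotopyCategory.mappingCone_triangleh_distinguished f
  set T := CochainComplex.mappingCone.triangleh f
  have he : Epi ((Functor.shift (h₀) i).map T.mor₁) := by
    rcases h1 with h1 | h1
    · haveI := (quasiIsoAt_iff_shift_map f i).1 h1
      exact (inferInstance : Epi ((Functor.shift (h₀) i).map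
        ((HomotopyCategory.quotient A (ComplexShape.up ℤ)).map f)))
    · exact ⟨fun a b _ => (IsZero.of_iso h1.isZero_homology (shiftObjIso L i)).eq_of_src _ _⟩
  have hm : Mono ((Functor.shift (h₀) (i + 1)).map T.mor₁) := by
    rcases h2 with h2 | h2
    · haveI := (quasiIsoAt_iff_shift_map f (i + 1)).1 h2
      exact (inferInstance : Mono ((Functor.shift (h₀) (i + 1)).map
        ((HomotopyCategory.quotient A (ComplexShape.up ℤ)).map f)))
    · exact ⟨fun a b _ => (IsZero.of_iso h2.isZero_homology (shiftObjIso K (i + 1))).eq_of_tgt _ _⟩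
  have z1 : (Functor.shift (h₀) i).map T.mor₂ = 0 :=
    (Functor.homologySequence_epi_shift_map_mor₁_iff (h₀) T hT i).1 he
  have z2 : Functor.homologySequenceδ (h₀) T i (i + 1) rfl = 0 :=
    (Functor.homologySequence_mono_shift_map_mor₁_iff (h₀) T hT i (i + 1) rfl).1 hm
  have hz : IsZero ((Functor.shift (h₀) i).obj T.obj₃) :=
    (Functor.homologySequence_exact₃ (h₀) T hT i (i + 1) rfl).isZero_X₂ z1 z2
  rw [HomologicalComplex.exactAt_iff_isZero_homology]
  exact hz.of_iso (shiftObjIso (CochainComplex.mappingCone f) i).symm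

theorem nonempty_cone_homology_iso (i : ℤ) (h1 : L.ExactAt i) (h2 : L.ExactAt (i + 1)) :
    Nonempty ((CochainComplex.mappingCone f).homology i ≅ K.homology (i + 1)) := by
  have hT := HomotopyCategory.mappingCone_triangleh_distinguished f
  set T := CochainComplex.mappingCone.triangleh f
  haveI : Mono (Functor.homologySequenceδ (h₀) T i (i + 1) rfl) :=
    (Functor.homologySequence_exact₃ (h₀) T hT i (i + 1) rfl).mono_g
      ((IsZero.of_iso h1.isZero_homology (shiftObjIso L i)).eq_of_src _ _)
  haveI : Epi (Functor.homologySequenceδ (h₀) T i (i + 1) rfl) :=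
    (Functor.homologySequence_exact₁ (h₀) T hT i (i + 1) rfl).epi_f
      ((IsZero.of_iso h2.isZero_homology (shiftObjIso L (i + 1))).eq_of_tgt _ _)
  haveI : IsIso (Functor.homologySequenceδ (h₀) T i (i + 1) rfl) := isIso_of_mono_of_epi _
  exact ⟨(shiftObjIso (CochainComplex.mappingCone f) i).symm ≪≫
    asIso (Functor.homologySequenceδ (h₀) T i (i + 1) rfl) ≪≫ shiftObjIso K (i + 1)⟩

theorem exactAt_of_lt (M : CochainComplex A ℤ) (a i : ℤ) (hi : i < a) [M.IsStrictlyGE a] :
    M.ExactAt i :=
  ShortComplex.exact_of_isZero_X₂ _ (CochainComplex.isZero_of_isStrictlyGE M a i hi)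

end Cone

section Tower

variable {A : Type u} [Category.{v} A] [Abelian A] [EnoughInjectives A]

/-- A complex of injectives in degrees `≥ q`. -/
structure Step (A : Type u) [Category.{v} A] [Abelian A] (q : ℕ) where
  /-- the complex -/
  cx : CochainComplex A ℤ
  inj : ∀ n, Injective (cx.X n)
  ge : cx.IsStrictlyGE q

theorem exists_next {q : ℕ} (W : Step A q) :
    ∃ (W' : Step A (q + 1)) (f : W.cx ⟶ W'.cx), ∀ i : ℤ, (q : ℤ) + 1 ≤ i → QuasiIsoAt f i := by
  obtain ⟨L, j, hj, hL, hge⟩ := CochainComplex.Plus.modelCategoryQuillen.exists_quasiIso_injective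
    (W.cx.truncGE ((q + 1 : ℕ) : ℤ)) ((q + 1 : ℕ) : ℤ)
  refine ⟨⟨L, hL, hge⟩, W.cx.πTruncGE _ ≫ j, fun i hi => ?_⟩
  haveI := W.cx.quasiIsoAt_πTruncGE ((q + 1 : ℕ) : ℤ) i (by omega)
  infer_instance

/-- The next step. -/
noncomputable def next {q : ℕ} (W : Step A q) : Step A (q + 1) := (exists_next W).choose

/-- The map to the next step. -/
noncomputable def nextMap {q : ℕ} (W : Step A q) : W.cx ⟶ (next W).cx :=
  (exists_next W).choose_spec.choose

theorem quasiIsoAt_nextMap {q : ℕ} (W : Step A q) (i : ℤ) (hi : (q : ℤ) + 1 ≤ i) :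
    QuasiIsoAt (nextMap W) i :=
  (exists_next W).choose_spec.choose_spec i hi

variable (W₀ : Step A 0)

/-- The tower. -/
noncomputable def tower : ∀ q : ℕ, Step A q
  | 0 => W₀
  | q + 1 => next (tower q)

theorem nonempty_tower_homology_iso (q : ℕ) (i : ℤ) (hi : (q : ℤ) ≤ i) :
    Nonempty ((tower W₀ q).cx.homology i ≅ W₀.cx.homology i) := by
  induction q with
  | zero => exact ⟨Iso.refl _⟩
  | succ q ih =>
    haveI := quasiIsoAt_nextMap (tower W₀ q) i (by omega)
    exact ⟨(isoOfQuasiIsoAt (nextMap (tower W₀ q)) i).symm ≪≫ (ih (by omega)).some⟩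

/-- The tower as a functor. -/
noncomputable def towerNat : ℕ ⥤ CochainComplex A ℤ :=
  Functor.ofSequence (X := fun q => (tower W₀ q).cx) fun q => nextMap (tower W₀ q)

/-- objects of the extended tower -/
noncomputable def topObj : WithTop ℕ → CochainComplex A ℤ
  | (n : ℕ) => (towerNat W₀).obj n
  | ⊤ => 0

/-- maps of the extended tower -/
noncomputable def topMap : ∀ {a b : WithTop ℕ}, a ≤ b → (topObj W₀ a ⟶ topObj W₀ b)
  | (a : ℕ), (b : ℕ), h => (towerNat W₀).map (homOfLE (WithTop.coe_le_coe.1 h))
  | (_ : ℕ), ⊤, _ => 0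
  | ⊤, ⊤, _ => 0
  | ⊤, (b : ℕ), h => absurd h (not_le.2 (WithTop.coe_lt_top b))

/-- The extended tower. -/
noncomputable def topFunctor : WithTop ℕ ⥤ CochainComplex A ℤ where
  obj := topObj W₀
  map h := topMap W₀ (leOfHom h)
  map_id a := by
    cases a with
    | top => exact (isZero_zero (CochainComplex A ℤ)).eq_of_src _ _
    | coe a => exact (towerNat W₀).map_id a
  map_comp {a b c} f g := by
    cases c with
    | top => exact (isZero_zero (CochainComplex A ℤ)).eq_of_tgt _ _
    | coe c =>
      cases b with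
      | top => exact absurd (leOfHom g) (not_le.2 (WithTop.coe_lt_top c))
      | coe b =>
        cases a with
        | top => exact absurd (leOfHom f) (not_le.2 (WithTop.coe_lt_top b))
        | coe a =>
          exact (towerNat W₀).map_comp (homOfLE (WithTop.coe_le_coe.1 (leOfHom f)))
            (homOfLE (WithTop.coe_le_coe.1 (leOfHom g)))

/-- The index map. -/
def ix : EInt → WithTop ℕ :=
  WithBotTop.rec (motive := fun _ => WithTop ℕ) ((0 : ℕ) : WithTop ℕ)
    (fun q : ℤ => ((q.toNat : ℕ) : WithTop ℕ)) ⊤

theorem ix_mono : Monotone ix := by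
  intro i j h
  induction i using WithBotTop.rec with
  | bot => exact bot_le.trans_eq' (by rfl)
  | coe i =>
    induction j using WithBotTop.rec with
    | bot => exact absurd h (by simp)
    | coe j =>
      show ((i.toNat : ℕ) : WithTop ℕ) ≤ ((j.toNat : ℕ) : WithTop ℕ)
      simp only [WithBotTop.coe_le_coe] at h
      exact WithTop.coe_le_coe.2 (Int.toNat_le_toNat h)
    | top => exact le_top
  | top =>
    induction j using WithBotTop.rec with
    | bot => exact absurd h (by simp)
    | coe j => exact absurd h (by simp)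
    | top => exact le_rfl

/-- The functor on `EInt`. -/
noncomputable def resTower : EInt ⥤ CochainComplex A ℤ := ix_mono.functor ⋙ topFunctor W₀

theorem isIso_resTower_map (i j : EInt) (h : i ≤ j) (hj : j ≤ ((0 : ℤ) : EInt)) :
    IsIso ((resTower W₀).map (homOfLE h)) := by
  have h0 : ∀ k : EInt, k ≤ ((0 : ℤ) : EInt) → ix k ≤ ((0 : ℕ) : WithTop ℕ) := fun k hk => by
    exact (ix_mono hk).trans_eq rfl
  haveI : IsIso (homOfLE (ix_mono h)) := ⟨homOfLE ((h0 j hj).trans (bot_le)),
    Subsingleton.elim _ _, Subsingleton.elim _ _⟩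
  exact inferInstanceAs (IsIso ((topFunctor W₀).map (homOfLE (ix_mono h))))

theorem isStrictlyGE_resTower (n : ℤ) (i : EInt) (hi : (n : EInt) < i) :
    ((resTower W₀).obj i).IsStrictlyGE (n + 1) := by
  induction i using WithBotTop.rec with
  | bot => exact absurd hi (by simp)
  | coe i =>
    simp only [WithBotTop.coe_lt_coe] at hi
    change ((tower W₀ i.toNat).cx).IsStrictlyGE (n + 1)
    haveI := (tower W₀ i.toNat).ge
    exact CochainComplex.isStrictlyGE_of_ge _ (n + 1) (i.toNat : ℤ) (by omega)
  | top =>
    change (0 : CochainComplex A ℤ).IsStrictlyGE (n + 1)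
    rw [CochainComplex.isStrictlyGE_iff]
    exact fun k _ => (HomologicalComplex.eval A _ k).map_isZero (isZero_zero (CochainComplex A ℤ))

theorem resTower_map_succ (q : ℕ) :
    (resTower W₀).map (homOfLE (show ((q : ℤ) : EInt) ≤ (((q : ℤ) + 1 : ℤ) : EInt) by
      simp only [WithBotTop.coe_le_coe]; omega)) = nextMap (tower W₀ q) :=
  Functor.ofSequence_map_homOfLE_succ (X := fun q => (tower W₀ q).cx) (fun q => nextMap (tower W₀ q)) q

end Tower

end Groth.Agent.GrothSS
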