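import Groth.Agent.SpSeqPO.Abut
import Groth.Prelude.Def_WeakSerre

/-!
# A first quadrant spectral sequence with second page in a weak Serre class up to some row
-/

set_option autoImplicit false
set_option linter.style.haveILetI false
set_option backward.isDefEq.respectTransparency false
set_option backward.isDefEq.respectTransparency.types false

universe v u

open CategoryTheory CategoryTheory.Limits

namespace Groth.Agent.GrothSS

variable {C : Type u} [Category.{v} C] [Abelian C] (P : ObjectProperty C) [WSerre.IsWeakSerre P]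
  [P.IsClosedUnderIsomorphisms]

theorem mono_cokernel_map {A B C₀ : C} (d : A ⟶ B) (i : B ⟶ C₀) [Mono i] :
    Mono (cokernel.map d (d ≫ i) (𝟙 A) i (by simp)) := by
  refine Preadditive.mono_of_cancel_zero _ fun {T} g hg => ?_
  obtain ⟨T', π, hπ, a, ha⟩ := surjective_up_to_refinements_of_epi (cokernel.π d) g
  have h0 : (a ≫ i) ≫ cokernel.π (d ≫ i) = 0 := by
    have e := congrArg (π ≫ ·) hg
    rw [reassoc_of% ha, cokernel.π_desc, comp_zero] at e
    rw [Category.assoc]
    exact e
  obtain ⟨T'', π', hπ', b, hb⟩ := (ShortComplex.exact_cokernel (d ≫ i)).exact_up_to_refinements (a ≫ i) h0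
  have hab : π' ≫ a = b ≫ d := by
    rw [← cancel_mono i]
    simpa [Category.assoc] using hb
  rw [← cancel_epi π, ← cancel_epi π', comp_zero, comp_zero, ha, reassoc_of% hab, cokernel.condition, comp_zero]

variable {ι : Type*} {c : ComplexShape ι} (K : HomologicalComplex C c)

theorem prop_homology (j : ι) (h₀ : P (K.X (c.prev j))) (h₁ : P (K.X j)) {C' : C} (i : K.X (c.next j) ⟶ C')
    [Mono i] (hC : P C') : P (K.homology j) := by
  have hk : P (kernel (K.d j (c.next j))) :=
    P.prop_of_iso (kernelCompMono _ i) (P.prop_kernel _ h₁ hC)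
  have hz : P (K.cycles j) := P.prop_of_iso (K.sc j).cyclesIsoKernel.symm hk
  exact P.prop_of_isColimit_cokernelCofork (K.homologyIsCokernel (c.prev j) j rfl) h₀ hz

omit [P.IsClosedUnderIsomorphisms] in
theorem exists_mono_homology (j : ι) (h₀ : P (K.X (c.prev j))) {C' : C} (i : K.X j ⟶ C') [Mono i] (hC : P C') :
    ∃ (C'' : C) (i' : K.homology j ⟶ C''), Mono i' ∧ P C'' := by
  haveI := mono_cokernel_map (K.sc j).f i
  exact ⟨_, K.homologyι j ≫ (K.sc j).opcyclesIsoCokernel.hom ≫
    cokernel.map (K.sc j).f ((K.sc j).f ≫ i) (𝟙 _) i (by simp), inferInstance, P.prop_cokernel _ h₀ hC⟩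

variable {E : E₂CohomologicalSpectralSequence C}

/-- The invariant on the pages. -/
theorem prop_pages (n : ℤ) (h₂ : ∀ p q : ℤ, q ≤ n → p + q ≤ n + 1 → P ((E.page 2 le_rfl).X (p, q)))
    (h0 : ∀ p q : ℤ, p < 0 ∨ q < 0 → IsZero ((E.page 2 le_rfl).X (p, q))) :
    ∀ (k : ℤ) (hk : 2 ≤ k) (p q : ℤ), q ≤ n →
      (p + q ≤ n → P ((E.page k hk).X (p, q))) ∧
      (p + q ≤ n + 1 → ∃ (C' : C) (i : (E.page k hk).X (p, q) ⟶ C'), Mono i ∧ P C') := by
  intro k hk
  induction k, hk using Int.le_induction with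
  | base => exact fun p q hq => ⟨fun h => h₂ p q hq (by omega), fun h => ⟨_, 𝟙 _, inferInstance, h₂ p q hq h⟩⟩
  | succ k hk ih =>
    intro p q hq
    have hp : p + q ≤ n + 1 → P ((E.page k hk).X ((p, q) - (k, 1 - k))) := fun h => by
      by_cases hz : p - k < 0
      · exact P.prop_of_isZero ((Groth.Agent.S8355.result E 2 le_rfl _ (h0 _ _ (Or.inl hz))).1 k hk)
      · exact (ih (p - k) (q - (1 - k)) (by omega)).1 (by omega)
    refine ⟨fun h => ?_, fun h => ?_⟩
    · refine P.prop_of_iso (E.iso k (k + 1) (p, q) rfl hk) ?_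
      obtain ⟨C', i, hi, hC⟩ := (ih (p + k) (q + (1 - k)) (by omega)).2 (by omega)
      exact prop_homology P (E.page k hk) (p, q) (by rw [SpSeqPO.prev_up']; exact hp (by omega))
        ((ih p q hq).1 h) (eqToHom (by rw [SpSeqPO.next_up']; rfl) ≫ i) hC
    · obtain ⟨C', i, hi, hC⟩ := (ih p q hq).2 h
      obtain ⟨C'', i', hi', hC'⟩ := exists_mono_homology P (E.page k hk) (p, q)
        (by rw [SpSeqPO.prev_up']; exact hp h) i hC
      exact ⟨C'', (E.iso k (k + 1) (p, q) rfl hk).inv ≫ i', inferInstance, hC'⟩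

/-- **The abutment lies in the class up to the same degree.** -/
theorem prop_abutment {H : ℤ → C} (a : SpSeq.Abutment E H) (n m : ℤ) (hm : m ≤ n) (hfin : a.IsFinite m)
    (h₂ : ∀ p q : ℤ, q ≤ n → p + q ≤ n + 1 → P ((E.page 2 le_rfl).X (p, q)))
    (h0 : ∀ p q : ℤ, p < 0 ∨ q < 0 → IsZero ((E.page 2 le_rfl).X (p, q))) : P (H m) := by
  obtain ⟨⟨A, hA⟩, ⟨B, hB⟩⟩ := hfin
  change a.fil m A = ⊤ at hA
  change a.fil m B = ⊥ at hB
  have hgr : ∀ s, P (SpSeq.grPiece (a.fil m) (a.anti m) s) := fun s => by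
    obtain ⟨e⟩ := SpSeqPO.nonempty_gr_iso_stat a (s, m - s) _ (a.stat _) m (add_sub_cancel s m)
    refine P.prop_of_iso e.symm ?_
    by_cases hs : s < 0
    · exact P.prop_of_isZero ((Groth.Agent.S8355.result E 2 le_rfl _ (h0 s (m - s) (Or.inl hs))).1 _ (a.stat _).1)
    · exact (prop_pages P n h₂ h0 _ (a.stat _).1 s (m - s) (by omega)).1 (by omega)
  have hfil : ∀ (j : ℕ) (s : ℤ), B ≤ s + j → P (a.fil m s : C) := by
    intro j
    induction j with
    | zero =>
      intro s hs
      rw [le_bot_iff.1 (hB ▸ a.anti m (show B ≤ s by omega) : a.fil m s ≤ ⊥)]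
      exact P.prop_of_isZero ((isZero_zero C).of_iso Subobject.botCoeIsoZero)
    | succ j ih =>
      intro s hs
      have hS : (ShortComplex.mk ((a.fil m (s + 1)).ofLE (a.fil m s) (a.anti m (Int.le_add_one le_rfl)))
          (cokernel.π _) (cokernel.condition _)).ShortExact :=
        { exact := ShortComplex.exact_cokernel _ }
      exact P.prop_X₂_of_shortExact hS (ih (s + 1) (by omega)) (hgr s)
  haveI : IsIso (a.fil m A).arrow := (Subobject.isIso_arrow_iff_eq_top _).2 hA
  exact P.prop_of_iso (asIso (a.fil m A).arrow) (hfil (B - A).toNat A (by omega))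

end Groth.Agent.GrothSS
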